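import Groth.Agent.FlatSect.Basic
import Mathlib.RingTheory.Finiteness.Basic

/-!
Direct images and flatness over the base under restriction to an open of the base.
-/

set_option autoImplicit false
set_option linter.style.haveILetI false

universe u

open CategoryTheory CategoryTheory.Limits AlgebraicGeometry TopologicalSpace Opposite

noncomputable section

namespace Groth.Agent.TwistFlat

/-- A semilinear bijection along a ring isomorphism preserves flatness and finiteness. -/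
theorem flat_and_finite_iff {A B N N' : Type u} [CommRing A] [CommRing B] [AddCommGroup N]
    [AddCommGroup N'] [Module A N] [Module B N'] (σ : A ≃+* B) (ε : N ≃+ N')
    (hε : ∀ (a : A) (m : N), ε (a • m) = σ a • ε m) :
    (Module.Flat A N ↔ Module.Flat B N') ∧ (Module.Finite A N ↔ Module.Finite B N') := by
  letI : Module B N := Module.compHom N σ.symm.toRingHom
  let e : N ≃ₗ[B] N' :=
    { ε with
      map_smul' := fun b m => by
        show ε (σ.symm b • m) = b • ε m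
        rw [hε, σ.apply_symm_apply] }
  haveI : RingHomSurjective (σ : A →+* B) := ⟨σ.surjective⟩
  haveI : RingHomSurjective (σ.symm : B →+* A) := ⟨σ.symm.surjective⟩
  refine ⟨(FlatSect.flat_iff_of_ringEquiv (A := A) (B := B) N σ fun a m => ?_).trans
    (Module.Flat.equiv_iff e), ⟨fun h => ?_, fun h => ?_⟩⟩
  · show σ.symm (σ a) • m = a • m
    rw [σ.symm_apply_apply]
  · let f : N →ₛₗ[(σ : A →+* B)] N' :=
      { toFun := ε, map_add' := map_add ε, map_smul' := hε }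
    exact Module.Finite.of_surjective f ε.surjective
  · let f : N' →ₛₗ[(σ.symm : B →+* A)] N :=
      { toFun := ε.symm
        map_add' := map_add ε.symm
        map_smul' := fun b m => ε.injective (by
          rw [ε.apply_symm_apply, hε, ε.apply_symm_apply]
          exact congrArg (· • m) (σ.apply_symm_apply b).symm) }
    exact Module.Finite.of_surjective f ε.symm.surjective

variable {P' P S' S : Scheme.{u}} {q : P' ⟶ S'} {h : P' ⟶ P} {j : S' ⟶ S} {π : P ⟶ S}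
  [IsOpenImmersion h] [IsOpenImmersion j]

theorem appLE_image (w : q ≫ j = h ≫ π) (U : P'.Opens) (e : U ≤ q ⁻¹ᵁ ⊤)
    (e' : h ''ᵁ U ≤ π ⁻¹ᵁ (j ''ᵁ ⊤)) (a : Γ(S', ⊤)) :
    π.appLE (j ''ᵁ ⊤) (h ''ᵁ U) e' ((j.appIso ⊤).inv a) = (h.appIso U).inv (q.appLE ⊤ U e a) := by
  have key : (j.appIso ⊤).inv ≫ π.appLE (j ''ᵁ ⊤) (h ''ᵁ U) e' ≫ (h.appIso U).hom =
      q.appLE ⊤ U e := by
    rw [Scheme.Hom.appIso_hom', Scheme.Hom.appLE_comp_appLE]
    simp only [← w]
    rw [← Scheme.Hom.appLE_comp_appLE q j (j ''ᵁ ⊤) ⊤ U (j.preimage_image_eq ⊤).ge e,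
      ← Scheme.Hom.appIso_hom', Iso.inv_hom_id_assoc]
  have h1 := congr($key a)
  rw [← h1]
  exact (Iso.hom_inv_id_apply (h.appIso U) _).symm

variable (H : IsPullback q h j π) (M : P.Modules)

include H in
/-- Sections of the direct image over an open of the base, semilinearly. -/
theorem exists_pushEquiv :
    ∃ ε : Γ((Coh.push q).obj (M.restrict h), ⊤) ≃+ Γ((Coh.push π).obj M, j ''ᵁ ⊤),
      ∀ (a : Γ(S', ⊤)) (m : Γ((Coh.push q).obj (M.restrict h), ⊤)),
        ε (a • m) = (j.appIso ⊤).inv a • ε m := by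
  have heq : h ''ᵁ (q ⁻¹ᵁ ⊤) = π ⁻¹ᵁ (j ''ᵁ ⊤) :=
    AlgebraicGeometry.IsOpenImmersion.image_preimage_eq_preimage_image_of_isPullback H ⊤
  refine ⟨(M.presheaf.mapIso (eqToIso heq.symm).op).addCommGroupIsoToAddEquiv, fun a m => ?_⟩
  let a' : Γ(P, h ''ᵁ (q ⁻¹ᵁ ⊤)) := (h.appIso (q ⁻¹ᵁ ⊤)).inv (q.app ⊤ a)
  let m' : Γ(M, h ''ᵁ (q ⁻¹ᵁ ⊤)) := m
  refine (Scheme.Modules.map_smul M (eqToHom heq.symm) a' m').trans ?_
  refine congrArg (fun t : Γ(P, π ⁻¹ᵁ (j ''ᵁ ⊤)) => t • (show Γ(M, π ⁻¹ᵁ (j ''ᵁ ⊤)) from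
    (M.presheaf.mapIso (eqToIso heq.symm).op).addCommGroupIsoToAddEquiv m)) ?_
  show P.presheaf.map _ ((h.appIso (q ⁻¹ᵁ ⊤)).inv (q.app ⊤ a)) = π.app _ ((j.appIso ⊤).inv a)
  rw [Scheme.Hom.app_eq_appLE (f := q), ← appLE_image H.w (q ⁻¹ᵁ ⊤) le_rfl heq.le a,
    ← CommRingCat.comp_apply, Scheme.Hom.appLE_map, ← Scheme.Hom.app_eq_appLE]

include H in
/-- Sections of the direct image over an open of the base. -/
theorem flat_finite_push_restrict :
    (Module.Flat Γ(S', ⊤) Γ((Coh.push q).obj (M.restrict h), ⊤) ↔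
      Module.Flat Γ(S, j ''ᵁ ⊤) Γ((Coh.push π).obj M, j ''ᵁ ⊤)) ∧
    (Module.Finite Γ(S', ⊤) Γ((Coh.push q).obj (M.restrict h), ⊤) ↔
      Module.Finite Γ(S, j ''ᵁ ⊤) Γ((Coh.push π).obj M, j ''ᵁ ⊤)) := by
  obtain ⟨ε, hε⟩ := exists_pushEquiv H M
  exact flat_and_finite_iff (j.appIso ⊤).symm.commRingCatIsoToRingEquiv ε hε

variable [IsAffine S'] [M.IsQuasicoherent] [(M.restrict h).IsQuasicoherent]

include H in
theorem isFlatOver_restrict_iff :
    FlatMod.IsFlatOver q (M.restrict h) ↔ ∀ x, FlatMod.IsFlatOverAt π M (h x) := by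
  have hV : IsAffineOpen (j ''ᵁ ⊤) := (isAffineOpen_top S').image_of_isOpenImmersion j
  have main : ∀ (U : P'.Opens) (e : U ≤ q ⁻¹ᵁ ⊤) (e' : h ''ᵁ U ≤ π ⁻¹ᵁ (j ''ᵁ ⊤)),
      (@Module.Flat Γ(S', ⊤) Γ(M.restrict h, U) _ _ (Module.compHom _ (q.appLE ⊤ U e).hom) ↔
        @Module.Flat Γ(S, j ''ᵁ ⊤) Γ(M, h ''ᵁ U) _ _
          (Module.compHom _ (π.appLE (j ''ᵁ ⊤) (h ''ᵁ U) e').hom)) := fun U e e' => by
    letI := Module.compHom Γ(M.restrict h, U) (q.appLE ⊤ U e).hom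
    letI := Module.compHom Γ(M, h ''ᵁ U) (π.appLE (j ''ᵁ ⊤) (h ''ᵁ U) e').hom
    exact (flat_and_finite_iff (N := Γ(M.restrict h, U)) (N' := Γ(M, h ''ᵁ U))
      (j.appIso ⊤).symm.commRingCatIsoToRingEquiv (AddEquiv.refl _) fun a m =>
        congrArg (fun t : Γ(P, h ''ᵁ U) => t • (show Γ(M, h ''ᵁ U) from m))
          (appLE_image H.w U e e' a).symm).1
  have hle : ∀ U : P'.Opens, h ''ᵁ U ≤ π ⁻¹ᵁ (j ''ᵁ ⊤) := fun U =>
    (h.image_mono (le_top : U ≤ q ⁻¹ᵁ ⊤)).trans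
      (AlgebraicGeometry.IsOpenImmersion.image_preimage_eq_preimage_image_of_isPullback H ⊤).le
  constructor
  · intro hfl x
    obtain ⟨U, hU, hxU, -⟩ := exists_isAffineOpen_mem_and_subset (U := (⊤ : P'.Opens)) (x := x) trivial
    refine FlatSect.isFlatOverAt_of_flat_sections π hV (hU.image_of_isOpenImmersion h) (hle U) M
      ((main U le_top (hle U)).1 ?_) (h x) ⟨x, hxU, rfl⟩
    exact FlatSect.flat_sections_of_isFlatOverAt q (isAffineOpen_top _) hU le_top _ fun y _ => hfl y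
  · intro hfl x
    obtain ⟨U, hU, hxU, -⟩ := exists_isAffineOpen_mem_and_subset (U := (⊤ : P'.Opens)) (x := x) trivial
    refine FlatSect.isFlatOverAt_of_flat_sections q (isAffineOpen_top _) hU le_top _
      ((main U le_top (hle U)).2 ?_) x hxU
    refine FlatSect.flat_sections_of_isFlatOverAt π hV (hU.image_of_isOpenImmersion h) (hle U) M ?_
    rintro y ⟨z, -, rfl⟩
    exact hfl z

end Groth.Agent.TwistFlat
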