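import Groth.Agent.CBC.Rel
import Groth.Agent.CBC.Setup
import Groth.Agent.FlatSect.Basic
import Groth.Agent.FlatMor.FlatLemmas
import Groth.Agent.LimTop.TwistSec
import Groth.Agent.LimTop.TensorQC
import Groth.Agent.ProjTwist.Tensor
import Groth.Agent.AmpleLib.Twist
import Groth.Agent.ModShf.GrothAb
import Mathlib.RingTheory.Flat.EquationalCriterion
import Mathlib.Algebra.Module.LocalizedModule.Int

/-!
Flatness over the base through direct images of twists (Stacks 0 / EGA III 7.9).
-/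

set_option autoImplicit false
set_option linter.style.haveILetI false

universe u

open CategoryTheory CategoryTheory.Limits AlgebraicGeometry TopologicalSpace Opposite

noncomputable section

namespace Groth.Agent.TwistFlat

open Groth.Agent.QCoh Groth.Agent.Props.GenLocus Groth.Agent.Props.GenTensor Groth.Agent.Props.GenProd
open Groth.Agent.ProjTwist Groth.Agent.LimTop.TwistSec Groth.Agent.AmpleLib

variable {X Y : Scheme.{u}}

/-! ### from vanishing -/

theorem flat_Z₀_zero {A : Type u} [CommRing A] (K : CBC.SCx A) (hX : ∀ n, Module.Flat A (K.X n))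
    {r : ℕ} (hr : ∀ (M : Type u) [AddCommGroup M] [Module A M] (n : ℕ), r ≤ n →
      Subsingleton (K.H M n))
    (h0 : ∀ n, Subsingleton (K.H₀ (n + 1))) : Module.Flat A (K.Z₀ 0) := by
  have step : ∀ n, Module.Flat A (K.B₀ (n + 1)) → Module.Flat A (K.Z₀ n) := fun n h => by
    haveI := hX n
    haveI := h
    have hker : LinearMap.ker (K.dB n) = K.Z₀ n := by
      ext x
      exact ⟨fun hx => congrArg Subtype.val (LinearMap.mem_ker.mp hx),
        fun hx => LinearMap.mem_ker.mpr (Subtype.ext hx)⟩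
    exact hker ▸ FlatMor.FlatLemmas.flat_ker (K.dB n) (K.dB_surjective n)
  have hZB : ∀ n, K.Z₀ (n + 1) = K.B₀ (n + 1) := fun n =>
    le_antisymm (fun x hx => by
      have := h0 n
      have h1 : (Submodule.Quotient.mk ⟨x, hx⟩ : K.H₀ (n + 1)) = 0 := Subsingleton.elim _ _
      rwa [Submodule.Quotient.mk_eq_zero] at h1) (K.B₀_le (n + 1))
  have key : ∀ k m, m + k = r → Module.Flat A (K.B₀ (m + 1)) := by
    intro k
    induction k with
    | zero =>
      intro m hm
      obtain rfl : m = r := by omega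
      haveI := hX (m + 1)
      exact K.flat_B₀_succ hr
    | succ k ih =>
      intro m hm
      rw [← hZB m]
      exact step (m + 1) (ih (m + 1) (by omega))
  exact step 0 (key r 0 (Nat.zero_add r))

theorem flat_push_of_vanishing (f : X ⟶ Y) [IsSeparated f] [QuasiCompact f] {V : Y.Opens}
    (hV : IsAffineOpen V) (D : CBC.Model f V) (F : X.Modules) [F.IsQuasicoherent]
    (hfl : FlatMod.IsFlatOver f F) (h0 : ∀ n, Subsingleton ((D.K F).H₀ (n + 1))) :
    Module.Flat Γ(Y, V) Γ((Coh.push f).obj F, V) := by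
  haveI := flat_Z₀_zero (D.K F) (fun n => D.flat_K F hV hfl n) (r := Nat.card D.ι)
    (fun M _ _ n hn => CBC.subsingleton_H hV D F M n hn) h0
  let e : (D.K F).H₀ 0 ≃ₗ[Γ(Y, V)] (D.K F).Z₀ 0 := Submodule.quotEquivOfEqBot _ (by
    ext z
    rw [Submodule.mem_comap, Submodule.mem_bot]
    exact ⟨fun h => Subtype.ext h, fun h => by rw [h]; exact zero_mem _⟩)
  exact Module.Flat.of_linearEquiv ((CBC.zeroEquiv D F).symm.trans e)

/-! ### invertible twists -/

theorem isInvertible_pow {L : X.Modules} (hL : PicF.IsInvertible L) (n : ℕ) :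
    PicF.IsInvertible (CohB1.tensorPow L n) :=
  isInvertible_of_exists_isGen fun x =>
    let ⟨U, e, hx, he⟩ := exists_isGen hL x
    ⟨U, pw L e n, hx, isGen_pw he n⟩

theorem exists_iso_pow_add {L : X.Modules} (hL : PicF.IsInvertible L) (n k : ℕ) :
    Nonempty (CohB1.tensorMod (CohB1.tensorPow L n) (CohB1.tensorPow L k) ≅
      CohB1.tensorPow L (n + k)) := by
  let ι := {p : Σ U : X.Opens, Γ(L, U) // IsGen L p.1 p.2}
  obtain ⟨φ, -⟩ := exists_iso_of_gen (fun i : ι ↦ i.1.1) (by
      intro x _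
      obtain ⟨U, e, hxU, he⟩ := exists_isGen hL x
      exact Opens.mem_iSup.mpr ⟨(⟨⟨U, e⟩, he⟩ : ι), hxU⟩)
    (fun i ↦ tmul (pw L i.1.2 n) (pw L i.1.2 k))
    (fun i ↦ isGen_tmul (isGen_pw i.2 n) (isGen_pw i.2 k))
    (fun i ↦ pw L i.1.2 (n + k)) (fun i ↦ isGen_pw i.2 (n + k)) (by
      rintro ⟨⟨U, e⟩, he⟩ ⟨⟨U', d⟩, hd⟩ V hi hj w hw
      obtain ⟨u, hu, -⟩ := he.exists_eq hi (res L hj d)
      dsimp only at *
      rw [res_tmul, res_tmul, res_pw_eq hi hj hu n, res_pw_eq hi hj hu k] at hw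
      simp only [tmul_smul_left, tmul_smul_right, smul_smul] at hw
      rw [← res_tmul] at hw
      rw [res_pw_eq hi hj hu (n + k),
        ← (isGen_tmul (isGen_pw he n) (isGen_pw he k)).injective hi hw, pow_add, mul_comm])
  exact ⟨φ⟩

/-- A section killed by `s^k` is killed by all higher powers. -/
theorem twist_eq_zero_add [CompactSpace X] {L : X.Modules} (hL : PicF.IsInvertible L)
    (s : Coh.structureModule X ⟶ L) (F : X.Modules) (t : Γ(F, ⊤)) {k : ℕ}
    (hk : SecTwist.twist s k F ⊤ t = 0) (N : ℕ) : SecTwist.twist s (k + N) F ⊤ t = 0 := by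
  obtain ⟨σ, _, W, e, f, hW, hcov, he, hf⟩ := exists_chart_cover hL s
  refine eq_zero_of_locally_eq_zero
    (CohB1.tensorMod F (CohB1.tensorPow L (k + N))) (U := W) (fun i => le_top)
    (fun x _ => Opens.mem_iSup.mpr (hcov x)) _ fun i => ?_
  have h1 := congrArg (res (CohB1.tensorMod F (CohB1.tensorPow L k)) (le_top : W i ≤ ⊤)) hk
  rw [twist_res, tmul_pw_eq s (hf i)] at h1
  have h1 := h1.trans (map_zero _)
  have h2 : f i ^ k • res F (le_top : W i ≤ ⊤) t = 0 :=
    tmul_gen_injective (isGen_pw (he i) k) le_rfl (by simpa [res_self, tmul_zero_left] using h1)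
  rw [twist_res, tmul_pw_eq s (hf i), add_comm k N, pow_add, mul_smul, h2, smul_zero, tmul_zero_left]

/-- Tensoring with an invertible module preserves flatness over the base. -/
theorem isFlatOver_tensor (f : X ⟶ Y) (F : X.Modules) [F.IsQuasicoherent] {L : X.Modules}
    (hL : PicF.IsInvertible L) (hfl : FlatMod.IsFlatOver f F) :
    FlatMod.IsFlatOver f (CohB1.tensorMod F L) := by
  haveI : L.IsQuasicoherent := isQCoh_of_isInvertible hL
  haveI : (CohB1.tensorMod F L).IsQuasicoherent := LimTop.TensorQC.isQuasicoherent_tensM F L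
  intro x
  obtain ⟨U₀, g, hxU₀, hg⟩ := exists_isGen hL x
  obtain ⟨V, hV, hxV, -⟩ := exists_isAffineOpen_mem_and_subset (U := (⊤ : Y.Opens)) (x := f x) trivial
  obtain ⟨U, hU, hxU, hUV⟩ := exists_isAffineOpen_mem_and_subset (U := U₀ ⊓ f ⁻¹ᵁ V) (x := x)
    ⟨hxU₀, hxV⟩
  have e : U ≤ f ⁻¹ᵁ V := fun z hz => (hUV hz).2
  have hle : U ≤ U₀ := fun z hz => (hUV hz).1
  refine FlatSect.isFlatOverAt_of_flat_sections f hV hU e _ ?_ x hxU
  letI : Module Γ(Y, V) Γ(F, U) := Module.compHom _ (f.appLE V U e).hom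
  letI : Module Γ(Y, V) Γ(CohB1.tensorMod F L, U) := Module.compHom _ (f.appLE V U e).hom
  haveI := FlatSect.flat_sections_of_isFlatOverAt f hV hU e F fun y _ => hfl y
  let φ : Γ(F, U) →ₗ[Γ(Y, V)] Γ(CohB1.tensorMod F L, U) :=
    { toFun := fun m => tmul m (res L hle g)
      map_add' := fun a b => tmul_add_left a b _
      map_smul' := fun r m => tmul_smul_left (f.appLE V U e r) m _ }
  exact Module.Flat.of_linearEquiv (LinearEquiv.ofBijective φ
    ⟨tmul_gen_injective hg hle, tmul_gen_surjective hg hle⟩).symm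

/-! ### to flatness -/

section Desc

variable (f : X ⟶ Y) {V : Y.Opens} {L : X.Modules}

theorem smul_push_eq (M : X.Modules) (r : Γ(Y, V)) (m : Γ(M, f ⁻¹ᵁ V)) :
    (r • (show Γ((Coh.push f).obj M, V) from m)) =
      (show Γ((Coh.push f).obj M, V) from f.app V r • m) := rfl

/-- All twists of `H` from some index on have flat direct image over `V`. -/
def TwFlat (L H : X.Modules) (V : Y.Opens) (N : ℕ) : Prop :=
  ∀ k : ℕ, N ≤ k → Module.Flat Γ(Y, V) Γ((Coh.push f).obj (CohB1.tensorMod H (CohB1.tensorPow L k)), V)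

def isoSec {M M' : X.Modules} (e : M ≅ M') :
    Γ((Coh.push f).obj M, V) ≃ₗ[Γ(Y, V)] Γ((Coh.push f).obj M', V) :=
  CBC.isoApp ((Coh.push f).mapIso e)

theorem twFlat_twist (hL : PicF.IsInvertible L) {H : X.Modules} {N : ℕ} (h : TwFlat f L H V N)
    (n : ℕ) : TwFlat f L (CohB1.tensorMod H (CohB1.tensorPow L n)) V N := fun k hk => by
  obtain ⟨e⟩ := exists_iso_pow_add hL n k
  haveI := h (n + k) (hk.trans (Nat.le_add_left k n))
  exact Module.Flat.of_linearEquiv
    (isoSec f (tensAssoc H (CohB1.tensorPow L n) (CohB1.tensorPow L k) ≪≫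
      tensCongr (Iso.refl H) e))

theorem exists_twTwIso (hL : PicF.IsInvertible L) (F : X.Modules) (m n : ℕ) :
    Nonempty (CohB1.tensorMod (CohB1.tensorMod F (CohB1.tensorPow L m)) (CohB1.tensorPow L n) ≅
      CohB1.tensorMod F (CohB1.tensorPow L (m + n))) :=
  ⟨tensAssoc F (CohB1.tensorPow L m) (CohB1.tensorPow L n) ≪≫
    tensCongr (Iso.refl F) (exists_iso_pow_add hL m n).some⟩

variable [CompactSpace X] [QuasiSeparatedSpace X] (hL : PicF.IsInvertible L)
  (s : Coh.structureModule X ⟶ L) (hV : V = ⊤)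

include hL hV in
/-- Finitely many relations between sections over `X_s` come from ones between global sections of a large twist. -/
theorem exists_lift_relations (F : X.Modules) [F.IsQuasicoherent] (N : ℕ)
    (e : CohB1.genLocus L s ≤ f ⁻¹ᵁ V) {l c : ℕ} (a : Fin c → Fin l → Γ(Y, V))
    (t : Fin l → Γ(F, CohB1.genLocus L s)) :
    letI : Module Γ(Y, V) Γ(F, CohB1.genLocus L s) :=
      Module.compHom _ (f.appLE V (CohB1.genLocus L s) e).hom
    (∀ i, ∑ j, a i j • t j = 0) →
    ∃ (k : ℕ) (_ : N ≤ k)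
      (g : Γ((Coh.push f).obj (CohB1.tensorMod F (CohB1.tensorPow L k)), V) →ₗ[Γ(Y, V)]
        Γ(F, CohB1.genLocus L s))
      (q : Fin l → Γ((Coh.push f).obj (CohB1.tensorMod F (CohB1.tensorPow L k)), V)),
      (∀ i, ∑ j, a i j • q j = 0) ∧ ∀ j, g (q j) = t j := by
  subst hV
  revert t
  set U := CohB1.genLocus L s
  letI hmod : ∀ M : X.Modules, Module Γ(Y, ⊤) Γ(M, U) := fun M =>
    Module.compHom _ (f.appLE ⊤ U e).hom
  have hgen : ∀ n, IsGen (CohB1.tensorPow L n) U (pw L (sec s U) n) := fun n =>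
    isGen_pw (isGen_genLocus s) n
  -- the twist on `U`, linearly and bijectively
  let ψ : ∀ (M : X.Modules) (n : ℕ), Γ(M, U) ≃ₗ[Γ(Y, ⊤)] Γ(CohB1.tensorMod M (CohB1.tensorPow L n), U) :=
    fun M n => LinearEquiv.ofBijective
      ({ toFun := fun m => tmul m (pw L (sec s U) n)
         map_add' := fun a b => tmul_add_left a b _
         map_smul' := fun r m => tmul_smul_left (f.appLE ⊤ U e r) m _ } :
        Γ(M, U) →ₗ[Γ(Y, ⊤)] Γ(CohB1.tensorMod M (CohB1.tensorPow L n), U))
      ⟨fun a b h => tmul_gen_injective (hgen n) le_rfl (by simpa [res_self] using h),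
        fun t => by
          obtain ⟨m, hm⟩ := tmul_gen_surjective (hgen n) le_rfl t
          exact ⟨m, by simpa [res_self] using hm⟩⟩
  -- the restriction to `U`, linearly
  let ρ : ∀ M : X.Modules, Γ((Coh.push f).obj M, ⊤) →ₗ[Γ(Y, ⊤)] Γ(M, U) := fun M =>
    { toFun := fun m => res M (le_top : U ≤ ⊤) (show Γ(M, ⊤) from m)
      map_add' := fun a b => map_add (res M (le_top : U ≤ ⊤)).hom (show Γ(M, ⊤) from a) (show Γ(M, ⊤) from b)
      map_smul' := fun r m =>
        (res_smul M (le_top : U ≤ ⊤) (f.app ⊤ r) (show Γ(M, ⊤) from m)).trans rfl }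
  -- the twist on global sections, linearly
  let τ : ∀ (n : ℕ) (M : X.Modules), Γ((Coh.push f).obj M, ⊤) →ₗ[Γ(Y, ⊤)]
      Γ((Coh.push f).obj (CohB1.tensorMod M (CohB1.tensorPow L n)), ⊤) := fun n M =>
    { toFun := fun x => SecTwist.twist s n M ⊤ (show Γ(M, ⊤) from x)
      map_add' := fun x y => tmul_add_left (show Γ(M, ⊤) from x) (show Γ(M, ⊤) from y) (SecTwist.pow s n ⊤)
      map_smul' := fun r x =>
        tmul_smul_left (f.app ⊤ r) (show Γ(M, ⊤) from x) (SecTwist.pow s n ⊤) }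
  have hψρ : ∀ (M : X.Modules) (n : ℕ) (m : Γ((Coh.push f).obj M, ⊤)),
      ρ _ (τ n M m) = ψ M n (ρ M m) := fun M n m => twist_res s n M le_top _
  have key : ∀ (l : ℕ) (t : Fin l → Γ(F, U)), ∃ (H : X.Modules) (_ : H.IsQuasicoherent)
      (m : ℕ) (_ : H ≅ CohB1.tensorMod F (CohB1.tensorPow L m)) (θ : Γ(F, U) ≃ₗ[Γ(Y, ⊤)] Γ(H, U)),
      ∀ j, ∃ m, ρ H m = θ (t j) := by
    intro l
    induction l with
    | zero => exact fun t => ⟨F, inferInstance, 0, (ProjTwist.tensOne F).symm, LinearEquiv.refl _ _,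
        fun j => j.elim0⟩
    | succ l ih =>
      intro t
      obtain ⟨H, hH, m₀, eH, θ, hθ⟩ := ih (fun j => t j.castSucc)
      haveI := hH
      obtain ⟨n, -, t', ht'⟩ := exists_twist_extends hL s H (θ (t (Fin.last l)))
      haveI : (CohB1.tensorPow L n).IsQuasicoherent := isQCoh_of_isInvertible (isInvertible_pow hL n)
      refine ⟨CohB1.tensorMod H (CohB1.tensorPow L n), LimTop.TensorQC.isQuasicoherent_tensM H (CohB1.tensorPow L n),
        m₀ + n, tensCongr eH (Iso.refl _) ≪≫ (exists_twTwIso hL F m₀ n).some,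
        θ.trans (ψ H n), fun j => ?_⟩
      induction j using Fin.lastCases with
      | last =>
        refine ⟨t', ht'.trans ?_⟩
        show tmul (θ (t (Fin.last l))) (SecTwist.pow s n U) = _
        rw [pow_eq]
        rfl
      | cast j =>
        obtain ⟨m, hm⟩ := hθ j
        exact ⟨τ n H m, ((hψρ H n m).trans (congrArg (ψ H n) hm) : _)⟩
  intro t hat
  obtain ⟨H, hH, m₀, eH, θ, hθ⟩ := key l t
  haveI := hH
  choose m hm using hθ
  let M₀ := Γ((Coh.push f).obj H, ⊤)
  have hz : ∀ i, res H (le_top : U ≤ ⊤) (show Γ(H, ⊤) from (∑ j, a i j • m j : M₀)) = 0 := fun i => by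
    show ρ H (∑ j, a i j • m j) = 0
    rw [map_sum]
    simp only [map_smul, hm]
    simp only [← map_smul, ← map_sum, hat i, map_zero]
  choose kk _ hkk using fun i => exists_twist_eq_zero hL s H _ (hz i)
  let k := Finset.univ.sup kk
  have hrel : ∀ i, ∑ j, a i j • τ (k + N) H (m j) = 0 := fun i => by
    simp only [← map_smul, ← map_sum]
    have := twist_eq_zero_add hL s H _ (hkk i) (k - kk i + N)
    rwa [← Nat.add_assoc, Nat.add_sub_cancel' (Finset.le_sup (Finset.mem_univ i))] at this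
  let E := isoSec f (V := ⊤) (tensCongr eH (Iso.refl _) ≪≫ (exists_twTwIso hL F m₀ (k + N)).some)
  refine ⟨m₀ + (k + N), (Nat.le_add_left N k).trans (Nat.le_add_left _ m₀),
    (θ.trans (ψ H (k + N))).symm.toLinearMap ∘ₗ ρ _ ∘ₗ E.symm.toLinearMap,
    fun j => E (τ (k + N) H (m j)), fun i => ?_, fun j => ?_⟩
  · rw [Finset.sum_congr rfl fun j _ => (map_smul E (a i j) _).symm, ← map_sum, hrel i, map_zero]
  · simp only [LinearMap.comp_apply, LinearEquiv.coe_coe, LinearEquiv.symm_apply_apply]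
    rw [LinearEquiv.symm_apply_eq, hψρ, hm j]
    rfl

include hL hV in
/-- A relation between sections over `X_s` comes from one between global sections of a large twist. -/
theorem exists_lift_relation (F : X.Modules) [F.IsQuasicoherent] (N : ℕ)
    (e : CohB1.genLocus L s ≤ f ⁻¹ᵁ V) {l : ℕ} (a : Fin l → Γ(Y, V))
    (t : Fin l → Γ(F, CohB1.genLocus L s)) :
    letI : Module Γ(Y, V) Γ(F, CohB1.genLocus L s) :=
      Module.compHom _ (f.appLE V (CohB1.genLocus L s) e).hom
    ∑ j, a j • t j = 0 →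
    ∃ (k : ℕ) (_ : N ≤ k)
      (g : Γ((Coh.push f).obj (CohB1.tensorMod F (CohB1.tensorPow L k)), V) →ₗ[Γ(Y, V)]
        Γ(F, CohB1.genLocus L s))
      (q : Fin l → Γ((Coh.push f).obj (CohB1.tensorMod F (CohB1.tensorPow L k)), V)),
      ∑ j, a j • q j = 0 ∧ ∀ j, g (q j) = t j := by
  intro hat
  obtain ⟨k, hk, g, q, hq, hg⟩ := exists_lift_relations f hL s hV F N e (fun _ : Fin 1 => a) t
    fun _ => hat
  exact ⟨k, hk, g, q, hq 0, hg⟩

omit [CompactSpace X] [QuasiSeparatedSpace X] in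
/-- Lifting of relations gives flatness. -/
theorem flat_of_lift_relation {A M : Type u} [CommRing A] [AddCommGroup M] [Module A M]
    (h : ∀ {l : ℕ} (a : Fin l → A) (t : Fin l → M), ∑ j, a j • t j = 0 →
      ∃ (Q : Type u) (_ : AddCommGroup Q) (_ : Module A Q) (_ : Module.Flat A Q) (g : Q →ₗ[A] M)
        (q : Fin l → Q), ∑ j, a j • q j = 0 ∧ ∀ j, g (q j) = t j) : Module.Flat A M := by
  refine Module.Flat.of_forall_isTrivialRelation fun {l a t} hat => ?_
  obtain ⟨Q, _, _, _, g, q, hq, hg⟩ := h a t hat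
  obtain ⟨p, b, y, hy, hab⟩ := Module.Flat.isTrivialRelation_of_sum_smul_eq_zero hq
  refine ⟨p, b, fun i => g (y i), fun j => ?_, hab⟩
  rw [← hg j, hy j, map_sum]
  simp only [map_smul]

/-- Lifting of relations to modules with flat localization gives flat localization. -/
theorem flat_localized_of_lift_relation {A M : Type u} [CommRing A] [AddCommGroup M] [Module A M]
    (S : Submonoid A)
    (h : ∀ {l : ℕ} (a : Fin l → A) (t : Fin l → M), ∑ j, a j • t j = 0 →
      ∃ (Q : Type u) (_ : AddCommGroup Q) (_ : Module A Q) (_ : Module.Flat A (LocalizedModule S Q))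
        (g : Q →ₗ[A] M) (q : Fin l → Q), ∑ j, a j • q j = 0 ∧ ∀ j, g (q j) = t j) :
    Module.Flat A (LocalizedModule S M) := by
  refine flat_of_lift_relation fun {l} a x hax => ?_
  let ι := LocalizedModule.mkLinearMap S M
  obtain ⟨s₀, hs₀⟩ := IsLocalizedModule.exist_integer_multiples S ι Finset.univ x
  choose t ht using fun j => hs₀ j (Finset.mem_univ j)
  obtain ⟨c, hc⟩ : ∃ c : S, c • ∑ j, a j • t j = c • (0 : M) := by
    refine (IsLocalizedModule.eq_iff_exists S ι).1 ?_
    rw [map_sum, map_zero]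
    simp only [map_smul, ht, smul_comm (a _) (s₀ : A)]
    rw [← Finset.smul_sum, hax, smul_zero]
  obtain ⟨Q, _, _, hQf, g, q, hq, hg⟩ := h (fun j => (c : A) * a j) t (by
    rw [smul_zero, Submonoid.smul_def, Finset.smul_sum] at hc
    rw [← hc]
    exact Finset.sum_congr rfl fun j _ => mul_smul _ _ _)
  let ιQ := LocalizedModule.mkLinearMap S Q
  let G : LocalizedModule S Q →ₗ[A] LocalizedModule S M := IsLocalizedModule.map S ιQ ι g
  obtain ⟨e, he⟩ : ∃ e : Module.End A (LocalizedModule S Q), ∀ z, e ((c : A) • (s₀ : A) • z) = (c : A) • z := by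
    obtain ⟨u, hu⟩ := (IsLocalizedModule.map_units ιQ s₀).exists_left_inv
    refine ⟨u, fun z => ?_⟩
    rw [map_smul]
    exact congrArg ((c : A) • ·) (LinearMap.congr_fun hu z)
  refine ⟨LocalizedModule S Q, inferInstance, inferInstance, hQf, G,
    fun j => e (ιQ (q j)), ?_, fun j => ?_⟩
  · have h1 : (c : A) • ∑ j, a j • e (ιQ (q j)) = 0 := by
      rw [Finset.smul_sum]
      simp only [smul_smul, ← map_smul, ← map_sum, hq, map_zero]
    exact IsLocalizedModule.smul_injective ιQ c (h1.trans (smul_zero c).symm)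
  · refine IsLocalizedModule.smul_injective ι (c * s₀) ?_
    show ((c : A) * (s₀ : A)) • G (e (ιQ (q j))) = ((c : A) * (s₀ : A)) • x j
    rw [← map_smul, ← map_smul, mul_smul, mul_smul, he, map_smul, IsLocalizedModule.map_apply, hg]
    exact congrArg ((c : A) • ·) (ht j)

include hL hV in
theorem flat_sections_genLocus (F : X.Modules) [F.IsQuasicoherent] {N : ℕ} (hF : TwFlat f L F V N)
    (e : CohB1.genLocus L s ≤ f ⁻¹ᵁ V) :
    letI : Module Γ(Y, V) Γ(F, CohB1.genLocus L s) :=
      Module.compHom _ (f.appLE V (CohB1.genLocus L s) e).hom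
    Module.Flat Γ(Y, V) Γ(F, CohB1.genLocus L s) := by
  letI : Module Γ(Y, V) Γ(F, CohB1.genLocus L s) :=
    Module.compHom _ (f.appLE V (CohB1.genLocus L s) e).hom
  refine flat_of_lift_relation fun {l} a t hat => ?_
  obtain ⟨k, hk, g, q, hq, hg⟩ := exists_lift_relation f hL s hV F N e a t hat
  exact ⟨_, inferInstance, inferInstance, hF k hk, g, q, hq, hg⟩

end Desc

end Groth.Agent.TwistFlat
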