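import Groth.Agent.TwistFlat.StratCrit
import Groth.Agent.PinchLib.Modules
import Groth.Agent.FittLib.Sheaf
import Groth.Agent.KFlat.LocFree
import Mathlib.AlgebraicGeometry.Morphisms.ClosedImmersion
import Mathlib.AlgebraicGeometry.Limits

/-!
Stratification by the fibre ranks of a sequence of modules with finitely many rank sequences.
-/

set_option autoImplicit false
set_option linter.style.haveILetI false

universe u

open CategoryTheory CategoryTheory.Limits AlgebraicGeometry TopologicalSpace Opposite Function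
  TensorProduct

noncomputable section

namespace Groth.Agent.TwistFlat

open Groth.Agent.Props

variable {S : Scheme.{u}}

theorem fibreRank_congr {M N : S.Modules} [M.IsQuasicoherent] [N.IsQuasicoherent] (e : M ≅ N)
    (s : S) : QRank.fibreRank M s = QRank.fibreRank N s := by
  obtain ⟨V, hV, hs, -⟩ := exists_isAffineOpen_mem_and_subset (X := S) (Opens.mem_top s)
  rw [fibreRank_eq_fib M hV s hs, fibreRank_eq_fib N hV s hs,
    FlatCx.fib_congr _ (CBC.isoApp (V := V) e)]

theorem fibreRank_eq_of_restrict_iso (M : S.Modules) [M.IsQuasicoherent] {U : S.Opens} {n : ℕ}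
    (e : M.restrict U.ι ≅ FlatMod.freeMod (U : Scheme.{u}) n) {s : S} (hs : s ∈ U) :
    QRank.fibreRank M s = n := by
  obtain ⟨W, hW, hsW, hWU⟩ := exists_isAffineOpen_mem_and_subset hs
  obtain ⟨b⟩ := QProj.free_sections_of_restrict_iso M e hW hWU
  rw [fibreRank_eq_fib M hW s hsW, FlatCx.fib,
    Module.finrank_eq_card_basis (b.baseChange _), Fintype.card_fin]

theorem fibreRank_eq_of_ofRank {M : S.Modules} [M.IsQuasicoherent] {r : ℕ}
    (h : FlatMod.IsFinLocFreeOfRank r M) (s : S) : QRank.fibreRank M s = r := by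
  obtain ⟨U, hs, ⟨e⟩⟩ := h s
  exact fibreRank_eq_of_restrict_iso M e hs

theorem ofRank_of_fibreRank {M : S.Modules} [M.IsQuasicoherent] (h : FlatMod.IsFinLocFree M)
    {r : ℕ} (hr : ∀ s, QRank.fibreRank M s = r) : FlatMod.IsFinLocFreeOfRank r M := fun s => by
  obtain ⟨U, n, hs, ⟨e⟩⟩ := h s
  obtain rfl : n = r := (fibreRank_eq_of_restrict_iso M e hs).symm.trans (hr s)
  exact ⟨U, hs, ⟨e⟩⟩

/-- Finite local freeness is local. -/
theorem isFinLocFree_of_local {T : Scheme.{u}} {N : T.Modules} [N.IsQuasicoherent]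
    (h : ∀ t : T, ∃ U : T.Opens, t ∈ U ∧
      FlatMod.IsFinLocFree ((Scheme.Modules.pullback U.ι).obj N)) : FlatMod.IsFinLocFree N := by
  refine PinchLib.isFinLocFree_of_sections fun t => ?_
  obtain ⟨U, htU, hU⟩ := h t
  haveI := QCoh.isQuasicoherent_pullback U.ι N
  obtain ⟨W, hW, htW, hWU⟩ := exists_isAffineOpen_mem_and_subset htU
  refine ⟨W, hW, htW, ?_⟩
  have hW' : IsAffineOpen (U.ι ⁻¹ᵁ W) :=
    hW.preimage_of_isOpenImmersion U.ι (by rw [Scheme.Opens.opensRange_ι]; exact hWU)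
  let A := Γ(T, W)
  let B := Γ((U : Scheme.{u}), U.ι ⁻¹ᵁ W)
  letI : Algebra A B := (U.ι.appLE W (U.ι ⁻¹ᵁ W) le_rfl).hom.toAlgebra
  letI := LimTop.secModule U.ι N (le_refl (U.ι ⁻¹ᵁ W))
  haveI : IsScalarTower A B Γ((Scheme.Modules.pullback U.ι).obj N, U.ι ⁻¹ᵁ W) :=
    IsScalarTower.of_algebraMap_smul fun _ _ => rfl
  have hbij : Bijective (algebraMap A B) := by
    show Bijective (U.ι.appLE W (U.ι ⁻¹ᵁ W) le_rfl).hom
    rw [← Scheme.Hom.app_eq_appLE]
    haveI : IsIso (U.ι.app W) := Scheme.Hom.isIso_app U.ι W (by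
      rw [Scheme.Opens.opensRange_ι]; exact hWU)
    exact ConcreteCategory.bijective_of_isIso _
  have hbc := LimTop.isBaseChange_unitSec U.ι N (le_refl (U.ι ⁻¹ᵁ W)) hW hW'
  let σ : A ≃ₐ[A] B := AlgEquiv.ofBijective (Algebra.ofId A B) hbij
  let e : Γ(N, W) ≃ₗ[A] Γ((Scheme.Modules.pullback U.ι).obj N, U.ι ⁻¹ᵁ W) :=
    (TensorProduct.lid A _).symm ≪≫ₗ
      (TensorProduct.congr σ.toLinearEquiv (LinearEquiv.refl A _)) ≪≫ₗ hbc.equiv.restrictScalars A
  haveI := QProj.projective_sections _ hU hW'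
  haveI := QProj.finitePresentation_sections _ hU hW'
  haveI : Module.Flat A B := RingHom.Flat.of_bijective hbij
  haveI : Module.Flat A Γ((Scheme.Modules.pullback U.ι).obj N, U.ι ⁻¹ᵁ W) := Module.Flat.trans A B _
  haveI : Module.FinitePresentation A B := Module.FinitePresentation.of_equiv σ.toLinearEquiv
  haveI : Module.FinitePresentation A Γ((Scheme.Modules.pullback U.ι).obj N, U.ι ⁻¹ᵁ W) :=
    Module.FinitePresentation.trans A _ B
  exact ⟨Module.FinitePresentation.of_equiv e.symm, Module.Flat.of_linearEquiv e⟩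

/-- At a point the pullback is free of the fibre rank. -/
theorem ofRank_residue (M : S.Modules) [M.IsQuasicoherent] (hM : CohB1.IsFT M) (s : S) :
    FlatMod.IsFinLocFreeOfRank (QRank.fibreRank M s)
      ((Scheme.Modules.pullback (S.fromSpecResidueField s)).obj M) := by
  haveI := QCoh.isQuasicoherent_pullback (S.fromSpecResidueField s) M
  haveI : SheafOfModules.IsFiniteType.{u} M := hM
  have hconst : ∀ x, QRank.fibreRank ((Scheme.Modules.pullback (S.fromSpecResidueField s)).obj M) x =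
      QRank.fibreRank M s := fun x => by
    rw [RankLocus.fibreRank_pullback, Scheme.fromSpecResidueField_apply]
  refine ofRank_of_fibreRank (QRank.isFinLocFree_of_isReduced _
    (FittLib.isFiniteType_pullback (S.fromSpecResidueField s) (F := M))
    (IsLocallyConstant.of_constant _ fun a b => by rw [hconst, hconst])) hconst

variable (M : ℕ → S.Modules) (hq : ∀ n, (M n).IsQuasicoherent) (hM : ∀ n, CohB1.IsFT (M n))

include hq hM in
/-- The stratum of prescribed ranks at finitely many indices. -/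
theorem exists_stratum_finset (r : ℕ → ℕ) (E : Finset ℕ) :
    ∃ (Z : Scheme.{u}) (i : Z ⟶ S), IsImmersion i ∧
      Set.range i = {s | ∀ n ∈ E, QRank.fibreRank (M n) s = r n} ∧
      ∀ (T : Scheme.{u}) (φ : T ⟶ S), (∃ g, g ≫ i = φ) ↔
        ∀ n ∈ E, FlatMod.IsFinLocFreeOfRank (r n) ((Scheme.Modules.pullback φ).obj (M n)) := by
  classical
  suffices h : ∃ (Z : Scheme.{u}) (i : Z ⟶ S), IsImmersion i ∧
      ∀ (T : Scheme.{u}) (φ : T ⟶ S), (∃ g, g ≫ i = φ) ↔
        ∀ n ∈ E, FlatMod.IsFinLocFreeOfRank (r n) ((Scheme.Modules.pullback φ).obj (M n)) by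
    obtain ⟨Z, i, hi, hu⟩ := h
    refine ⟨Z, i, hi, Set.ext fun s => ⟨?_, fun hs => ?_⟩, hu⟩
    · rintro ⟨z, rfl⟩ n hn
      haveI := hq n
      haveI := QCoh.isQuasicoherent_pullback i (M n)
      rw [← RankLocus.fibreRank_pullback]
      exact fibreRank_eq_of_ofRank ((hu Z i).1 ⟨𝟙 _, Category.id_comp _⟩ n hn) z
    · obtain ⟨g, hg⟩ := (hu _ (S.fromSpecResidueField s)).2 fun n hn => by
        haveI := hq n
        exact hs n hn ▸ ofRank_residue (M n) (hM n) s
      obtain ⟨x, hx⟩ : s ∈ Set.range (S.fromSpecResidueField s) := by simp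
      exact ⟨g x, by rw [← Scheme.Hom.comp_apply, hg, hx]⟩
  induction E using Finset.induction with
  | empty => exact ⟨S, 𝟙 S, inferInstance, fun T φ => ⟨fun _ n hn => absurd hn (Finset.notMem_empty n),
      fun _ => ⟨φ, Category.comp_id φ⟩⟩⟩
  | @insert a E _ ih =>
    obtain ⟨Z, i, hi, hu⟩ := ih
    haveI := hq a
    haveI := QCoh.isQuasicoherent_pullback i (M a)
    haveI : SheafOfModules.IsFiniteType.{u} (M a) := hM a
    obtain ⟨Z', j, hj, hu', -⟩ := RankLocus.exists_immersion ((Scheme.Modules.pullback i).obj (M a))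
      (FittLib.isFiniteType_pullback i (F := M a)) (r a)
    refine ⟨Z', j ≫ i, inferInstance, fun T φ => ⟨?_, fun h => ?_⟩⟩
    · rintro ⟨g, rfl⟩ n hn
      rcases Finset.mem_insert.1 hn with rfl | hn
      · exact RankLocus.isFinLocFreeOfRank_of_iso
          ((Scheme.Modules.pullbackComp (g ≫ j) i).app _ ≪≫
            (Scheme.Modules.pullbackCongr (Category.assoc _ _ _)).app _)
          ((hu' T (g ≫ j)).1 ⟨g, rfl⟩)
      · exact (hu T _).1 ⟨g ≫ j, Category.assoc _ _ _⟩ n hn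
    · obtain ⟨g, hg⟩ := (hu T φ).2 fun n hn => h n (Finset.mem_insert_of_mem hn)
      obtain ⟨g', hg'⟩ := (hu' T g).2 (RankLocus.isFinLocFreeOfRank_of_iso
        ((Scheme.Modules.pullbackCongr hg.symm).app _ ≪≫
          ((Scheme.Modules.pullbackComp g i).app _).symm) (h a (Finset.mem_insert_self a E)))
      exact ⟨g', by rw [← Category.assoc, hg', hg]⟩

variable {M} {N : ℕ} {R : Set (ℕ → ℕ)}

include hq hM in
/-- The stratum of a rank sequence, when finitely many indices determine the sequence. -/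
theorem exists_stratum (r : ℕ → ℕ) (E : Finset ℕ) (hEN : ∀ n ∈ E, N ≤ n)
    (hE : ∀ s : S, (∀ n ∈ E, QRank.fibreRank (M n) s = r n) →
      ∀ n, N ≤ n → QRank.fibreRank (M n) s = r n) :
    ∃ (Z : Scheme.{u}) (i : Z ⟶ S), IsImmersion i ∧
      Set.range i = {s | ∀ n, N ≤ n → QRank.fibreRank (M n) s = r n} ∧
      ∀ (T : Scheme.{u}) (φ : T ⟶ S), (∃ g, g ≫ i = φ) ↔
        ∀ n, N ≤ n → FlatMod.IsFinLocFreeOfRank (r n) ((Scheme.Modules.pullback φ).obj (M n)) := by
  obtain ⟨Z, i, hi, hrange, hu⟩ := exists_stratum_finset M hq hM r E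
  have hrk : ∀ (z : Z) n, N ≤ n → QRank.fibreRank (M n) (i z) = r n := fun z n hn =>
    hE _ (show i z ∈ {s | ∀ n ∈ E, QRank.fibreRank (M n) s = r n} from hrange ▸ ⟨z, rfl⟩) n hn
  have hcl : ∀ n : {n // N ≤ n}, ∃ (Z' : Scheme.{u}) (j : Z' ⟶ Z), IsClosedImmersion j ∧
      ∀ (T : Scheme.{u}) (φ : T ⟶ Z), (∃ g, g ≫ j = φ) ↔
        FlatMod.IsFinLocFreeOfRank (r n.1) ((Scheme.Modules.pullback φ).obj
          ((Scheme.Modules.pullback i).obj (M n.1))) := fun n => by
    haveI := hq n.1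
    haveI := QCoh.isQuasicoherent_pullback i (M n.1)
    haveI : SheafOfModules.IsFiniteType.{u} (M n.1) := hM n.1
    have hFT : CohB1.IsFT ((Scheme.Modules.pullback i).obj (M n.1)) :=
      FittLib.isFiniteType_pullback i (F := M n.1)
    obtain ⟨Z', j, -, hu', hgen⟩ := RankLocus.exists_immersion _ hFT (r n.1)
    refine ⟨Z', j, hgen (top_le_iff.1 fun z _ => RankLocus.mem_genLocus_of_fibreRank_le hFT ?_), hu'⟩
    rw [RankLocus.fibreRank_pullback, hrk z n.1 n.2]
  choose Z' j hj hu' using hcl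
  haveI := hj
  let K : Z.IdealSheafData := ⨆ n, (j n).ker
  have hu'' : ∀ (T : Scheme.{u}) (φ : T ⟶ S), (∃ g, g ≫ K.subschemeι ≫ i = φ) ↔
      ∀ n, N ≤ n → FlatMod.IsFinLocFreeOfRank (r n) ((Scheme.Modules.pullback φ).obj (M n)) := by
    intro T φ
    constructor
    · rintro ⟨g, rfl⟩ n hn
      have hle : (j ⟨n, hn⟩).ker ≤ (g ≫ K.subschemeι).ker :=
        (le_iSup (fun n => (j n).ker) ⟨n, hn⟩).trans
          (K.ker_subschemeι.ge.trans (g.le_ker_comp K.subschemeι))
      exact RankLocus.isFinLocFreeOfRank_of_iso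
        ((Scheme.Modules.pullbackComp (g ≫ K.subschemeι) i).app _ ≪≫
          (Scheme.Modules.pullbackCongr (Category.assoc _ _ _)).app _)
        ((hu' ⟨n, hn⟩ T _).1 ⟨_, IsClosedImmersion.lift_fac (j ⟨n, hn⟩) (g ≫ K.subschemeι) hle⟩)
    · intro h
      obtain ⟨g, hg⟩ := (hu T φ).2 fun n hn => h n (hEN n hn)
      have hK : K.subschemeι.ker ≤ g.ker := by
        rw [K.ker_subschemeι]
        refine iSup_le fun n => ?_
        obtain ⟨g', hg'⟩ := (hu' n T g).2 (RankLocus.isFinLocFreeOfRank_of_iso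
          ((Scheme.Modules.pullbackCongr hg.symm).app _ ≪≫
            ((Scheme.Modules.pullbackComp g i).app _).symm) (h n.1 n.2))
        exact hg' ▸ g'.le_ker_comp (j n)
      exact ⟨IsClosedImmersion.lift K.subschemeι g hK, by
        rw [← Category.assoc, IsClosedImmersion.lift_fac, hg]⟩
  refine ⟨K.subscheme, K.subschemeι ≫ i, inferInstance, Set.ext fun s => ⟨?_, fun hs => ?_⟩, hu''⟩
  · rintro ⟨z, rfl⟩ n hn
    rw [Scheme.Hom.comp_apply]
    exact hrk _ n hn
  · obtain ⟨g, hg⟩ := (hu'' _ (S.fromSpecResidueField s)).2 fun n hn => by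
      haveI := hq n
      exact hs n hn ▸ ofRank_residue (M n) (hM n) s
    obtain ⟨x, hx⟩ : s ∈ Set.range (S.fromSpecResidueField s) := by simp
    exact ⟨g x, by rw [← Scheme.Hom.comp_apply, hg, hx]⟩

/-- Finitely many indices separate finitely many sequences. -/
theorem exists_finset_separating (R : Finset (ℕ → ℕ)) (N : ℕ) :
    ∃ E : Finset ℕ, (∀ n ∈ E, N ≤ n) ∧ ∀ a ∈ R, ∀ b ∈ R, (∀ n ∈ E, a n = b n) →
      ∀ n, N ≤ n → a n = b n := by
  classical
  have : ∀ p : (ℕ → ℕ) × (ℕ → ℕ), ∃ e : Finset ℕ, (∀ n ∈ e, N ≤ n) ∧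
      ((∀ n ∈ e, p.1 n = p.2 n) → ∀ n, N ≤ n → p.1 n = p.2 n) := fun p => by
    by_cases h : ∀ n, N ≤ n → p.1 n = p.2 n
    · exact ⟨∅, by simp, fun _ => h⟩
    · push Not at h
      obtain ⟨n, hn, hne⟩ := h
      exact ⟨{n}, by simpa using hn, fun he => absurd (he n (Finset.mem_singleton_self n)) hne⟩
  choose e he1 he2 using this
  refine ⟨(R ×ˢ R).biUnion e, fun n hn => ?_, fun a ha b hb hab => he2 (a, b) fun n hn =>
    hab n (Finset.mem_biUnion.2 ⟨(a, b), Finset.mk_mem_product ha hb, hn⟩)⟩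
  obtain ⟨p, -, hp⟩ := Finset.mem_biUnion.1 hn
  exact he1 p n hp

include hq hM in
/-- Stratification by rank sequences. -/
theorem exists_strata (P : Set S) (hP : P.Finite)
    (hrk : ∀ s : S, ∃ s' ∈ P, ∀ n, N ≤ n → QRank.fibreRank (M n) s = QRank.fibreRank (M n) s') :
    ∃ (m : ℕ) (St : Fin m → Scheme.{u}) (e : ∀ i, St i ⟶ S) (r : Fin m → ℕ → ℕ) (w : Fin m → S),
      (∀ i, IsImmersion (e i)) ∧
      (∀ i, Set.range (e i) = {s | ∀ n, N ≤ n → QRank.fibreRank (M n) s = r i n}) ∧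
      (∀ i, w i ∈ Set.range (e i)) ∧
      Pairwise (fun i i' => Disjoint (Set.range (e i)) (Set.range (e i'))) ∧
      (⋃ i, Set.range (e i)) = Set.univ ∧
      ∀ (T : Scheme.{u}) (φ : T ⟶ S),
        (∀ n, N ≤ n → FlatMod.IsFinLocFree ((Scheme.Modules.pullback φ).obj (M n))) ↔
          ∃ g : T ⟶ ∐ St, g ≫ Limits.Sigma.desc e = φ := by
  classical
  let trunc : S → ℕ → ℕ := fun s n => if N ≤ n then QRank.fibreRank (M n) s else 0
  let R : Finset (ℕ → ℕ) := hP.toFinset.image trunc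
  have htrunc : ∀ s n, N ≤ n → trunc s n = QRank.fibreRank (M n) s := fun s n hn => if_pos hn
  have hR : ∀ s, trunc s ∈ R := fun s => by
    obtain ⟨s', hs', he⟩ := hrk s
    refine Finset.mem_image.2 ⟨s', hP.mem_toFinset.2 hs', funext fun n => ?_⟩
    by_cases hn : N ≤ n
    · rw [htrunc _ _ hn, htrunc _ _ hn, he n hn]
    · simp only [trunc, if_neg hn]
  obtain ⟨E, hEN, hE⟩ := exists_finset_separating R N
  let enum := R.equivFin.symm
  have hlevel : ∀ (a : R) (s : S), (∀ n ∈ E, QRank.fibreRank (M n) s = a.1 n) →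
      ∀ n, N ≤ n → QRank.fibreRank (M n) s = a.1 n := fun a s hs n hn => by
    rw [← htrunc s n hn]
    exact hE _ (hR s) _ a.2 (fun k hk => (htrunc s k (hEN k hk)).trans (hs k hk)) n hn
  choose St e he hrange hu using fun i => exists_stratum hq hM (N := N) (enum i).1 E hEN (hlevel (enum i))
  have hw : ∀ i, ∃ s, trunc s = (enum i).1 := fun i => by
    obtain ⟨s, -, hs⟩ := Finset.mem_image.1 (enum i).2
    exact ⟨s, hs⟩
  choose w hw using hw
  have hwmem : ∀ i, w i ∈ Set.range (e i) := fun i => by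
    rw [hrange]
    intro n hn
    rw [← hw i, htrunc _ _ hn]
  have hdisj : Pairwise (fun i i' => Disjoint (Set.range (e i)) (Set.range (e i'))) := fun i i' hne => by
    refine Set.disjoint_left.2 fun s hs hs' => ?_
    rw [hrange] at hs hs'
    refine hne (enum.injective (Subtype.ext (funext fun n => ?_)))
    obtain ⟨t, -, ht⟩ := Finset.mem_image.1 (enum i).2
    obtain ⟨t', -, ht'⟩ := Finset.mem_image.1 (enum i').2
    by_cases hn : N ≤ n
    · rw [← hs n hn, hs' n hn]
    · rw [← ht, ← ht']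
      simp only [trunc, if_neg hn]
  have hcov : (⋃ i, Set.range (e i)) = Set.univ := Set.eq_univ_of_forall fun s => by
    refine Set.mem_iUnion.2 ⟨enum.symm ⟨trunc s, hR s⟩, ?_⟩
    rw [hrange]
    intro n hn
    rw [enum.apply_symm_apply]
    exact (htrunc s n hn).symm
  refine ⟨_, St, e, fun i => (enum i).1, w, he, hrange, hwmem, hdisj, hcov, fun T φ => ⟨fun h => ?_, ?_⟩⟩
  · have hlc : ∀ n, N ≤ n → IsLocallyConstant fun t : T => QRank.fibreRank (M n) (φ t) := fun n hn => by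
      haveI := hq n
      haveI := QCoh.isQuasicoherent_pullback φ (M n)
      have := QRank.isLocallyConstant_fibreRank _ (h n hn)
      simpa only [funext fun t => RankLocus.fibreRank_pullback φ (M n) t] using this
    let U : Fin R.card → T.Opens := fun i =>
      ⟨⋂ n ∈ E, {t | QRank.fibreRank (M n) (φ t) = (enum i).1 n},
        isOpen_biInter_finset fun n hn => (hlc n (hEN n hn)).isOpen_fiber _⟩
    have hUe : ∀ i t, t ∈ U i ↔ φ t ∈ Set.range (e i) := fun i t => by
      rw [hrange]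
      show t ∈ ⋂ n ∈ E, _ ↔ _
      simp only [Set.mem_iInter, Set.mem_setOf_eq]
      exact ⟨hlevel (enum i) (φ t), fun h n hn => h n (hEN n hn)⟩
    have hfac : ∀ i, ∃ g, g ≫ e i = (U i).ι ≫ φ := fun i => (hu i _ _).2 fun n hn => by
      haveI := hq n
      haveI := QCoh.isQuasicoherent_pullback φ (M n)
      haveI := QCoh.isQuasicoherent_pullback ((U i).ι ≫ φ) (M n)
      refine ofRank_of_fibreRank (KFlat.LocFree.isFinLocFree_of_iso
        ((Scheme.Modules.pullbackComp (U i).ι φ).app (M n))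
        (KFlat.LocFree.isFinLocFree_pull (U i).ι (h n hn))) fun t => ?_
      rw [RankLocus.fibreRank_pullback]
      have := (hUe i t.1).1 t.2
      rw [hrange] at this
      exact this n hn
    choose g hg using hfac
    obtain ⟨hc⟩ := nonempty_isColimit_cofanMk_of (fun i => (U i).ι) (by
      rw [eq_top_iff]
      intro t _
      obtain ⟨i, hi⟩ := Set.mem_iUnion.1 (hcov ▸ Set.mem_univ (φ t))
      refine Opens.mem_iSup.2 ⟨i, ?_⟩
      rw [Scheme.Opens.opensRange_ι]
      exact (hUe i t).2 hi) fun i i' hne => by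
      simp only [Function.onFun, Scheme.Opens.opensRange_ι, disjoint_iff, eq_bot_iff]
      intro t ht
      exact (Set.disjoint_left.1 (hdisj hne) ((hUe i t).1 ht.1) ((hUe i' t).1 ht.2)).elim
    refine ⟨Cofan.IsColimit.desc hc fun i => g i ≫ Sigma.ι St i, Cofan.IsColimit.hom_ext hc _ _ fun i => ?_⟩
    rw [Cofan.IsColimit.fac_assoc, Category.assoc, Sigma.ι_desc, hg i]
    rfl
  · rintro ⟨g, rfl⟩ n hn
    haveI := hq n
    haveI := QCoh.isQuasicoherent_pullback (g ≫ Sigma.desc e) (M n)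
    refine isFinLocFree_of_local fun t => ?_
    obtain ⟨i, y, hy⟩ : ∃ (i : Fin _) (y : St i), Sigma.ι St i y = g t :=
      (sigmaOpenCover St).exists_eq (g t)
    let U := g ⁻¹ᵁ (Sigma.ι St i).opensRange
    refine ⟨U, ⟨y, hy⟩, ?_⟩
    have hsub : Set.range (U.ι ≫ g) ⊆ Set.range (Sigma.ι St i) := by
      rintro _ ⟨x, rfl⟩
      exact x.2
    have hlift : IsOpenImmersion.lift (Sigma.ι St i) (U.ι ≫ g) hsub ≫ e i =
        U.ι ≫ g ≫ Sigma.desc e := by
      rw [← Category.assoc U.ι]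
      refine Eq.trans ?_ (congrArg (· ≫ Sigma.desc e)
        (IsOpenImmersion.lift_fac (Sigma.ι St i) (U.ι ≫ g) hsub))
      simp only [Category.assoc, Sigma.ι_desc]
    exact KFlat.LocFree.isFinLocFree_of_iso ((Scheme.Modules.pullbackComp U.ι _).app (M n)).symm
      (VBLib.isFinLocFree_of_ofRank ((hu i _ _).1 ⟨_, hlift⟩ n hn))

end Groth.Agent.TwistFlat
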