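import Groth.Agent.TwistFlat.HilbInt
import Groth.Agent.PerfTri.Betti

/-!
The flattening stratification of projective space by Hilbert polynomials.
-/

set_option autoImplicit false
set_option linter.style.haveILetI false

universe u

open CategoryTheory CategoryTheory.Limits AlgebraicGeometry TopologicalSpace Opposite Polynomial

noncomputable section

namespace Groth.Agent.TwistFlat

/-- Polynomials agreeing at all large natural numbers are equal. -/
theorem poly_eq_of_eventually {P Q : ℚ[X]} (N : ℕ)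
    (h : ∀ m : ℕ, N ≤ m → P.eval (m : ℚ) = Q.eval (m : ℚ)) : P = Q :=
  Polynomial.eq_of_infinite_eval_eq P Q
    ((Set.infinite_range_of_injective (f := fun j : ℕ => ((N + j : ℕ) : ℚ))
      fun a b hab => Nat.add_left_cancel (Nat.cast_injective (R := ℚ) hab)).mono (by
        rintro _ ⟨j, rfl⟩
        exact h _ (Nat.le_add_right _ j)))

/-- Closures of the levels of the fibre ranks. -/
theorem le_fibreRank_of_mem_closure {S : Scheme.{u}} (M : S.Modules) [M.IsQuasicoherent]
    (hM : CohB1.IsFT M) {A : Set S} {r : ℕ} (hA : ∀ s ∈ A, r ≤ Props.QRank.fibreRank M s) {x : S}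
    (hx : x ∈ closure A) : r ≤ Props.QRank.fibreRank M x := by
  haveI : SheafOfModules.IsFiniteType.{u} M := hM
  obtain ⟨y, hy, hyA⟩ := mem_closure_iff_nhds.1 hx _
    (PerfTri.Betti.eventually_fibreRank_le M (fun W hW => QCoh.finite_sections_of_isFiniteType M hW) x)
  exact (hA y hyA).trans hy

variable {S : Scheme.{u}} [IsNoetherian S] (n : ℕ) {F : (CohB1.ProjSpaceOver n S).Modules}

/-- Twisted direct images. -/
abbrev pushTw (F : (CohB1.ProjSpaceOver n S).Modules) (m : ℕ) : S.Modules :=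
  (Coh.push (CohB1.ProjSpaceOver.toBase n S)).obj (tw (Twist.twistOver n S 1) F m)

/-- The flattening stratification with the Hilbert polynomials of the fibres. -/
theorem exists_hilb_strata (hF : Coh.IsCoh F) :
    ∃ (N : ℕ) (c : ℕ) (St : Fin c → Scheme.{u}) (e : ∀ i, St i ⟶ S) (P : Fin c → ℚ[X]),
      (∀ i, IsImmersion (e i)) ∧ Function.Injective P ∧
      (∀ (i : Fin c) (s : (Over.mk (𝟙 S)).left), s ∈ Set.range (e i) ↔
        ∀ m : ℤ, (fibChi n F s m : ℚ) = (P i).eval (m : ℚ)) ∧
      (∀ s : S, ∃ i, s ∈ Set.range (e i)) ∧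
      (∀ (i : Fin c) (s : S) (m : ℕ), N ≤ m → s ∈ Set.range (e i) →
        (P i).eval (m : ℚ) = (Props.QRank.fibreRank (pushTw n F m) s : ℚ)) ∧
      ∀ (T : Scheme.{u}) [IsLocallyNoetherian T] (φ : T ⟶ S),
        FlatMod.IsFlatOver (CohB1.ProjSpaceOver.toBase n T)
            ((Scheme.Modules.pullback (FGA.projMap n φ)).obj F) ↔
          ∃ g : T ⟶ ∐ St, g ≫ Limits.Sigma.desc e = φ := by
  classical
  haveI := isProper_toBase n S
  have hL : RelAmple.IsRelAmple (CohB1.ProjSpaceOver.toBase n S) (Twist.twistOver n S 1) :=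
    ProjMor.isRelAmple_twistOver n S
  obtain ⟨N₀, Pts, hfin, hrk, hcrit⟩ := exists_uniform_crit hL hF
  choose Q hQ NQ hNQ using fun s : (Over.mk (𝟙 S)).left => exists_fibPoly n hF s
  let N := max N₀ (hfin.toFinset.sup NQ)
  have hN : ∀ (s : S) (m : ℕ), N ≤ m →
      (Q s).eval (m : ℚ) = (Props.QRank.fibreRank (pushTw n F m) s : ℚ) := fun s m hm => by
    obtain ⟨s', hs', he⟩ := hrk s
    have hs'N : ∀ j, N ≤ j → NQ s' ≤ j := fun j hj =>
      ((Finset.le_sup (hfin.mem_toFinset.2 hs')).trans (le_max_right _ _)).trans hj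
    have heq : Q s = Q s' := poly_eq_of_eventually (max N (NQ s)) fun j hj => by
      rw [hNQ s j ((le_max_right _ _).trans hj), hNQ s' j (hs'N j ((le_max_left _ _).trans hj)),
        he j ((le_max_left _ _).trans ((le_max_left _ _).trans hj))]
    rw [heq, hNQ s' m (hs'N m hm), ← he m ((le_max_left _ _).trans hm)]
  obtain ⟨c, St, e, r, w, he, hrange, hw, hdisj, hcov, hu⟩ :=
    exists_strata (M := pushTw n F) (N := N) (fun m => isQCoh_push_tw hL hF m)
      (fun m => isFT_push_tw hL hF m) Pts hfin fun s => by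
        obtain ⟨s', hs', h⟩ := hrk s
        exact ⟨s', hs', fun m hm => h m ((le_max_left _ _).trans hm)⟩
  have hval : ∀ (i : Fin c) (s : S) (m : ℕ), N ≤ m → s ∈ Set.range (e i) →
      (Q (w i)).eval (m : ℚ) = (Props.QRank.fibreRank (pushTw n F m) s : ℚ) := fun i s m hm hs => by
    have hwi := hw i
    rw [hrange] at hs hwi
    rw [hN (w i) m hm, hwi m hm, hs m hm]
  have hQeq : ∀ (i : Fin c) (s : S), s ∈ Set.range (e i) ↔ Q s = Q (w i) := fun i s => by
    refine ⟨fun hs => poly_eq_of_eventually N fun m hm => by rw [hN s m hm, hval i s m hm hs],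
      fun h => ?_⟩
    have hwi := hw i
    rw [hrange] at hwi ⊢
    intro m hm
    have h1 := hN s m hm
    rw [h, hN (w i) m hm, hwi m hm] at h1
    exact_mod_cast h1.symm
  refine ⟨N, c, St, e, fun i => Q (w i), he, fun i j hij => ?_, fun i s => ?_, fun s => ?_, hval,
    fun T _ φ => (hcrit T _ φ _ _ (isPullback_projMap n φ) N (le_max_left _ _)).trans (hu T φ)⟩
  · by_contra hne
    exact Set.disjoint_left.1 (hdisj hne) (hw i) ((hQeq j (w i)).2 hij)
  · refine ⟨fun hs m => (hQ s m).trans (congrArg (Polynomial.eval (m : ℚ)) ((hQeq i s).1 hs)), fun h => (hQeq i s).2 ?_⟩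
    exact HilbPolyX.poly_ext fun m => by
      simpa only [Int.cast_natCast] using (hQ s (m : ℤ)).symm.trans (h (m : ℤ))
  · exact Set.mem_iUnion.1 (hcov ▸ Set.mem_univ s)

end Groth.Agent.TwistFlat
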