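import Groth.Agent.TwistFlat.Rel
import Groth.Agent.HilbPolyX.Basic
import Groth.Agent.EulerChar.Basic

/-!
Flatness and local constancy of the Hilbert polynomial of the fibres.
-/

set_option autoImplicit false
set_option linter.style.haveILetI false

universe u

open CategoryTheory CategoryTheory.Limits AlgebraicGeometry TopologicalSpace Opposite Function
open scoped TensorProduct

noncomputable section

namespace Groth.Agent.TwistFlat

open Groth.Agent.CBC Groth.Agent.ProjTwist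

variable {X S : Scheme.{u}} (f : X ⟶ S) [IsProper f] (L F : X.Modules)

/-- The point of a prime of an affine open. -/
def pt {W : S.Opens} (hW : IsAffineOpen W) (p : PrimeSpectrum Γ(S, W)) : S := hW.fromSpec p

theorem pt_mem {W : S.Opens} (hW : IsAffineOpen W) (p : PrimeSpectrum Γ(S, W)) : pt hW p ∈ W :=
  hW.range_fromSpec.le ⟨p, rfl⟩

theorem primeIdealOf_pt {W : S.Opens} (hW : IsAffineOpen W) (p : PrimeSpectrum Γ(S, W)) :
    hW.primeIdealOf ⟨pt hW p, pt_mem hW p⟩ = p :=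
  hW.isOpenImmersion_fromSpec.base_open.injective (hW.fromSpec_primeIdealOf ⟨pt hW p, pt_mem hW p⟩)

/-- The Euler characteristic of the fibre of a twist. -/
abbrev chiFib (y : S) (n : ℕ) : ℤ :=
  @Curv2.euler (S.residueField y) _ (f.fiber y) ⟨f.fiberToSpecResidueField y⟩
    ((Scheme.Modules.pullback (f.fiberι y)).obj (CohB1.tensorMod F (CohB1.tensorPow L n)))

theorem exists_poly_chiFib (hL : RelAmple.IsRelAmple f L) (hF : Coh.IsCoh F) (y : S) :
    ∃ P : Polynomial ℚ, ∀ m : ℕ, (chiFib f L F y m : ℚ) = P.eval (m : ℚ) := by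
  letI : (f.fiber y).Over (Spec (CommRingCat.of (S.residueField y))) :=
    ⟨f.fiberToSpecResidueField y⟩
  haveI : IsProper ((f.fiber y) ↘ Spec (CommRingCat.of (S.residueField y))) :=
    inferInstanceAs (IsProper (pullback.snd f (S.fromSpecResidueField y)))
  have hLi := AmpleLib.isInvertible_of_isRelAmple hL
  obtain ⟨P, hP⟩ := HilbPolyX.exists_hilbPoly (S.residueField y)
    (PicCl.isInvertible_pullback (f.fiberι y) hLi) (ZClosLib.CohDescent.isCoh_pullback (f.fiberι y) F hF)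
  refine ⟨P, fun m => ?_⟩
  rw [← hP m]
  refine congrArg (fun z : ℤ => (z : ℚ)) (EulerChar.euler_iso (S.residueField y) ?_)
  exact KFlat.PullTensor.pullTensorIso (f.fiberι y) F (CohB1.tensorPow L m) ≪≫
    tensCongr (Iso.refl _) (AmpleLib.exists_iso_pullback_tensorPow (f.fiberι y) hLi m).some

variable [IsLocallyNoetherian S]

theorem exists_forall_chiFib_eq_fib (hL : RelAmple.IsRelAmple f L) (hF : Coh.IsCoh F) {W : S.Opens}
    (hW : IsAffineOpen W) (p : PrimeSpectrum Γ(S, W)) :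
    ∃ N : ℕ, ∀ n, N ≤ n → chiFib f L F (pt hW p) n =
      FlatCx.fib Γ((Coh.push f).obj (CohB1.tensorMod F (CohB1.tensorPow L n)), W) p := by
  obtain ⟨N, hN⟩ := exists_forall_euler_eq_finrank f L F hL hF hW (pt hW p) (pt_mem hW p)
  refine ⟨N, fun n hn => ?_⟩
  rw [chiFib, hN n hn, finrank_evalAlg_eq_fib hW, primeIdealOf_pt]

/-- A flat module has locally constant Hilbert polynomials. -/
theorem exists_nhd_chiFib_eq (hL : RelAmple.IsRelAmple f L) (hF : Coh.IsCoh F)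
    (hfl : FlatMod.IsFlatOver f F) (y : S) :
    ∃ U : S.Opens, y ∈ U ∧ ∀ y' : S, y' ∈ U → ∀ n, chiFib f L F y' n = chiFib f L F y n := by
  obtain ⟨V, hV, hyV, -⟩ := exists_isAffineOpen_mem_and_subset (U := (⊤ : S.Opens)) (x := y) trivial
  haveI : IsNoetherianRing Γ(S, V) := IsLocallyNoetherian.component_noetherian ⟨V, hV⟩
  set p := hV.primeIdealOf ⟨y, hyV⟩
  have hpy : pt hV p = y := hV.fromSpec_primeIdealOf ⟨y, hyV⟩
  let Z : Set (PrimeSpectrum Γ(S, V)) :=
    ⋃ m ∈ {m ∈ minimalPrimes Γ(S, V) | ¬ m ≤ p.asIdeal}, PrimeSpectrum.zeroLocus (m : Set Γ(S, V))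
  have hZ : IsClosed Z := ((minimalPrimes.finite_of_isNoetherianRing Γ(S, V)).subset
    fun m hm => hm.1).isClosed_biUnion fun m _ => PrimeSpectrum.isClosed_zeroLocus _
  let U0 : (Spec Γ(S, V)).Opens := ⟨Zᶜ, hZ.isOpen_compl⟩
  refine ⟨hV.fromSpec ''ᵁ U0, ⟨p, ?_, hpy⟩, ?_⟩
  · intro hp
    obtain ⟨m, hm, hmp⟩ := Set.mem_iUnion₂.1 hp
    exact hm.2 hmp
  rintro y' ⟨q, hq, rfl⟩ n
  obtain ⟨m, hm, hmq⟩ := Ideal.exists_minimalPrimes_le (bot_le : (⊥ : Ideal Γ(S, V)) ≤ q.asIdeal)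
  have hmp : m ≤ p.asIdeal := by
    by_contra h
    exact hq (Set.mem_iUnion₂.2 ⟨m, ⟨hm, h⟩, hmq⟩)
  let m' : PrimeSpectrum Γ(S, V) := ⟨m, hm.1.1⟩
  obtain ⟨hfin, hfl'⟩ := finite_and_flat_push f L F V hL hF hV
  obtain ⟨N₀, hN₀⟩ := hfl' hfl
  obtain ⟨N₁, hN₁⟩ := exists_forall_chiFib_eq_fib f L F hL hF hV p
  obtain ⟨N₂, hN₂⟩ := exists_forall_chiFib_eq_fib f L F hL hF hV q
  have key : ∀ k, max N₀ (max N₁ N₂) ≤ k → chiFib f L F (pt hV q) k = chiFib f L F (pt hV p) k := by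
    intro k hk
    simp only [max_le_iff] at hk
    haveI := hfin k
    haveI := hN₀ k hk.1
    haveI : Module.FinitePresentation Γ(S, V)
        Γ((Coh.push f).obj (CohB1.tensorMod F (CohB1.tensorPow L k)), V) :=
      Module.finitePresentation_of_finite _ _
    have hlc := FlatCx.isLocallyConstant_fib (A := Γ(S, V))
      Γ((Coh.push f).obj (CohB1.tensorMod F (CohB1.tensorPow L k)), V)
    have hspec : ∀ z : PrimeSpectrum Γ(S, V), m ≤ z.asIdeal →
        FlatCx.fib Γ((Coh.push f).obj (CohB1.tensorMod F (CohB1.tensorPow L k)), V) m' =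
          FlatCx.fib Γ((Coh.push f).obj (CohB1.tensorMod F (CohB1.tensorPow L k)), V) z := fun z hz =>
      ((PrimeSpectrum.le_iff_specializes m' z).1 hz).mem_open (hlc.isOpen_fiber _) rfl
    rw [hN₁ k hk.2.1, hN₂ k hk.2.2, ← hspec p hmp, ← hspec q hmq]
  obtain ⟨P, hP⟩ := exists_poly_chiFib f L F hL hF (pt hV p)
  obtain ⟨Q, hQ⟩ := exists_poly_chiFib f L F hL hF (pt hV q)
  have hPQ : Q = P := Polynomial.eq_of_infinite_eval_eq Q P
    ((Set.infinite_range_of_injective (f := fun j : ℕ => ((max N₀ (max N₁ N₂) + j : ℕ) : ℚ))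
      fun a b hab => Nat.add_left_cancel (Nat.cast_injective (R := ℚ) hab)).mono (by
        rintro _ ⟨j, rfl⟩
        exact ((hQ _).symm.trans (congrArg (fun z : ℤ => (z : ℚ)) (key _ (Nat.le_add_right _ j)))).trans (hP _)))
  have := (hQ n).trans ((congrArg (fun R => Polynomial.eval (n : ℚ) R) hPQ).trans (hP n).symm)
  rw [← hpy]
  exact_mod_cast this

/-- Over a reduced base, locally constant Hilbert polynomials give flatness. -/
theorem isFlatOver_of_chiFib [IsReduced S] (hL : RelAmple.IsRelAmple f L) (hF : Coh.IsCoh F)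
    (h : ∀ y : S, ∃ U : S.Opens, y ∈ U ∧ ∀ y' : S, y' ∈ U → ∀ n,
      chiFib f L F y' n = chiFib f L F y n) :
    FlatMod.IsFlatOver f F := by
  intro x
  obtain ⟨V, hV, hxV, -⟩ := exists_isAffineOpen_mem_and_subset (U := (⊤ : S.Opens)) (x := f x) trivial
  haveI : IsAffine (V : Scheme.{u}) := hV
  have hW : IsAffineOpen (V.ι ''ᵁ ⊤) := (isAffineOpen_top _).image_of_isOpenImmersion V.ι
  have hy : f x ∈ V.ι ''ᵁ ⊤ := (Scheme.Opens.ι_image_top V).ge hxV
  haveI : IsNoetherianRing Γ(S, V.ι ''ᵁ ⊤) := IsLocallyNoetherian.component_noetherian ⟨_, hW⟩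
  set p := hW.primeIdealOf ⟨f x, hy⟩
  have hpy : pt hW p = f x := hW.fromSpec_primeIdealOf ⟨f x, hy⟩
  obtain ⟨U, hxU, hU⟩ := h (f x)
  choose Nf hNf using exists_forall_chiFib_eq_fib f L F hL hF hW
  let T : Set (PrimeSpectrum Γ(S, V.ι ''ᵁ ⊤)) := {m | m.asIdeal ∈ minimalPrimes Γ(S, V.ι ''ᵁ ⊤)}
  have hT : T.Finite := (minimalPrimes.finite_of_isNoetherianRing Γ(S, V.ι ''ᵁ ⊤)).preimage
    fun a _ b _ hab => PrimeSpectrum.ext hab
  obtain ⟨N, hN⟩ := (hT.image Nf).bddAbove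
  refine isFlatOverAt_of_flat_localized f L F V hL hF hV hW x hy (N := max N (Nf p)) fun k hk => ?_
  haveI := (finite_and_flat_push f L F (V.ι ''ᵁ ⊤) hL hF hW).1 k
  refine flat_localized_of_fib _ p fun m hm hmp => ?_
  have hpt : pt hW m ∈ U := by
    have hsp : pt hW m ⤳ pt hW p :=
      ((PrimeSpectrum.le_iff_specializes m p).1 hmp).map hW.fromSpec.continuous
    exact hsp.mem_open U.2 (hpy.symm ▸ hxU)
  have e1 := hNf m k ((hN ⟨m, hm, rfl⟩).trans ((le_max_left _ _).trans hk))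
  have e2 := hNf p k ((le_max_right _ _).trans hk)
  rw [hU _ hpt k, ← hpy, e2] at e1
  exact_mod_cast e1.symm

end Groth.Agent.TwistFlat
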