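import Groth.Agent.ProperFin.PnBase
import Groth.Agent.ProjTwist.Tensor
import Groth.Agent.Props.GenPull
import Groth.Agent.KFlat.PullTensor

/-!
Pullback of `O(d)` along `P^n_B ⟶ P^n_A`.
-/

set_option autoImplicit false
set_option linter.style.haveILetI false

universe u

open CategoryTheory CategoryTheory.Limits AlgebraicGeometry TopologicalSpace Opposite

noncomputable section

namespace Groth.Agent.TwistFlat

open Twist Groth.Agent.ProjTwist Groth.Agent.QCoh Groth.Agent.Props.GenLocus Groth.Agent.Props.GenTensor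
open Groth.Agent.Props.GenPull

section Graded

variable {R A : Type u} [CommRing R] [CommRing A] [Algebra R A] {𝒜 : ℕ → Submodule R A}
  [GradedAlgebra 𝒜]

theorem res_powGen_eq {a b : A} (ha : a ∈ 𝒜 1) (hb : b ∈ 𝒜 1) (V : (Proj 𝒜).Opens)
    (hVa : V ≤ Proj.basicOpen 𝒜 a) (hVb : V ≤ Proj.basicOpen 𝒜 b) :
    res (twist 𝒜 1) hVa (powGen ha 1) = fracFun ha hb hVb • res (twist 𝒜 1) hVb (powGen hb 1) := by
  refine sectN_ext fun x => ?_
  refine (unitSec_coe ha 1 _ _ ⟨x.1, hVa x.2⟩).trans ?_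
  refine Eq.trans ?_ (smul_coe (show O (𝒜 := 𝒜) (op V) from fracFun ha hb hVb)
    (show sectN (𝒜 := 𝒜) 1 (op V) from res (twist 𝒜 1) hVb (powGen hb 1)) x).symm
  refine Eq.trans ?_ (congrArg₂ (· * ·) (valAt_fracFun ha hb hVb x.1 x.2).symm
    (unitSec_coe hb 1 _ _ ⟨x.1, hVb x.2⟩).symm)
  rw [zpow_one, zpow_one]
  show algebraMap A _ a = Localization.mk a _ * algebraMap A _ b
  rw [Localization.mk_eq_mk']
  exact (IsLocalization.mk'_spec _ a _).symm

end Graded

theorem pb_transition {X Y : Scheme.{u}} (g : X ⟶ Y) {M : Y.Modules} {U U' W : Y.Opens}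
    (hU : W ≤ U) (hU' : W ≤ U') {e : Γ(M, U)} {e' : Γ(M, U')} {c : Γ(Y, W)}
    (h : res M hU' e' = c • res M hU e) {V : X.Opens} (hV : V ≤ g ⁻¹ᵁ W)
    (hi : V ≤ g ⁻¹ᵁ U) (hj : V ≤ g ⁻¹ᵁ U') :
    res ((Scheme.Modules.pullback g).obj M) hj (pb g e') =
      rres hV (g.app W c) • res ((Scheme.Modules.pullback g).obj M) hi (pb g e) := by
  have h1 := congrArg (LFFrame.unitSec g M W) h
  rw [LFFrame.unitSec_smul, LFFrame.unitSec_res, LFFrame.unitSec_res] at h1
  have h2 := congrArg (res ((Scheme.Modules.pullback g).obj M) hV) h1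
  rw [res_smul] at h2
  refine Eq.trans ?_ (h2.trans (congrArg (rres hV (g.app W c) • ·) ?_))
  · exact (res_res _ (g.preimage_mono hU') hV _).symm
  · exact res_res _ (g.preimage_mono hU) hV _

variable (n : ℕ) {A B : Type u} [CommRing A] [CommRing B] (φ : A →+* B)

theorem app_fracFun {U : (CohB1.ProjSpace n A).Opens} {a b : MvPolynomial (Fin (n + 1)) A}
    (ha : a ∈ CohB1.polyGrading n A 1) (hb : b ∈ CohB1.polyGrading n A 1)
    (h : U ≤ Proj.basicOpen _ b) :
    (ProperFin.pnMap n φ).app U (fracFun ha hb h) =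
      fracFun ((ProperFin.mapGr n φ).2 ha) ((ProperFin.mapGr n φ).2 hb)
        (show ProperFin.pnMap n φ ⁻¹ᵁ U ≤ Proj.basicOpen _ (ProperFin.mapGr n φ b) from
          (ProperFin.pnMap n φ).preimage_mono h) := by
  refine valAt_ext fun x hx => ?_
  refine Eq.trans ?_ (valAt_fracFun _ _ _ x hx).symm
  refine (HomogeneousLocalization.val_localRingHom _).trans ?_
  exact Localization.localRingHom_mk _ _ _ _ _ _

theorem nonempty_pullback_twist_one :
    Nonempty ((Scheme.Modules.pullback (ProperFin.pnMap n φ)).obj (twistProjSpace n A 1) ≅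
      twistProjSpace n B 1) := by
  let g := ProperFin.pnMap n φ
  have hX := X_mem_polyGrading n A
  refine PicLaw.nonempty_iso_of_transition (fun i => g ⁻¹ᵁ stdOpen n A i) ?_
    (fun i => pb g (powGen (hX i) 1)) (fun i => isGen_pb g (isGen_powGen (hX i) 1))
    (fun i => powGen ((ProperFin.mapGr n φ).2 (hX i)) 1)
    (fun i => isGen_powGen ((ProperFin.mapGr n φ).2 (hX i)) 1) ?_
  · intro x
    obtain ⟨i, hi⟩ := Opens.mem_iSup.mp
      ((iSup_stdOpen n A).ge (trivial : g x ∈ (⊤ : (CohB1.ProjSpace n A).Opens)))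
    exact ⟨i, hi⟩
  intro i j V hi hj
  have hV : V ≤ g ⁻¹ᵁ (stdOpen n A i ⊓ stdOpen n A j) := fun z hz => ⟨hi hz, hj hz⟩
  have hu := res_powGen_eq (hX j) (hX i) (stdOpen n A i ⊓ stdOpen n A j) inf_le_right inf_le_left
  refine ⟨rres hV (g.app _ (fracFun (hX j) (hX i) inf_le_left)), ?_, ?_⟩
  · exact pb_transition g inf_le_left inf_le_right hu hV hi hj
  · rw [app_fracFun]
    exact res_powGen_eq _ _ V hj hi

theorem nonempty_pullback_twist (d : ℕ) :
    Nonempty ((Scheme.Modules.pullback (ProperFin.pnMap n φ)).obj (twistProjSpace n A d) ≅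
      twistProjSpace n B d) := by
  induction d with
  | zero =>
    exact ⟨(Scheme.Modules.pullback _).mapIso (twistZeroIso (CohB1.polyGrading n A)).symm ≪≫
      QCoh.pullbackUnitIso _ ≪≫ twistZeroIso (CohB1.polyGrading n B)⟩
  | succ d ih =>
    obtain ⟨e₁⟩ := nonempty_pullback_twist_one n φ
    obtain ⟨e⟩ := ih
    obtain ⟨a⟩ := nonempty_twistProjSpace_tensor n A d 1
    obtain ⟨b⟩ := nonempty_twistProjSpace_tensor n B d 1
    refine ⟨eqToIso (congrArg (fun k => (Scheme.Modules.pullback _).obj (twistProjSpace n A k))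
      (Nat.cast_succ d)) ≪≫ (Scheme.Modules.pullback _).mapIso a.symm ≪≫
      KFlat.PullTensor.pullTensorIso (ProperFin.pnMap n φ) (twistProjSpace n A d) (twistProjSpace n A 1) ≪≫ tensCongr e e₁ ≪≫ b ≪≫
      eqToIso (congrArg (twistProjSpace n B) (Nat.cast_succ d).symm)⟩

end Groth.Agent.TwistFlat
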