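import Groth.Agent.TwistFlat.OpenBC
import Groth.Agent.TwistFlat.Proj
import Groth.Agent.ProjTwist.Pn.Twist
import Groth.Agent.ZClosLib.CohDescent
import Groth.Agent.CohDev.Coh

/-!
`P^n_Y` over an affine open of the base.
-/

set_option autoImplicit false
set_option linter.style.haveILetI false

universe u

open CategoryTheory CategoryTheory.Limits AlgebraicGeometry TopologicalSpace Opposite

noncomputable section

namespace Groth.Agent.TwistFlat

open Groth.Agent.ProjTwist Groth.Agent.ProjTwist.Pn

variable (n : ℕ) {Y : Scheme.{u}} {V : Y.Opens} (hV : IsAffineOpen V)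

def toInt : ULift.{u} ℤ →+* Γ(Y, V) :=
  (Int.castRingHom Γ(Y, V)).comp ULift.ringEquiv.toRingHom

theorem isPullback_pnMap_from :
    IsPullback (ProperFin.pnMap n (toInt (V := V))) (CohB1.ProjSpace.toSpec n Γ(Y, V))
      (CohB1.ProjSpace.toSpec n (ULift.{u} ℤ)) (hV.fromSpec ≫ specULiftZIsTerminal.from Y) := by
  rw [show hV.fromSpec ≫ specULiftZIsTerminal.from Y =
    Spec.map (CommRingCat.ofHom (toInt (V := V))) from specULiftZIsTerminal.hom_ext _ _]
  exact ProperFin.isPullback_pnMap n _

/-- `P^n` over the affine open, mapping to `P^n_Y`. -/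
def chart : CohB1.ProjSpace n Γ(Y, V) ⟶ CohB1.ProjSpaceOver n Y :=
  pullback.lift (ProperFin.pnMap n toInt) (CohB1.ProjSpace.toSpec n Γ(Y, V) ≫ hV.fromSpec)
    (by rw [Category.assoc]; exact (isPullback_pnMap_from n hV).w)

theorem chart_fst :
    chart n hV ≫ pullback.fst (CohB1.ProjSpace.toSpec n (ULift.{u} ℤ))
      (specULiftZIsTerminal.from Y) = ProperFin.pnMap n toInt :=
  pullback.lift_fst _ _ _

theorem isPullback_chart :
    IsPullback (CohB1.ProjSpace.toSpec n Γ(Y, V)) (chart n hV) hV.fromSpec
      (CohB1.ProjSpaceOver.toBase n Y) := by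
  refine (IsPullback.of_right ?_ (pullback.lift_snd _ _ _)
    (IsPullback.of_hasPullback (CohB1.ProjSpace.toSpec n (ULift.{u} ℤ))
      (specULiftZIsTerminal.from Y))).flip
  exact (chart_fst n hV).symm ▸ isPullback_pnMap_from n hV

theorem isOpenImmersion_chart : IsOpenImmersion (chart n hV) :=
  MorphismProperty.of_isPullback (P := @IsOpenImmersion) (isPullback_chart n hV) inferInstance

theorem nonempty_pullback_twistOver (d : ℕ) :
    Nonempty ((Scheme.Modules.pullback (chart n hV)).obj (Twist.twistOver n Y d) ≅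
      Twist.twistProjSpace n Γ(Y, V) d) :=
  ⟨(Scheme.Modules.pullbackComp _ _).app _ ≪≫
    (Scheme.Modules.pullbackCongr (chart_fst n hV)).app _ ≪≫
    (nonempty_pullback_twist n toInt d).some⟩

variable (G : (CohB1.ProjSpaceOver n Y).Modules)

theorem nonempty_restrict_twist (d : ℕ) :
    letI := isOpenImmersion_chart n hV
    Nonempty ((CohB1.tensorMod G (Twist.twistOver n Y d)).restrict (chart n hV) ≅
      twF (G.restrict (chart n hV)) d) :=
  letI := isOpenImmersion_chart n hV
  ⟨(Scheme.Modules.restrictFunctorIsoPullback _).app _ ≪≫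
    KFlat.PullTensor.pullTensorIso (chart n hV) G (Twist.twistOver n Y d) ≪≫
    tensCongr ((Scheme.Modules.restrictFunctorIsoPullback (chart n hV)).app G).symm
      (nonempty_pullback_twistOver n hV d).some⟩

theorem isCoh_restrict (hG : Coh.IsCoh G) :
    letI := isOpenImmersion_chart n hV
    Coh.IsCoh (G.restrict (chart n hV)) :=
  letI := isOpenImmersion_chart n hV
  CohDev.isCoh_of_iso ((Scheme.Modules.restrictFunctorIsoPullback (chart n hV)).app G).symm
    (ZClosLib.CohDescent.isCoh_pullback _ G hG)

theorem isQCoh_restrict [G.IsQuasicoherent] :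
    letI := isOpenImmersion_chart n hV
    (G.restrict (chart n hV)).IsQuasicoherent :=
  letI := isOpenImmersion_chart n hV
  (SheafOfModules.isQuasicoherent (CohB1.ProjSpace n Γ(Y, V)).ringCatSheaf).prop_of_iso
    ((Scheme.Modules.restrictFunctorIsoPullback (chart n hV)).app G).symm
    (QCoh.isQuasicoherent_pullback (chart n hV) G)

end Groth.Agent.TwistFlat
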