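import Groth.Agent.TwistFlat.Pn
import Groth.Agent.TwistFlat.Chart
import Groth.Agent.PinchLib.Modules

/-!
Flatness on `P^n_Y` over `Y` through direct images of twists.
-/

set_option autoImplicit false
set_option linter.style.haveILetI false

universe u

open CategoryTheory CategoryTheory.Limits AlgebraicGeometry TopologicalSpace Opposite

noncomputable section

namespace Groth.Agent.TwistFlat

open Groth.Agent.ProjTwist Groth.Agent.ProjTwist.Pn

theorem isProper_toBase (n : ℕ) (Y : Scheme.{u}) : IsProper (CohB1.ProjSpaceOver.toBase n Y) := by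
  haveI := ProjProper.Basic.isProper_toSpec n (ULift.{u} ℤ)
  exact MorphismProperty.pullback_snd (P := @IsProper) _ _ inferInstance

theorem isQCoh_twistOver (n : ℕ) (Y : Scheme.{u}) (d : ℤ) :
    Coh.IsQCoh (Twist.twistOver n Y d) :=
  haveI : (Twist.twistProjSpace n (ULift.{u} ℤ) d).IsQuasicoherent := isQCoh_twistProjSpace n _ d
  QCoh.isQuasicoherent_pullback _ _

theorem isInvertible_twistOver (n : ℕ) (Y : Scheme.{u}) (d : ℤ) :
    PicF.IsInvertible (Twist.twistOver n Y d) :=
  PicCl.isInvertible_pullback _ (isInvertible_twistProjSpace n _ d)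

variable {n : ℕ} {Y : Scheme.{u}} {G : (CohB1.ProjSpaceOver n Y).Modules}

theorem fromSpec_image_top {V : Y.Opens} (hV : IsAffineOpen V) : hV.fromSpec ''ᵁ ⊤ = V :=
  (Scheme.Hom.image_top_eq_opensRange _).trans hV.opensRange_fromSpec

/-- Flatness gives finite locally free direct images of large twists. -/
theorem exists_forall_isFinLocFree [IsNoetherian Y] (hG : Coh.IsCoh G)
    (hfl : FlatMod.IsFlatOver (CohB1.ProjSpaceOver.toBase n Y) G) :
    ∃ N : ℕ, ∀ d : ℕ, N ≤ d → FlatMod.IsFinLocFree ((Coh.push (CohB1.ProjSpaceOver.toBase n Y)).obj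
      (CohB1.tensorMod G (Twist.twistOver n Y d))) := by
  haveI := hG.1
  have loc : ∀ y : Y, ∃ V : Y.Opens, IsAffineOpen V ∧ y ∈ V ∧ ∃ N : ℕ, ∀ d : ℕ, N ≤ d →
      Module.Flat Γ(Y, V) Γ((Coh.push (CohB1.ProjSpaceOver.toBase n Y)).obj
        (CohB1.tensorMod G (Twist.twistOver n Y d)), V) ∧
      Module.Finite Γ(Y, V) Γ((Coh.push (CohB1.ProjSpaceOver.toBase n Y)).obj
        (CohB1.tensorMod G (Twist.twistOver n Y d)), V) := fun y => by
    obtain ⟨V, hV, hyV, -⟩ := exists_isAffineOpen_mem_and_subset (U := (⊤ : Y.Opens)) (x := y) trivial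
    refine ⟨V, hV, hyV, ?_⟩
    haveI : IsNoetherianRing Γ(Y, V) := IsLocallyNoetherian.component_noetherian ⟨V, hV⟩
    haveI := isOpenImmersion_chart n hV
    haveI := isQCoh_restrict n hV G
    have H := isPullback_chart n hV
    obtain ⟨N, hN⟩ := exists_forall_flat_finite (isCoh_restrict n hV G hG)
      ((isFlatOver_restrict_iff H G).2 fun x => hfl _)
    refine ⟨N, fun d hd => ?_⟩
    obtain ⟨h1, h2⟩ := hN d hd
    obtain ⟨e⟩ := nonempty_restrict_twist n hV G d
    haveI := h1
    haveI := h2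
    let l := isoSec (CohB1.ProjSpace.toSpec n Γ(Y, V)) (V := ⊤) e.symm
    obtain ⟨a, b⟩ := flat_finite_push_restrict H (CohB1.tensorMod G (Twist.twistOver n Y d))
    have := And.intro (a.1 (Module.Flat.of_linearEquiv l.symm)) (b.1 (Module.Finite.equiv l))
    rwa [fromSpec_image_top hV] at this
  choose V hV hyV N hN using loc
  obtain ⟨t, ht⟩ := isCompact_univ.elim_finite_subcover (fun y : Y => (V y : Set Y))
    (fun y => (V y).isOpen) fun y _ => Set.mem_iUnion.mpr ⟨y, hyV y⟩
  refine ⟨t.sup N, fun d hd => ?_⟩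
  haveI := isProper_toBase n Y
  haveI := isQCoh_twistOver n Y d
  haveI : (CohB1.tensorMod G (Twist.twistOver n Y d)).IsQuasicoherent :=
    LimTop.TensorQC.isQuasicoherent_tensM G (Twist.twistOver n Y d)
  haveI : ((Coh.push (CohB1.ProjSpaceOver.toBase n Y)).obj
      (CohB1.tensorMod G (Twist.twistOver n Y d))).IsQuasicoherent :=
    QCoh.isQuasicoherent_pushforward _ _
  refine PinchLib.isFinLocFree_of_sections fun x => ?_
  obtain ⟨y, hy, hxy⟩ := Set.mem_iUnion₂.mp (ht (Set.mem_univ x))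
  haveI : IsNoetherianRing Γ(Y, V y) := IsLocallyNoetherian.component_noetherian ⟨V y, hV y⟩
  obtain ⟨hfl', hfin⟩ := hN y d ((Finset.le_sup hy).trans hd)
  exact ⟨V y, hV y, hxy, Module.finitePresentation_of_finite _ _, hfl'⟩

/-- Finite locally free direct images of large twists give flatness. -/
theorem isFlatOver_of_isFinLocFree [IsNoetherian Y] [G.IsQuasicoherent] {N : ℕ}
    (h : ∀ d : ℕ, N ≤ d → FlatMod.IsFinLocFree ((Coh.push (CohB1.ProjSpaceOver.toBase n Y)).obj
      (CohB1.tensorMod G (Twist.twistOver n Y d)))) :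
    FlatMod.IsFlatOver (CohB1.ProjSpaceOver.toBase n Y) G := by
  intro x
  obtain ⟨V, hV, hxV, -⟩ := exists_isAffineOpen_mem_and_subset (U := (⊤ : Y.Opens))
    (x := CohB1.ProjSpaceOver.toBase n Y x) trivial
  haveI := isOpenImmersion_chart n hV
  haveI := isQCoh_restrict n hV G
  have H := isPullback_chart n hV
  have hx : x ∈ chart n hV ''ᵁ (CohB1.ProjSpace.toSpec n Γ(Y, V) ⁻¹ᵁ ⊤) := by
    rw [AlgebraicGeometry.IsOpenImmersion.image_preimage_eq_preimage_image_of_isPullback H ⊤,
      fromSpec_image_top hV]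
    exact hxV
  obtain ⟨z, -, rfl⟩ := hx
  refine (isFlatOver_restrict_iff H G).1 ?_ z
  refine isFlatOver_of_flat inferInstance (N := N) fun d hd => ?_
  haveI := isProper_toBase n Y
  haveI := isQCoh_twistOver n Y d
  haveI : (CohB1.tensorMod G (Twist.twistOver n Y d)).IsQuasicoherent :=
    LimTop.TensorQC.isQuasicoherent_tensM G (Twist.twistOver n Y d)
  haveI : ((Coh.push (CohB1.ProjSpaceOver.toBase n Y)).obj
      (CohB1.tensorMod G (Twist.twistOver n Y d))).IsQuasicoherent :=
    QCoh.isQuasicoherent_pushforward _ _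
  haveI : Module.Flat Γ(Y, hV.fromSpec ''ᵁ ⊤) Γ((Coh.push (CohB1.ProjSpaceOver.toBase n Y)).obj
      (CohB1.tensorMod G (Twist.twistOver n Y d)), hV.fromSpec ''ᵁ ⊤) := by
    rw [fromSpec_image_top hV]
    haveI := Props.QProj.projective_sections _ (h d hd) hV
    infer_instance
  haveI := (flat_finite_push_restrict H (CohB1.tensorMod G (Twist.twistOver n Y d))).1.2 this
  obtain ⟨e⟩ := nonempty_restrict_twist n hV G d
  exact Module.Flat.of_linearEquiv (isoSec (CohB1.ProjSpace.toSpec n Γ(Y, V)) (V := ⊤) e).symm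

end Groth.Agent.TwistFlat
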