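import Groth.Agent.TwistFlat.Core
import Groth.Agent.ProjTwist.Pn.Twist
import Groth.Agent.ProjMorph.Sections
import Groth.Agent.ProperFin.Descend
import Groth.Agent.ProjProper.Basic

/-!
Flatness over the base on `P^n_A` through global sections of twists.
-/

set_option autoImplicit false
set_option linter.style.haveILetI false

universe u

open CategoryTheory CategoryTheory.Limits AlgebraicGeometry TopologicalSpace Opposite

noncomputable section

namespace Groth.Agent.TwistFlat

open Groth.Agent.QCoh Groth.Agent.Props.GenLocus Groth.Agent.Props.GenTensor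
open Groth.Agent.ProjTwist Groth.Agent.ProjTwist.Pn

variable (n : ℕ) (A : Type u) [CommRing A]

theorem nonempty_tensorPow_twist (k : ℕ) :
    Nonempty (CohB1.tensorPow (Twist.twistProjSpace n A 1) k ≅ Twist.twistProjSpace n A k) := by
  induction k with
  | zero => exact ⟨twistZeroIso (CohB1.polyGrading n A)⟩
  | succ k ih =>
    obtain ⟨e⟩ := ih
    obtain ⟨a⟩ := nonempty_twistProjSpace_tensor n A k 1
    exact ⟨tensCongr e (Iso.refl _) ≪≫ a ≪≫
      eqToIso (congrArg (Twist.twistProjSpace n A) (Nat.cast_succ k).symm)⟩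

variable {n A}
variable [IsNoetherianRing A] {G : (CohB1.ProjSpace n A).Modules}

/-- For a flat coherent module all large twists have flat finite global sections. -/
theorem exists_forall_flat_finite (hG : Coh.IsCoh G)
    (hfl : FlatMod.IsFlatOver (CohB1.ProjSpace.toSpec n A) G) :
    ∃ N : ℕ, ∀ d : ℕ, N ≤ d →
      Module.Flat Γ(Spec (CommRingCat.of A), ⊤)
        Γ((Coh.push (CohB1.ProjSpace.toSpec n A)).obj (twF G d), ⊤) ∧
      Module.Finite Γ(Spec (CommRingCat.of A), ⊤)
        Γ((Coh.push (CohB1.ProjSpace.toSpec n A)).obj (twF G d), ⊤) := by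
  obtain ⟨d₀, hd₀⟩ := serre_vanishing G hG
  refine ⟨d₀.toNat, fun d hd => ?_⟩
  have hd' : d₀ ≤ (d : ℤ) := (Int.self_le_toNat d₀).trans (by exact_mod_cast hd)
  let q := CohB1.ProjSpace.toSpec n A
  haveI : IsProper q := ProjProper.Basic.isProper_toSpec n A
  haveI : (twF G d).IsQuasicoherent := isQCoh_tw G hG.1 d
  have hflt : FlatMod.IsFlatOver q (twF G d) :=
    haveI := hG.1
    isFlatOver_tensor q G (isInvertible_twistProjSpace n A d) hfl
  have hV := isAffineOpen_top (Spec (CommRingCat.of A))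
  obtain ⟨D⟩ := CBC.nonempty_model q hV
  have h0 : ∀ m, Subsingleton ((D.K (twF G d)).H₀ (m + 1)) := fun m => by
    haveI := hd₀ d hd' (m + 1) m.succ_pos
    have hcov : ⨆ i, D.U i = ⊤ := top_le_iff.mp D.cov
    exact (CBC.hTop_bijective (q.app ⊤).hom hcov (twF G d) D.aff (m + 1)).1.subsingleton
  refine ⟨flat_push_of_vanishing q hV D _ hflt h0, ?_⟩
  letI : (CohB1.ProjSpace n A).Over (Spec (CommRingCat.of A)) := ⟨q⟩
  haveI := finite_cohomology (twF G d) (isCoh_tw hG d) 0
  let σ : A →+* Γ(Spec (CommRingCat.of A), ⊤) := (Scheme.ΓSpecIso (CommRingCat.of A)).inv.hom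
  haveI : RingHomSurjective σ :=
    ⟨fun y => ⟨(Scheme.ΓSpecIso (CommRingCat.of A)).hom y,
      Iso.hom_inv_id_apply (Scheme.ΓSpecIso (CommRingCat.of A)) y⟩⟩
  let ψ : Coh.HH (CohB1.ProjSpace n A) (twF G d) 0 →ₛₗ[σ]
      Γ((Coh.push q).obj (twF G d), ⊤) :=
    { toFun := fun x => ProperFin.h0Sec (twF G d) x
      map_add' := fun a b => map_add (ProperFin.h0Sec (twF G d)) a b
      map_smul' := fun a x => ProperFin.h0Sec_smul (twF G d) (Coh.toGlobal q a) x }
  exact Module.Finite.of_surjective ψ (ProperFin.h0Sec (twF G d)).surjective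

omit [IsNoetherianRing A] in
/-- Flat global sections of all large twists give flatness. -/
theorem isFlatOver_of_flat (hG : Coh.IsQCoh G) {N : ℕ} (h : ∀ d : ℕ, N ≤ d →
      Module.Flat Γ(Spec (CommRingCat.of A), ⊤)
        Γ((Coh.push (CohB1.ProjSpace.toSpec n A)).obj (twF G d), ⊤)) :
    FlatMod.IsFlatOver (CohB1.ProjSpace.toSpec n A) G := by
  intro x
  let q := CohB1.ProjSpace.toSpec n A
  haveI : IsProper q := ProjProper.Basic.isProper_toSpec n A
  haveI : G.IsQuasicoherent := hG
  haveI : CompactSpace (CohB1.ProjSpace n A) := QuasiCompact.compactSpace_of_compactSpace q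
  haveI : QuasiSeparatedSpace (CohB1.ProjSpace n A) := quasiSeparatedSpace_of_quasiSeparated q
  have hL := isInvertible_twistProjSpace n A 1
  obtain ⟨i, hi⟩ := Opens.mem_iSup.mp
    ((iSup_stdOpen n A).ge (trivial : x ∈ (⊤ : (CohB1.ProjSpace n A).Opens)))
  let s : Coh.structureModule (CohB1.ProjSpace n A) ⟶ Twist.twistProjSpace n A 1 :=
    homOfSec (ProjMorph.gsec (X_mem_polyGrading n A i))
  have hs : CohB1.genLocus _ s = stdOpen n A i := by
    refine (AmpleLib.genLocus_homOfSec _).trans ?_
    exact ProjMorph.locus_gsec (fun k => MvPolynomial.X k) (X_mem_polyGrading n A)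
      MvPolynomial.adjoin_range_X (X_mem_polyGrading n A i)
  have hTw : TwFlat q (Twist.twistProjSpace n A 1) G ⊤ N := fun k hk => by
    haveI := h k hk
    exact Module.Flat.of_linearEquiv
      (isoSec q (tensCongr (Iso.refl G) (nonempty_tensorPow_twist n A k).some))
  refine FlatSect.isFlatOverAt_of_flat_sections q (isAffineOpen_top _)
    (U := CohB1.genLocus _ s) (hs ▸ isAffineOpen_stdOpen n A i) le_top G ?_ x (hs ▸ hi)
  exact flat_sections_genLocus q hL s rfl G hTw le_top

end Groth.Agent.TwistFlat
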