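import Groth.Agent.TwistFlat.RankStrata
import Groth.Agent.ProjMor.QProj
import Groth.Agent.TwistFlat.Main
import Groth.Prelude.Def_FGA

/-!
The flattening stratification.
-/

set_option autoImplicit false
set_option linter.style.haveILetI false

universe u

open CategoryTheory CategoryTheory.Limits AlgebraicGeometry TopologicalSpace Opposite

noncomputable section

namespace Groth.Agent.TwistFlat

theorem isPullback_projMap (n : ℕ) {T S : Scheme.{u}} (φ : T ⟶ S) :
    IsPullback (FGA.projMap n φ) (CohB1.ProjSpaceOver.toBase n T) (CohB1.ProjSpaceOver.toBase n S)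
      φ := by
  have h1 : FGA.projMap n φ ≫ pullback.fst (CohB1.ProjSpace.toSpec n (ULift.{u} ℤ))
      (specULiftZIsTerminal.from S) =
      pullback.fst (CohB1.ProjSpace.toSpec n (ULift.{u} ℤ)) (specULiftZIsTerminal.from T) := by
    simp only [FGA.projMap, pullback.map]
    exact (pullback.lift_fst _ _ _).trans (Category.comp_id _)
  have h2 : FGA.projMap n φ ≫ CohB1.ProjSpaceOver.toBase n S = CohB1.ProjSpaceOver.toBase n T ≫ φ := by
    simp only [FGA.projMap, pullback.map, CohB1.ProjSpaceOver.toBase]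
    exact pullback.lift_snd _ _ _
  refine IsPullback.of_right ?_ h2 (IsPullback.of_hasPullback (CohB1.ProjSpace.toSpec n (ULift.{u} ℤ))
    (specULiftZIsTerminal.from S))
  rw [h1, specULiftZIsTerminal.hom_ext (φ ≫ specULiftZIsTerminal.from S) (specULiftZIsTerminal.from T)]
  exact IsPullback.of_hasPullback _ _

variable {X S : Scheme.{u}} [IsNoetherian S] {f : X ⟶ S} [IsProper f] {L F : X.Modules}
  (hL : RelAmple.IsRelAmple f L) (hF : Coh.IsCoh F)

include hL hF in
theorem isFT_push_tw (n : ℕ) : CohB1.IsFT ((Coh.push f).obj (tw L F n)) :=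
  haveI := isQCoh_push_tw hL hF n
  QCoh.isFiniteType_of_forall_exists _ fun y => by
    obtain ⟨V, hV, hy, -⟩ := exists_isAffineOpen_mem_and_subset (U := (⊤ : S.Opens)) (x := y) trivial
    exact ⟨V, hV, hy, (finite_and_flat_push f L F V hL hF hV).1 n⟩

include hL hF in
/-- The flattening stratification of `F` over `S`, by the ranks of direct images of large twists. -/
theorem exists_flattening :
    ∃ (N m : ℕ) (St : Fin m → Scheme.{u}) (e : ∀ i, St i ⟶ S) (r : Fin m → ℕ → ℕ) (w : Fin m → S),
      (∀ i, IsImmersion (e i)) ∧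
      (∀ i, Set.range (e i) =
        {s | ∀ n, N ≤ n → Props.QRank.fibreRank ((Coh.push f).obj (tw L F n)) s = r i n}) ∧
      (∀ i, w i ∈ Set.range (e i)) ∧
      Pairwise (fun i i' => Disjoint (Set.range (e i)) (Set.range (e i'))) ∧
      (⋃ i, Set.range (e i)) = Set.univ ∧
      ∀ (T X' : Scheme.{u}) [IsLocallyNoetherian T] (φ : T ⟶ S) (p : X' ⟶ X) (q : X' ⟶ T)
        (_ : IsPullback p q f φ),
        FlatMod.IsFlatOver q ((Scheme.Modules.pullback p).obj F) ↔
          ∃ g : T ⟶ ∐ St, g ≫ Limits.Sigma.desc e = φ := by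
  obtain ⟨N, P, hP, hrk, hcrit⟩ := exists_uniform_crit hL hF
  obtain ⟨m, St, e, r, w, he, hrange, hw, hdisj, hcov, hu⟩ :=
    exists_strata (M := fun n => (Coh.push f).obj (tw L F n)) (N := N) (fun n => isQCoh_push_tw hL hF n)
      (fun n => isFT_push_tw hL hF n) P hP hrk
  exact ⟨N, m, St, e, r, w, he, hrange, hw, hdisj, hcov,
    fun T X' _ φ p q H => (hcrit T X' φ p q H N le_rfl).trans (hu T φ)⟩

end Groth.Agent.TwistFlat
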