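import Groth.Agent.TwistFlat.StratCrit
import Groth.Agent.TwistFlat.Flatten
import Groth.Agent.TwistFlat.Hilb
import Groth.Agent.EulerChar.Push
import Groth.Agent.ClUnit.Basic
import Groth.Agent.KRRLib.RegSES
import Groth.Agent.Snapper.Basic
import Groth.Agent.ProperFin.PnBase
import Groth.Agent.ProjMor.QProj
import Groth.Agent.S10829
import Groth.Prelude.Def_FGA

/-!
The Hilbert polynomial of a fibre at all integers.
-/

set_option autoImplicit false
set_option linter.style.haveILetI false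

universe u

open CategoryTheory CategoryTheory.Limits AlgebraicGeometry TopologicalSpace Opposite Polynomial

noncomputable section

namespace Groth.Agent.TwistFlat

open Groth.Agent.ProjTwist

section Poly

variable (k : Type u) [Field k] {X : Scheme.{u}} [X.Over (Spec (CommRingCat.of k))]
  [IsProper (X ↘ Spec (CommRingCat.of k))]

/-- A family of invertible modules with group law has polynomial Euler characteristic. -/
theorem exists_int_poly (T : ℤ → X.Modules) (hT : ∀ a, PicF.IsInvertible (T a))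
    (hadd : ∀ a b, Nonempty (CohB1.tensorMod (T a) (T b) ≅ T (a + b)))
    (h0 : Nonempty (T 0 ≅ Coh.structureModule X)) {F : X.Modules} (hF : Coh.IsCoh F) :
    ∃ P : ℚ[X], ∀ m : ℤ, (Curv2.euler k X (CohB1.tensorMod F (T m)) : ℚ) = P.eval (m : ℚ) := by
  have hpow : ∀ m : ℕ, Nonempty (CohB1.tensorPow (T 1) m ≅ T (m : ℤ)) := fun m => by
    induction m with
    | zero => exact ⟨h0.some.symm⟩
    | succ m ih =>
      exact ⟨tensCongr ih.some (Iso.refl (T 1)) ≪≫ (hadd (m : ℤ) 1).some ≪≫ eqToIso (by push_cast; rfl)⟩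
  obtain ⟨P, hP⟩ := HilbPolyX.exists_hilbPoly k (hT 1) hF
  have hPm : ∀ m : ℕ, (Curv2.euler k X (CohB1.tensorMod F (T (m : ℤ))) : ℚ) = P.eval (m : ℚ) :=
    fun m => (congrArg (fun z : ℤ => (z : ℚ))
      (EulerChar.euler_iso k (tensCongr (Iso.refl F) (hpow m).some.symm))).trans (hP m)
  refine ⟨P, fun m => ?_⟩
  obtain ⟨s, rfl | rfl⟩ := Int.eq_nat_or_neg m
  · simpa using hPm s
  · have hG : Coh.IsCoh (CohB1.tensorMod F (T (-(s : ℤ)))) :=
      haveI := EulerChar.isNoetherian k (X := X)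
      ProjTwist.isCoh_tensor (hT _) hF
    obtain ⟨Q, hQ⟩ := HilbPolyX.exists_hilbPoly k (hT 1) hG
    have hQm : ∀ j : ℕ, (Curv2.euler k X (CohB1.tensorMod F (T (-(s : ℤ) + (j : ℤ)))) : ℚ) =
        Q.eval (j : ℚ) := fun j =>
      (congrArg (fun z : ℤ => (z : ℚ)) (EulerChar.euler_iso k
        (tensCongr (Iso.refl F) ((hadd (-(s : ℤ)) (j : ℤ)).some.symm ≪≫
            tensCongr (Iso.refl _) (hpow j).some.symm) ≪≫ (tensAssoc F _ _).symm))).trans (hQ j)
    have he : Q.comp (Polynomial.X + C (s : ℚ)) = P := by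
      refine HilbPolyX.poly_ext fun j => ?_
      rw [eval_comp, eval_add, eval_X, eval_C, show (j : ℚ) + (s : ℚ) = ((j + s : ℕ) : ℚ) by push_cast; ring,
        ← hQm, ← hPm]
      push_cast
      rw [show -(s : ℤ) + ((j : ℤ) + (s : ℤ)) = (j : ℤ) by ring]
    have h := hQm 0
    rw [Nat.cast_zero, add_zero] at h
    rw [h, ← he, eval_comp, eval_add, eval_X, eval_C]
    push_cast
    rw [neg_add_cancel]

end Poly

/-- Euler characteristics transport along an isomorphism over the field. -/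
theorem euler_iso_scheme {k : Type u} [Field k] {X Y : Scheme.{u}} (r : X ⟶ Spec (CommRingCat.of k))
    (r' : Y ⟶ Spec (CommRingCat.of k)) [hr : IsProper r'] (e : X ≅ Y) (w : e.hom ≫ r' = r) (N : Y.Modules)
    (hN : Coh.IsQCoh N) :
    @Curv2.euler k _ X ⟨r⟩ ((Scheme.Modules.pullback e.hom).obj N) = @Curv2.euler k _ Y ⟨r'⟩ N := by
  letI : X.Over (Spec (CommRingCat.of k)) := ⟨r⟩
  letI : Y.Over (Spec (CommRingCat.of k)) := ⟨r'⟩
  haveI : IsProper (Y ↘ Spec (CommRingCat.of k)) := hr
  haveI : N.IsQuasicoherent := hN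
  refine ((EulerChar.euler_push (k := k) e.hom w _ (QCoh.isQuasicoherent_pullback e.hom N)).symm).trans
    (EulerChar.euler_iso k ?_)
  haveI : IsIso ((Scheme.Modules.pullbackPushforwardAdjunction e.hom).unit.app N) := by
    refine (ClUnit.isIso_unit_iff_stalk e.hom N).2 ⟨fun z r hr t => ?_, fun x hx => (hx ⟨e.inv x, ?_⟩).elim⟩
    · rw [show r = 0 from (ConcreteCategory.bijective_of_isIso (e.hom.stalkMap z)).1 (hr.trans (map_zero _).symm), zero_smul]
    · exact congr($(e.inv_hom_id).base x)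
  exact ((asIso ((Scheme.Modules.pullbackPushforwardAdjunction e.hom).unit.app N))).symm

section Fibre

variable {X S X' : Scheme.{u}} [IsNoetherian S] {f : X ⟶ S} [IsProper f] {L F : X.Modules}
  {y : S} {q : X' ⟶ X} {r : X' ⟶ Spec (CommRingCat.of (S.residueField y))}

/-- For large twists the Euler characteristic of any model of the fibre is the rank of the direct
image. -/
theorem exists_forall_euler_eq_fibreRank (hL : RelAmple.IsRelAmple f L) (hF : Coh.IsCoh F)
    (H : IsPullback q r f (S.fromSpecResidueField y)) :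
    ∃ N : ℕ, ∀ m, N ≤ m → @Curv2.euler (S.residueField y) _ X' ⟨r⟩
        ((Scheme.Modules.pullback q).obj (tw L F m)) =
      (Props.QRank.fibreRank ((Coh.push f).obj (tw L F m)) y : ℤ) := by
  obtain ⟨W, hW, hyW, -⟩ := exists_isAffineOpen_mem_and_subset (U := (⊤ : S.Opens)) (x := y) trivial
  have hpt : pt hW (hW.primeIdealOf ⟨y, hyW⟩) = y := hW.fromSpec_primeIdealOf ⟨y, hyW⟩
  obtain ⟨N, hN⟩ := exists_forall_euler_eq_finrank f L F hL hF hW y hyW
  refine ⟨N, fun m hm => ?_⟩
  let e : X' ≅ f.fiber y := H.isoPullback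
  haveI : IsLocallyNoetherian X := LocallyOfFiniteType.isLocallyNoetherian f
  haveI := hF.1
  haveI : (tw L F m).IsQuasicoherent :=
    isQCoh_twist F L (AmpleLib.isInvertible_of_isRelAmple hL) m
  haveI := isQCoh_push_tw hL hF m
  have hiso : (Scheme.Modules.pullback q).obj (tw L F m) ≅
      (Scheme.Modules.pullback e.hom).obj ((Scheme.Modules.pullback (f.fiberι y)).obj (tw L F m)) :=
    (Scheme.Modules.pullbackCongr H.isoPullback_hom_fst.symm).app _ ≪≫
      ((Scheme.Modules.pullbackComp e.hom (f.fiberι y)).app _).symm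
  rw [fibreRank_eq_fib _ hW y hyW, ← finrank_evalAlg_eq_fib hW y hyW, ← hN m hm]
  letI : X'.Over (Spec (CommRingCat.of (S.residueField y))) := ⟨r⟩
  haveI : IsProper (X' ↘ Spec (CommRingCat.of (S.residueField y))) :=
    show IsProper r from MorphismProperty.of_isPullback (P := @IsProper) H inferInstance
  haveI : IsProper (f.fiberToSpecResidueField y) :=
    inferInstanceAs (IsProper (pullback.snd f (S.fromSpecResidueField y)))
  exact (EulerChar.euler_iso (S.residueField y) hiso).trans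
    (euler_iso_scheme r (f.fiberToSpecResidueField y) e H.isoPullback_hom_snd _
      (QCoh.isQuasicoherent_pullback (f.fiberι y) (tw L F m)))

end Fibre

section ProjSpace

variable {S : Scheme.{u}}

theorem nonempty_tensorPow_one (n : ℕ) (S : Scheme.{u}) (m : ℕ) :
    Nonempty (CohB1.tensorPow (Twist.twistOver n S 1) m ≅ Twist.twistOver n S (m : ℤ)) := by
  induction m with
  | zero => exact ⟨KRRLib.twistZero.symm⟩
  | succ m ih => exact ⟨tensCongr ih.some (Iso.refl _) ≪≫ KRRLib.twistAdd (m : ℤ) 1 _ (by push_cast; rfl)⟩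

/-- The fibre of projective space at a point. -/
theorem isPullback_fibreAt (n : ℕ) (s : (Over.mk (𝟙 S)).left) :
    IsPullback (pullback.fst (PicF.XTproj (CohB1.ProjSpaceOver.toBase n S) (Over.mk (𝟙 S)))
        ((Over.mk (𝟙 S)).left.fromSpecResidueField s) ≫
        pullback.fst (CohB1.ProjSpaceOver.toBase n S) (Over.mk (𝟙 S)).hom)
      (pullback.snd (PicF.XTproj (CohB1.ProjSpaceOver.toBase n S) (Over.mk (𝟙 S)))
        ((Over.mk (𝟙 S)).left.fromSpecResidueField s))
      (CohB1.ProjSpaceOver.toBase n S) (S.fromSpecResidueField s) := by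
  have h := (IsPullback.of_hasPullback (PicF.XTproj (CohB1.ProjSpaceOver.toBase n S) (Over.mk (𝟙 S)))
    ((Over.mk (𝟙 S)).left.fromSpecResidueField s)).paste_horiz
    (IsPullback.of_hasPullback (CohB1.ProjSpaceOver.toBase n S) (Over.mk (𝟙 S)).hom)
  rwa [show (Over.mk (𝟙 S)).left.fromSpecResidueField s ≫ (Over.mk (𝟙 S)).hom =
    S.fromSpecResidueField s from Category.comp_id _] at h

/-- The fibre has dimension `n`. -/
theorem topologicalKrullDim_fibreAt (n : ℕ) (s : (Over.mk (𝟙 S)).left) :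
    topologicalKrullDim ↥(FGA.fibreAt (CohB1.ProjSpaceOver.toBase n S) (Over.mk (𝟙 S)) s).left =
      (n : WithBot ℕ∞) := by
  obtain ⟨e, -⟩ := ProperFin.exists_iso_projSpaceOver n (S.residueField s : Type u)
  let i := (isPullback_fibreAt n s).isoIsPullback _ _ (isPullback_projMap n (S.fromSpecResidueField s)) ≪≫ e
  exact (IsHomeomorph.topologicalKrullDim_eq _ (Scheme.homeoOfIso i).isHomeomorph).trans
    (Groth.Agent.S10829.result (S.residueField s : Type u) n)

/-- The Euler characteristic of the twists of the fibre at `s`. -/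
abbrev fibChi (n : ℕ) (F : (CohB1.ProjSpaceOver n S).Modules) (s : (Over.mk (𝟙 S)).left) (m : ℤ) : ℤ :=
  FGA.eulerCharLE ((Over.mk (𝟙 S)).left.residueField s)
    (FGA.fibreAt (CohB1.ProjSpaceOver.toBase n S) (Over.mk (𝟙 S)) s).left
    (CohB1.tensorMod
      (FGA.restrFibre (CohB1.ProjSpaceOver.toBase n S) (Over.mk (𝟙 S)) s
        (FGA.ET (CohB1.ProjSpaceOver.toBase n S) F (Over.mk (𝟙 S))))
      (FGA.restrFibre (CohB1.ProjSpaceOver.toBase n S) (Over.mk (𝟙 S)) s
        (FGA.ET (CohB1.ProjSpaceOver.toBase n S) (Twist.twistOver n S m) (Over.mk (𝟙 S))))) n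

variable [IsNoetherian S]

/-- The Hilbert polynomial of a fibre, at all integers, and its values as fibre ranks. -/
theorem exists_fibPoly (n : ℕ) {F : (CohB1.ProjSpaceOver n S).Modules} (hF : Coh.IsCoh F)
    (s : (Over.mk (𝟙 S)).left) :
    ∃ P : ℚ[X], (∀ m : ℤ, (fibChi n F s m : ℚ) = P.eval (m : ℚ)) ∧
      ∃ N : ℕ, ∀ m, N ≤ m → P.eval (m : ℚ) = (Props.QRank.fibreRank
        ((Coh.push (CohB1.ProjSpaceOver.toBase n S)).obj (tw (Twist.twistOver n S 1) F m)) s : ℚ) := by
  haveI := isProper_toBase n S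
  let k := (Over.mk (𝟙 S)).left.residueField s
  let Y := (FGA.fibreAt (CohB1.ProjSpaceOver.toBase n S) (Over.mk (𝟙 S)) s).left
  let f := CohB1.ProjSpaceOver.toBase n S
  have H := isPullback_fibreAt n s
  let r : Y ⟶ Spec (CommRingCat.of k) := pullback.snd (PicF.XTproj f (Over.mk (𝟙 S))) _
  let q : Y ⟶ CohB1.ProjSpaceOver n S :=
    pullback.fst (PicF.XTproj f (Over.mk (𝟙 S))) _ ≫ pullback.fst f _
  letI : Y.Over (Spec (CommRingCat.of k)) := ⟨r⟩
  haveI : IsProper (Y ↘ Spec (CommRingCat.of k)) :=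
    show IsProper r from MorphismProperty.of_isPullback (P := @IsProper) H inferInstance
  let T : ℤ → Y.Modules := fun m => (Scheme.Modules.pullback q).obj (Twist.twistOver n S m)
  have hL : RelAmple.IsRelAmple f (Twist.twistOver n S 1) := ProjMor.isRelAmple_twistOver n S
  obtain ⟨P, hP⟩ := exists_int_poly k T
    (fun a => PicCl.isInvertible_pullback q (KRRLib.isInvertible_twistOver a))
    (fun a b => ⟨(KFlat.PullTensor.pullTensorIso q _ _).symm ≪≫
      (Scheme.Modules.pullback q).mapIso (KRRLib.twistAdd a b _ rfl)⟩)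
    ⟨(Scheme.Modules.pullback q).mapIso KRRLib.twistZero ≪≫ QCoh.pullbackUnitIso q⟩
    (ZClosLib.CohDescent.isCoh_pullback q F hF)
  let eq' : ∀ G : (CohB1.ProjSpaceOver n S).Modules,
      FGA.restrFibre f (Over.mk (𝟙 S)) s (FGA.ET f G (Over.mk (𝟙 S))) ≅
        (Scheme.Modules.pullback q).obj G := fun G => (Scheme.Modules.pullbackComp _ _).app G
  have hχ : ∀ m : ℤ, fibChi n F s m =
      Curv2.euler k Y (CohB1.tensorMod ((Scheme.Modules.pullback q).obj F) (T m)) := fun m =>
    (Snapper.eulerCharLE_eq k (topologicalKrullDim_fibreAt n s).le _).trans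
      (EulerChar.euler_iso k (tensCongr (eq' F) (eq' _)))
  refine ⟨P, fun m => by rw [hχ]; exact hP m, ?_⟩
  obtain ⟨N, hN⟩ := exists_forall_euler_eq_fibreRank hL hF H
  refine ⟨N, fun m hm => ?_⟩
  obtain ⟨e⟩ : Nonempty (CohB1.tensorPow (Twist.twistOver n S 1) m ≅ Twist.twistOver n S (m : ℤ)) :=
    nonempty_tensorPow_one n S m
  have h1 := hN m hm
  replace h1 := ((EulerChar.euler_iso k ((Scheme.Modules.pullback q).mapIso
    (tensCongr (Iso.refl F) e) ≪≫ KFlat.PullTensor.pullTensorIso q F _)).symm.trans h1)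
  have h2 := hP (m : ℤ)
  rw [Int.cast_natCast] at h2
  rw [← h2]
  exact_mod_cast h1

end ProjSpace

end Groth.Agent.TwistFlat
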