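import Groth.Agent.KFlat.PullTensor
import Groth.Agent.Props.GenPull
import Groth.Agent.LimTop.TwistSec
import Groth.Agent.LimTop.TensorQC

/-!
The projection formula for an invertible module.
-/

set_option autoImplicit false
set_option linter.style.haveILetI false

universe u

open CategoryTheory CategoryTheory.Limits AlgebraicGeometry TopologicalSpace Opposite

noncomputable section

namespace Groth.Agent.TwistFlat

open Groth.Agent.QCoh Groth.Agent.Props.GenLocus Groth.Agent.Props.GenTensor Groth.Agent.Props.GenPull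
open Groth.Agent.KFlat.PullTensor Groth.Agent.KFlat.StalkTensor

variable {X Y : Scheme.{u}}

theorem tmul_eq_tmulSec {M N : X.Modules} {V : X.Opens} (m : Γ(M, V)) (n : Γ(N, V)) :
    tmul m n = tmulSec V m n := rfl

variable (f : X ⟶ Y) (F : X.Modules) (L : Y.Modules)

/-- `f_* F ⊗ L ⟶ f_* (F ⊗ f^* L)`. -/
def projMap : CohB1.tensorMod ((Coh.push f).obj F) L ⟶
    (Coh.push f).obj (CohB1.tensorMod F ((Scheme.Modules.pullback f).obj L)) :=
  (Scheme.Modules.pullbackPushforwardAdjunction f).homEquiv _ _
    (pullTensor f ((Coh.push f).obj F) L ≫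
      tensMap ((Scheme.Modules.pullbackPushforwardAdjunction f).counit.app F) (𝟙 _))

theorem projMap_tmul {U : Y.Opens} (m : Γ((Coh.push f).obj F, U)) (l : Γ(L, U)) :
    (projMap f F L).app U (tmul m l) =
      tmul (M := F) (show Γ(F, f ⁻¹ᵁ U) from m) (pb f l) := by
  rw [projMap, Adjunction.homEquiv_unit]
  show (pullTensor f ((Coh.push f).obj F) L ≫
      tensMap ((Scheme.Modules.pullbackPushforwardAdjunction f).counit.app F) (𝟙 _)).app (f ⁻¹ᵁ U)
      (ηS f (tensM ((Coh.push f).obj F) L) U (tmulSec U m l)) = _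
  rw [Scheme.Modules.Hom.comp_app, CategoryTheory.comp_apply, pullTensor_ηS]
  refine (tensMap_tmulSec _ _ _ _ _).trans ?_
  refine congrArg₂ (tmulSec (f ⁻¹ᵁ U)) ?_ rfl
  exact congrArg (fun φ : (Coh.push f).obj F ⟶ (Coh.push f).obj F => Scheme.Modules.Hom.app φ U m)
    ((Scheme.Modules.pullbackPushforwardAdjunction f).right_triangle_components F)

/-- The projection formula for an invertible module. -/
theorem isIso_projMap (hL : PicF.IsInvertible L) : IsIso (projMap f F L) := by
  refine LFFrame.isIso_of_locally_bijective _ fun y => ?_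
  obtain ⟨U, e, hyU, he⟩ := exists_isGen hL y
  refine ⟨U, hyU, fun V hV => ?_⟩
  have h1 : Function.Bijective fun m : Γ((Coh.push f).obj F, V) => tmul m (res L hV e) :=
    ⟨LimTop.TwistSec.tmul_gen_injective he hV, LimTop.TwistSec.tmul_gen_surjective he hV⟩
  refine (Function.Bijective.of_comp_iff _ h1).mp ?_
  have hge := isGen_pb f (he.restrict hV)
  have h2 : Function.Bijective fun m : Γ(F, f ⁻¹ᵁ V) =>
      tmul m (res ((Scheme.Modules.pullback f).obj L) le_rfl (pb f (res L hV e))) :=
    ⟨LimTop.TwistSec.tmul_gen_injective hge le_rfl, LimTop.TwistSec.tmul_gen_surjective hge le_rfl⟩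
  refine Eq.mpr (congrArg Function.Bijective (funext fun m => ?_)) h2
  show (projMap f F L).app V (tmul m (res L hV e)) = _
  rw [projMap_tmul, res_self]

/-- The projection formula for an invertible module. -/
def projIso (hL : PicF.IsInvertible L) : CohB1.tensorMod ((Coh.push f).obj F) L ≅
    (Coh.push f).obj (CohB1.tensorMod F ((Scheme.Modules.pullback f).obj L)) :=
  @asIso _ _ _ _ (projMap f F L) (isIso_projMap f F L hL)

end Groth.Agent.TwistFlat
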