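import Groth.Agent.CBC.BCx
import Groth.Agent.CBC.Rel
import Mathlib.RingTheory.Localization.BaseChange

/-!
Cohomology of a complex with coefficients in a localized quotient.
-/

set_option autoImplicit false
set_option linter.style.haveILetI false

universe u

open Function TensorProduct LinearMap

noncomputable section

namespace Groth.Agent.TwistFlat

open Groth.Agent.CBC

variable {A : Type u} [CommRing A] (K : SCx A) {M N : Type u} [AddCommGroup M] [Module A M]
  [AddCommGroup N] [Module A N]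

theorem Hmap_add (f g : M →ₗ[A] N) (p : ℕ) (x : K.H M p) :
    K.Hmap (f + g) p x = K.Hmap f p x + K.Hmap g p x := by
  obtain ⟨z, rfl⟩ := Submodule.Quotient.mk_surjective _ x
  rw [SCx.Hmap_mk, SCx.Hmap_mk, SCx.Hmap_mk, ← Submodule.Quotient.mk_add]
  refine congrArg Submodule.Quotient.mk (Subtype.ext ?_)
  show (f + g).lTensor (K.X p) z.1 = _
  rw [LinearMap.lTensor_add]
  rfl

def HmapHom (p : ℕ) (x : K.H M p) : (M →ₗ[A] N) →+ K.H N p :=
  AddMonoidHom.mk' (fun f => K.Hmap f p x) fun f g => Hmap_add K f g p x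

theorem Φ_natural (g : M →ₗ[A] N) (p : ℕ) (z : M ⊗[A] K.H A p) :
    K.Hmap g p (K.Φ p M z) = K.Φ p N (g.rTensor _ z) := by
  induction z using TensorProduct.induction_on with
  | zero => simp only [map_zero]
  | tmul m x =>
    rw [LinearMap.rTensor_tmul, SCx.Φ_tmul, SCx.Φ_tmul, Hmap_comp]
    rw [LinearMap.comp_toSpanSingleton]
  | add a b ha hb => simp only [map_add, ha, hb]

theorem Φ_one (p : ℕ) (x : K.H A p) : K.Φ p A (1 ⊗ₜ x) = x := by
  rw [SCx.Φ_tmul, show LinearMap.toSpanSingleton A A 1 = LinearMap.id from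
    LinearMap.ext fun a => mul_one a, Hmap_id]

/-- The comparison at a quotient ring, from exactness. -/
theorem Φ_quot_bijective {q p : ℕ} (a : Fin q → A) (g : A →ₗ[A] N) (hg : Surjective g)
    (hga : ∀ i, g (a i) = 0) (hs : Surjective (K.Hmap g p))
    (he : ∀ x, K.Hmap g p x = 0 →
      x ∈ LinearMap.range (K.Hmap (∑ i, (LinearMap.proj i : (Fin q → A) →ₗ[A] A).smulRight (a i)) p)) :
    Bijective (K.Φ p N) := by
  refine ⟨(injective_iff_map_eq_zero _).2 fun z hz => ?_, fun y => ?_⟩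
  · have h1 : ∀ z : N ⊗[A] K.H A p, ∃ x, g.rTensor _ ((1 : A) ⊗ₜ x) = z := fun z => by
      obtain ⟨w, rfl⟩ := LinearMap.rTensor_surjective (K.H A p) hg z
      obtain ⟨x, rfl⟩ := (TensorProduct.lid A (K.H A p)).symm.surjective w
      exact ⟨x, by rw [TensorProduct.lid_symm_apply]⟩
    obtain ⟨x, rfl⟩ := h1 z
    rw [← Φ_natural, Φ_one] at hz
    obtain ⟨v, hv⟩ := he x hz
    have hsum : x = ∑ i, a i • K.Hmap (LinearMap.proj i : (Fin q → A) →ₗ[A] A) p v := by
      rw [← hv]
      refine (map_sum (HmapHom K p v) _ Finset.univ).trans (Finset.sum_congr rfl fun i _ => ?_)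
      show K.Hmap _ p v = _
      rw [show (LinearMap.proj i : (Fin q → A) →ₗ[A] A).smulRight (a i) =
          (a i • LinearMap.id : A →ₗ[A] A) ∘ₗ LinearMap.proj i from
        LinearMap.ext fun w => mul_comm _ _, ← Hmap_comp, SCx.smul_id_Hmap]
    rw [LinearMap.rTensor_tmul, hsum, TensorProduct.tmul_sum]
    refine Finset.sum_eq_zero fun i _ => ?_
    rw [TensorProduct.tmul_smul, TensorProduct.smul_tmul', ← map_smul, smul_eq_mul, mul_one, hga,
      TensorProduct.zero_tmul]
  · obtain ⟨x, rfl⟩ := hs y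
    exact ⟨g.rTensor _ (1 ⊗ₜ x), by rw [← Φ_natural, Φ_one]⟩

variable (S : Submonoid A) (ι : M →ₗ[A] N) [IsLocalizedModule S ι]

theorem isLocalizedModule_lTensor (P : Type u) [AddCommGroup P] [Module A P] :
    IsLocalizedModule S (ι.lTensor P) := by
  haveI h : IsLocalizedModule S (ι.rTensor P) :=
    IsLocalizedModule.rTensor (R := A) (A := A) (N := P) S ι
  rw [show ι.lTensor P = (TensorProduct.comm A N P).toLinearMap ∘ₗ ι.rTensor P ∘ₗ
      (TensorProduct.comm A P M).toLinearMap from TensorProduct.ext' fun x m => rfl]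
  infer_instance

include S ι in
/-- Vanishing and base change pass to a localization of the coefficients. -/
theorem localized_coeff (hv : ∀ i, Subsingleton (K.H M (i + 1))) (hb : Bijective (K.Φ 0 M)) :
    (∀ i, Subsingleton (K.H N (i + 1))) ∧ Bijective (K.Φ 0 N) := by
  have loc := isLocalizedModule_lTensor (M := M) (N := N) S ι
  have lift : ∀ (p : ℕ) (z : K.Z N p), ∃ (s : S) (y : K.Z M p),
      s • z.1 = ι.lTensor (K.X p) y.1 := fun p z => by
    haveI := loc (K.X p)
    haveI := loc (K.X (p + 1))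
    obtain ⟨⟨y, s⟩, hy⟩ := IsLocalizedModule.surj S (ι.lTensor (K.X p)) z.1
    have h0 : ι.lTensor (K.X (p + 1)) ((K.d p).rTensor M y) = 0 := by
      refine (FlatCx.rTensor_lTensor_comm ι (K.d p) y).symm.trans ?_
      rw [← hy, Submonoid.smul_def, map_smul, show (K.d p).rTensor N z.1 = 0 from z.2, smul_zero]
    obtain ⟨c, hc⟩ := (IsLocalizedModule.eq_iff_exists S (ι.lTensor (K.X (p + 1)))).1
      (h0.trans (map_zero _).symm)
    refine ⟨c * s, ⟨(c : A) • y, ?_⟩, ?_⟩
    · show (K.d p).rTensor M ((c : A) • y) = 0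
      rw [map_smul]
      simpa [Submonoid.smul_def] using hc
    · show (c * s) • z.1 = ι.lTensor (K.X p) ((c : A) • y)
      rw [map_smul, ← hy, mul_smul, Submonoid.smul_def]
  have cancelX : ∀ (p : ℕ) (s : S) (x : K.X p ⊗[A] N), s • x = 0 → x = 0 := fun p s x hx => by
    haveI := loc (K.X p)
    exact (IsLocalizedModule.smul_injective (ι.lTensor (K.X p)) s) (hx.trans (smul_zero s).symm)
  have cancel0 : ∀ (s : S) (x : K.H N 0), s • x = 0 → x = 0 := fun s x hx => by
    obtain ⟨z, rfl⟩ := Submodule.Quotient.mk_surjective _ x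
    rw [← Submodule.Quotient.mk_smul, Submodule.Quotient.mk_eq_zero] at hx
    rw [Submodule.Quotient.mk_eq_zero]
    have : z.1 = 0 := cancelX 0 s z.1 hx
    show z.1 ∈ K.B N 0
    rw [this]
    exact zero_mem _
  refine ⟨fun i => subsingleton_of_forall_eq 0 fun x => ?_, ?_, fun x => ?_⟩
  · obtain ⟨z, rfl⟩ := Submodule.Quotient.mk_surjective _ x
    obtain ⟨s, y, hy⟩ := lift (i + 1) z
    obtain ⟨w, hw⟩ : y.1 ∈ K.B M (i + 1) := by
      have := hv i
      have h : (Submodule.Quotient.mk y : K.H M (i + 1)) = 0 := Subsingleton.elim _ _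
      rwa [Submodule.Quotient.mk_eq_zero] at h
    rw [Submodule.Quotient.mk_eq_zero]
    haveI := loc (K.X i)
    obtain ⟨w', hw'⟩ : ∃ w', s • w' = ι.lTensor (K.X i) w := by
      obtain ⟨w', hw'⟩ := ((Module.End.isUnit_iff _).1
        (IsLocalizedModule.map_units (ι.lTensor (K.X i)) s)).2 (ι.lTensor (K.X i) w)
      exact ⟨w', hw'⟩
    refine ⟨w', sub_eq_zero.1 (cancelX (i + 1) s _ ?_)⟩
    rw [smul_sub, sub_eq_zero, show (K.Z N (i + 1)).subtype z = z.1 from rfl, hy, ← hw, Submonoid.smul_def, ← map_smul, ← Submonoid.smul_def, hw']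
    exact FlatCx.rTensor_lTensor_comm ι (K.d i) w
  · haveI : IsLocalizedModule S (ι.rTensor (K.H A 0)) :=
      IsLocalizedModule.rTensor (R := A) (A := A) (N := K.H A 0) S ι
    refine (injective_iff_map_eq_zero _).2 fun z hz => ?_
    obtain ⟨⟨w, s⟩, hw⟩ := IsLocalizedModule.surj S (ι.rTensor (K.H A 0)) z
    have h0 : K.Hmap ι 0 (K.Φ 0 M w) = 0 := by
      rw [Φ_natural, ← hw, Submonoid.smul_def, map_smul, hz, smul_zero]
    obtain ⟨y, hy⟩ := Submodule.Quotient.mk_surjective _ (K.Φ 0 M w)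
    rw [← hy, SCx.Hmap_mk, Submodule.Quotient.mk_eq_zero] at h0
    haveI := loc (K.X 0)
    obtain ⟨c, hc⟩ := (IsLocalizedModule.eq_iff_exists S (ι.lTensor (K.X 0))).1
      ((show ι.lTensor (K.X 0) y.1 = 0 from h0).trans (map_zero _).symm)
    have hcw : c • w = 0 := hb.1 (by
      rw [map_zero, Submonoid.smul_def, map_smul, ← hy, ← Submodule.Quotient.mk_smul,
        Submodule.Quotient.mk_eq_zero]
      show (c : A) • y.1 ∈ K.B M 0
      rw [show (c : A) • y.1 = 0 by simpa [Submonoid.smul_def] using hc]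
      exact zero_mem _)
    have h2 : (c * s) • z = 0 := by
      rw [mul_smul, hw, Submonoid.smul_def, ← map_smul, ← Submonoid.smul_def, hcw, map_zero]
    exact IsLocalizedModule.smul_injective (ι.rTensor (K.H A 0)) (c * s) (h2.trans (smul_zero _).symm)
  · haveI : IsLocalizedModule S (ι.rTensor (K.H A 0)) :=
      IsLocalizedModule.rTensor (R := A) (A := A) (N := K.H A 0) S ι
    obtain ⟨z, rfl⟩ := Submodule.Quotient.mk_surjective _ x
    obtain ⟨s, y, hy⟩ := lift 0 z
    obtain ⟨w, hw⟩ := hb.2 (Submodule.Quotient.mk y)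
    obtain ⟨w', hw'⟩ : ∃ w', s • w' = ι.rTensor (K.H A 0) w := by
      obtain ⟨w', hw'⟩ := ((Module.End.isUnit_iff _).1
        (IsLocalizedModule.map_units (ι.rTensor (K.H A 0)) s)).2 (ι.rTensor (K.H A 0) w)
      exact ⟨w', hw'⟩
    refine ⟨w', sub_eq_zero.1 (cancel0 s _ ?_)⟩
    rw [smul_sub, sub_eq_zero, Submonoid.smul_def, ← map_smul, ← Submonoid.smul_def, hw',
      ← Φ_natural, hw, SCx.Hmap_mk, Submonoid.smul_def, ← Submodule.Quotient.mk_smul]
    exact congrArg Submodule.Quotient.mk (Subtype.ext hy.symm)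

end Groth.Agent.TwistFlat
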