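import Groth.Agent.TwistFlat.Vanish
import Groth.Agent.TwistFlat.OpenBC
import Groth.Agent.CBC.Fibre
import Groth.Agent.CBC.Field
import Groth.Agent.AmpleLib.CompLemma
import Groth.Agent.Props.AmpleRel
import Groth.Agent.KFlat.PullTensor
import Groth.Prelude.Def_Curv2

/-!
Euler characteristics of large twists on a fibre as a fibre dimension of the direct image.
-/

set_option autoImplicit false
set_option linter.style.haveILetI false

universe u

open CategoryTheory CategoryTheory.Limits AlgebraicGeometry TopologicalSpace Opposite Function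
open scoped TensorProduct

noncomputable section

namespace Groth.Agent.TwistFlat

open Groth.Agent.CBC

variable {X S : Scheme.{u}}

/-- The evaluation at a point, as a localization of the quotient by its kernel. -/
theorem exists_localized_residue {W : S.Opens} (hW : IsAffineOpen W) (y : S) (hy : y ∈ W) :
    letI := evalAlg y hy
    ∃ ι : (Γ(S, W) ⧸ (hW.primeIdealOf ⟨y, hy⟩).asIdeal) →ₗ[Γ(S, W)] S.residueField y,
      IsLocalizedModule (hW.primeIdealOf ⟨y, hy⟩).asIdeal.primeCompl ι := by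
  letI := evalAlg y hy
  have hker := ker_eval hW y hy
  let ι : (Γ(S, W) ⧸ (hW.primeIdealOf ⟨y, hy⟩).asIdeal) →ₗ[Γ(S, W)] S.residueField y :=
    Submodule.liftQ _ (Algebra.linearMap Γ(S, W) (S.residueField y)) fun a ha =>
      LinearMap.mem_ker.2 (hker.ge ha)
  have hne : ∀ s : (hW.primeIdealOf ⟨y, hy⟩).asIdeal.primeCompl,
      algebraMap Γ(S, W) (S.residueField y) s ≠ 0 := fun s h0 => s.2 (hker.le h0)
  refine ⟨ι, ⟨fun s => (Module.End.isUnit_iff _).2 ⟨fun a b hab => ?_, fun b => ?_⟩, fun x => ?_,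
    fun {a b} hab => ⟨1, ?_⟩⟩⟩
  · have hab' : algebraMap Γ(S, W) (S.residueField y) s * a =
        algebraMap Γ(S, W) (S.residueField y) s * b := hab
    exact mul_left_cancel₀ (hne s) hab'
  · exact ⟨(algebraMap Γ(S, W) (S.residueField y) s)⁻¹ * b, mul_inv_cancel_left₀ (hne s) b⟩
  · letI := S.presheaf.algebra_section_stalk ⟨y, hy⟩
    haveI : IsLocalization.AtPrime (S.presheaf.stalk y) (hW.primeIdealOf ⟨y, hy⟩).asIdeal :=
      hW.isLocalization_stalk ⟨y, hy⟩
    obtain ⟨t, rfl⟩ := S.residue_surjective y x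
    obtain ⟨⟨a, s⟩, has⟩ := IsLocalization.surj (hW.primeIdealOf ⟨y, hy⟩).asIdeal.primeCompl t
    refine ⟨⟨Submodule.Quotient.mk a, s⟩, ?_⟩
    show algebraMap Γ(S, W) (S.residueField y) s * S.residue y t =
      algebraMap Γ(S, W) (S.residueField y) a
    rw [mul_comm]
    exact (map_mul (S.residue y).hom t _).symm.trans (congrArg (S.residue y).hom has)
  · obtain ⟨a, rfl⟩ := Submodule.Quotient.mk_surjective _ a
    obtain ⟨b, rfl⟩ := Submodule.Quotient.mk_surjective _ b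
    rw [one_smul, one_smul, Submodule.Quotient.eq]
    refine hker.le ?_
    rw [RingHom.mem_ker, map_sub]
    exact sub_eq_zero.2 hab

variable (f : X ⟶ S) [IsProper f] (L : X.Modules) (F : X.Modules)

theorem euler_eq_finrank_aux [IsLocallyNoetherian S] (hL : RelAmple.IsRelAmple f L) (hF : Coh.IsCoh F)
    (V : S.Opens) (hV : IsAffineOpen V) (y : S) (hy : y ∈ V.ι ''ᵁ ⊤) :
    letI := evalAlg y hy
    ∃ N : ℕ, ∀ n, N ≤ n →
      @Curv2.euler (S.residueField y) _ (f.fiber y) ⟨f.fiberToSpecResidueField y⟩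
        ((Scheme.Modules.pullback (f.fiberι y)).obj (CohB1.tensorMod F (CohB1.tensorPow L n))) =
      Module.finrank (S.residueField y) (S.residueField y ⊗[Γ(S, V.ι ''ᵁ ⊤)]
        Γ((Coh.push f).obj (CohB1.tensorMod F (CohB1.tensorPow L n)), V.ι ''ᵁ ⊤)) := by
  letI := evalAlg y hy
  haveI : IsAffine (V : Scheme.{u}) := hV
  have hW : IsAffineOpen (V.ι ''ᵁ ⊤) := (isAffineOpen_top _).image_of_isOpenImmersion V.ι
  have hLi := AmpleLib.isInvertible_of_isRelAmple hL
  let q := f ∣_ V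
  let pr := (f ⁻¹ᵁ V).ι
  have H : IsPullback q pr V.ι f := isPullback_morphismRestrict f V
  letI : (f ⁻¹ᵁ V : Scheme.{u}).Over (Spec (CommRingCat.of Γ((V : Scheme.{u}), ⊤))) :=
    ⟨q ≫ (V : Scheme.{u}).isoSpec.hom⟩
  haveI : IsProper ((f ⁻¹ᵁ V : Scheme.{u}) ↘ Spec (CommRingCat.of Γ((V : Scheme.{u}), ⊤))) := by
    show IsProper (q ≫ (V : Scheme.{u}).isoSpec.hom)
    infer_instance
  haveI : IsNoetherianRing Γ((V : Scheme.{u}), ⊤) := IsLocallyNoetherian.component_noetherian ⟨_, hW⟩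
  haveI : IsLocallyNoetherian X := LocallyOfFiniteType.isLocallyNoetherian f
  haveI : IsLocallyNoetherian (f ⁻¹ᵁ V : Scheme.{u}) := inferInstance
  have hφ : (φA (A := Γ((V : Scheme.{u}), ⊤)) : Γ((V : Scheme.{u}), ⊤) →+* Γ((f ⁻¹ᵁ V : Scheme.{u}), ⊤)) = (q.app ⊤).hom := by
    refine RingHom.ext fun a => ?_
    show ((q ≫ (V : Scheme.{u}).isoSpec.hom).appTop) ((Scheme.ΓSpecIso (CommRingCat.of Γ((V : Scheme.{u}), ⊤))).inv a) = _
    rw [Scheme.Hom.comp_appTop, CommRingCat.comp_apply]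
    refine congrArg (fun t => q.app ⊤ t) ?_
    rw [Scheme.isoSpec, asIso_hom, Scheme.toSpecΓ_appTop]
    exact Iso.inv_hom_id_apply (Scheme.ΓSpecIso Γ((V : Scheme.{u}), ⊤)) a
  let L' := L.restrict pr
  let F' := F.restrict pr
  have hL' : CohB1.IsAmple L' := hL.2 ⟨V, hV⟩
  have hF' : Coh.IsCoh F' := CohDev.isCoh_of_iso
    ((Scheme.Modules.restrictFunctorIsoPullback pr).app F).symm
    (ZClosLib.CohDescent.isCoh_pullback pr F hF)
  obtain ⟨D⟩ := CBC.nonempty_model q (isAffineOpen_top _)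
  have hcov : ⨆ i, D.U i = ⊤ := top_le_iff.mp D.cov
  let I : Ideal Γ((V : Scheme.{u}), ⊤) := (hW.primeIdealOf ⟨y, hy⟩).asIdeal
  letI : Algebra Γ((V : Scheme.{u}), ⊤) (S.residueField y) := evalAlg y hy
  haveI : I.IsPrime := (hW.primeIdealOf ⟨y, hy⟩).isPrime
  obtain ⟨ι, hι⟩ : ∃ ι : (Γ((V : Scheme.{u}), ⊤) ⧸ I) →ₗ[Γ((V : Scheme.{u}), ⊤)] S.residueField y,
      IsLocalizedModule I.primeCompl ι := exists_localized_residue hW y hy
  obtain ⟨N, hN⟩ := exists_forall_quot_bijective (A := Γ((V : Scheme.{u}), ⊤)) (X := (f ⁻¹ᵁ V : Scheme.{u})) F' L' D.U hcov D.aff hF' hL'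
    I
  refine ⟨N, fun n hn => ?_⟩
  let Fn := CohB1.tensorMod F (CohB1.tensorPow L n)
  let G := CohB1.tensorMod F' (CohB1.tensorPow L' n)
  haveI := hF.1
  haveI := hF'.1
  haveI : G.IsQuasicoherent := isQCoh_twist F' L' hL'.1 n
  obtain ⟨hv, hb⟩ := hN n hn
  have hK : KA (A := Γ((V : Scheme.{u}), ⊤)) G D.U = D.K G := by
    show cx (φA (A := Γ((V : Scheme.{u}), ⊤))) D.U (fun _ => le_top) G = cx (q.app ⊤).hom D.U D.hU G
    rw [hφ]
    rfl
  rw [hK] at hv hb
  obtain ⟨hv', hb'⟩ := localized_coeff (D.K G) I.primeCompl ι hv hb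
  -- the fibre
  have hrange : Set.range (S.fromSpecResidueField y) ⊆ Set.range V.ι := by
    rw [Scheme.range_fromSpecResidueField, Set.singleton_subset_iff]
    obtain ⟨z, -, hz⟩ := hy
    exact ⟨z, hz⟩
  let g := IsOpenImmersion.lift V.ι (S.fromSpecResidueField y) hrange
  have hg : g ≫ V.ι = S.fromSpecResidueField y := IsOpenImmersion.lift_fac _ _ _
  have Hf : IsPullback (f.fiberι y) (f.fiberToSpecResidueField y) f (S.fromSpecResidueField y) :=
    IsPullback.of_hasPullback f (S.fromSpecResidueField y)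
  have w : (f.fiberToSpecResidueField y ≫ g) ≫ V.ι = f.fiberι y ≫ f := by
    rw [Category.assoc, hg, Hf.w]
  let p := H.lift (f.fiberToSpecResidueField y ≫ g) (f.fiberι y) w
  have hp : p ≫ pr = f.fiberι y := H.lift_snd _ _ w
  have H' : IsPullback p (f.fiberToSpecResidueField y) q g := by
    refine IsPullback.of_right ?_ (H.lift_fst _ _ w) H.flip
    rw [hp, hg]
    exact Hf
  have hle : (⊤ : (Spec (S.residueField y)).Opens) ≤ g ⁻¹ᵁ ⊤ := le_top
  have halg : ∀ a : Γ((V : Scheme.{u}), ⊤), g.appLE ⊤ ⊤ hle a =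
      (Scheme.ΓSpecIso (CommRingCat.of (S.residueField y))).inv
        (algebraMap Γ(S, V.ι ''ᵁ ⊤) (S.residueField y) a) := fun a => by
    rw [← fromSpecResidueField_appLE_apply y hy a]
    have h1 : ∀ e, (g ≫ V.ι).appLE (V.ι ''ᵁ ⊤) ⊤ e =
        V.ι.appLE (V.ι ''ᵁ ⊤) ⊤ (V.ι.preimage_image_eq ⊤).ge ≫ g.appLE ⊤ ⊤ hle := fun e =>
      (Scheme.Hom.appLE_comp_appLE g V.ι (V.ι ''ᵁ ⊤) ⊤ ⊤ _ _).symm
    simp only [hg] at h1
    rw [h1 (fromSpecResidueField_le y hy), CommRingCat.comp_apply, ← Scheme.Hom.appIso_hom', Scheme.Opens.ι_appIso]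
    rfl
  let eF : (Scheme.Modules.pullback p).obj G ≅
      (Scheme.Modules.pullback (f.fiberι y)).obj Fn :=
    (Scheme.Modules.pullback p).mapIso
      (ProjTwist.tensCongr ((Scheme.Modules.restrictFunctorIsoPullback pr).app F)
        (AmpleLib.tensorPowIso ((Scheme.Modules.restrictFunctorIsoPullback pr).app L) n ≪≫
          (AmpleLib.exists_iso_pullback_tensorPow pr hLi n).some.symm) ≪≫
        (KFlat.PullTensor.pullTensorIso pr F (CohB1.tensorPow L n)).symm) ≪≫
    (Scheme.Modules.pullbackComp p pr).app Fn ≪≫ (Scheme.Modules.pullbackCongr hp).app Fn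
  letI : (f.fiber y).Over (Spec (CommRingCat.of (S.residueField y))) :=
    ⟨f.fiberToSpecResidueField y⟩
  let eH : ∀ i, (D.K G).H (S.residueField y) i ≃+
      Coh.HH (f.fiber y) ((Scheme.Modules.pullback (f.fiberι y)).obj Fn) i := fun i =>
    (ringEquivCat (isAffineOpen_top _) D G g p (f.fiberToSpecResidueField y) H' hle halg i).trans
      (CohLin.hIso eF i).toAddEquiv
  have eH_smul : ∀ i (r : S.residueField y) x,
      eH i ((D.K G).Hmap (LinearMap.mulLeft Γ((V : Scheme.{u}), ⊤) r) i x) = r • eH i x := fun i r x =>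
    (congrArg (CohLin.hIso eF i) (ringEquivCat_smul (isAffineOpen_top _) D G g p
      (f.fiberToSpecResidueField y) H' hle halg i r x)).trans (map_smul (CohLin.hIso eF i) _ _)
  -- degree zero
  obtain ⟨ε, hε⟩ := exists_pushEquiv H Fn
  let eG : G ≅ Fn.restrict pr :=
    ProjTwist.tensCongr ((Scheme.Modules.restrictFunctorIsoPullback pr).app F)
      (AmpleLib.tensorPowIso ((Scheme.Modules.restrictFunctorIsoPullback pr).app L) n ≪≫
        (AmpleLib.exists_iso_pullback_tensorPow pr hLi n).some.symm) ≪≫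
      (KFlat.PullTensor.pullTensorIso pr F (CohB1.tensorPow L n)).symm ≪≫
      ((Scheme.Modules.restrictFunctorIsoPullback pr).app Fn).symm
  letI : Module Γ((V : Scheme.{u}), ⊤) Γ((Coh.push f).obj Fn, V.ι ''ᵁ ⊤) :=
    inferInstanceAs (Module Γ(S, V.ι ''ᵁ ⊤) Γ((Coh.push f).obj Fn, V.ι ''ᵁ ⊤))
  let εL : Γ((Coh.push q).obj (Fn.restrict pr), ⊤) ≃ₗ[Γ((V : Scheme.{u}), ⊤)] Γ((Coh.push f).obj Fn, V.ι ''ᵁ ⊤) :=
    { ε with
      map_smul' := fun a m => by
        refine (hε a m).trans ?_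
        rw [Scheme.Opens.ι_appIso]
        rfl }
  let e0 : (D.K G).H Γ((V : Scheme.{u}), ⊤) 0 ≃ₗ[Γ((V : Scheme.{u}), ⊤)] Γ((Coh.push f).obj Fn, V.ι ''ᵁ ⊤) :=
    (D.K G).hA 0 ≪≫ₗ CBC.zeroEquiv D G ≪≫ₗ CBC.isoApp ((Coh.push q).mapIso eG) ≪≫ₗ εL
  let e1 : (S.residueField y ⊗[Γ((V : Scheme.{u}), ⊤)] (D.K G).H Γ((V : Scheme.{u}), ⊤) 0) ≃ₗ[S.residueField y]
      Coh.HH (f.fiber y) ((Scheme.Modules.pullback (f.fiberι y)).obj Fn) 0 :=
    { ((LinearEquiv.ofBijective _ hb').toAddEquiv.trans (eH 0)) with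
      map_smul' := fun r z => by
        show eH 0 ((D.K G).Φ 0 _ (r • z)) = r • eH 0 ((D.K G).Φ 0 _ z)
        rw [← eH_smul, Φ_natural]
        refine congrArg (fun t => eH 0 ((D.K G).Φ 0 _ t)) ?_
        induction z using TensorProduct.induction_on with
        | zero => simp
        | tmul a b => rfl
        | add a b ha hb => simp only [smul_add, map_add, ha, hb] }
  show ∑ᶠ i : ℕ, (-1 : ℤ) ^ i * (Module.finrank (S.residueField y)
    (Coh.HH (f.fiber y) ((Scheme.Modules.pullback (f.fiberι y)).obj Fn) i) : ℤ) = _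
  rw [finsum_eq_single _ 0 fun i hi => ?_]
  · rw [pow_zero, one_mul, Nat.cast_inj, ← e1.finrank_eq]
    exact ((TensorProduct.AlgebraTensorModule.congr
      (LinearEquiv.refl (S.residueField y) (S.residueField y)) e0)).finrank_eq
  · obtain ⟨i, rfl⟩ := Nat.exists_eq_succ_of_ne_zero hi
    haveI := hv' i
    haveI := (eH (i + 1)).symm.toEquiv.subsingleton
    rw [show i.succ = i + 1 from rfl, Module.finrank_zero_of_subsingleton, Nat.cast_zero, mul_zero]

/-- For `n` large the Euler characteristic of the fibre is the fibre dimension of the direct image. -/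
theorem exists_forall_euler_eq_finrank [IsLocallyNoetherian S] (hL : RelAmple.IsRelAmple f L)
    (hF : Coh.IsCoh F) {V : S.Opens} (hV : IsAffineOpen V) (y : S) (hy : y ∈ V) :
    letI := evalAlg y hy
    ∃ N : ℕ, ∀ n, N ≤ n →
      @Curv2.euler (S.residueField y) _ (f.fiber y) ⟨f.fiberToSpecResidueField y⟩
        ((Scheme.Modules.pullback (f.fiberι y)).obj (CohB1.tensorMod F (CohB1.tensorPow L n))) =
      Module.finrank (S.residueField y) (S.residueField y ⊗[Γ(S, V)]
        Γ((Coh.push f).obj (CohB1.tensorMod F (CohB1.tensorPow L n)), V)) := by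
  have key := euler_eq_finrank_aux f L F hL hF V hV y
  rw [Scheme.Opens.ι_image_top] at key
  exact key hy

end Groth.Agent.TwistFlat
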