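import Groth.Agent.CBC.BCx
import Groth.Agent.CBC.Crit
import Groth.Agent.CBC.Hom
import Groth.Agent.FlatCx.More
import Groth.Agent.FlatMor.FlatLemmas
import Groth.Agent.TwistFlat.FibAlg

/-!
Complexes of flat modules with cohomology only in degree zero, and base change of their degree-zero
cycles.
-/

set_option autoImplicit false
set_option linter.style.haveILetI false

universe u

open Function TensorProduct LinearMap

noncomputable section

namespace Groth.Agent.TwistFlat

open Groth.Agent.CBC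

theorem subsingleton_of_forall_le_smul {B : Type u} [CommRing B] (P : Type u) [AddCommGroup P]
    [Module B P] [Module.Finite B P]
    (h : ∀ q : Ideal B, q.IsMaximal → (⊤ : Submodule B P) ≤ q • ⊤) : Subsingleton P := by
  by_contra hP
  have hne : Module.annihilator B P ≠ ⊤ := fun e =>
    hP (Module.annihilator_eq_top_iff.mp e)
  obtain ⟨q, hq, hle⟩ := Ideal.exists_le_maximal _ hne
  obtain ⟨r, hr, hr0⟩ := Submodule.exists_sub_one_mem_and_smul_eq_zero_of_fg_of_le_smul q ⊤
    Module.Finite.fg_top (h q hq)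
  refine hq.ne_top ((Ideal.eq_top_iff_one _).2 ?_)
  have hrq : r ∈ q := hle (Module.mem_annihilator.2 fun m => hr0 m trivial)
  simpa using sub_mem hrq hr

section Flat

variable {B : Type u} [CommRing B] (C : SCx B)

theorem Z₀_le_B₀_of_subsingleton {n : ℕ} (h : Subsingleton (C.H₀ n)) : C.Z₀ n ≤ C.B₀ n :=
  fun x hx => by
    have h1 : (Submodule.Quotient.mk ⟨x, hx⟩ : C.H₀ n) = 0 := Subsingleton.elim _ _
    rwa [Submodule.Quotient.mk_eq_zero] at h1

theorem flat_Z₀_of_flat_B₀ (hX : ∀ n, Module.Flat B (C.X n)) (n : ℕ)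
    [Module.Flat B (C.B₀ (n + 1))] : Module.Flat B (C.Z₀ n) := by
  haveI := hX n
  have hker : LinearMap.ker (C.dB n) = C.Z₀ n := by
    ext x
    exact ⟨fun hx => congrArg Subtype.val (LinearMap.mem_ker.mp hx),
      fun hx => LinearMap.mem_ker.mpr (Subtype.ext hx)⟩
  exact hker ▸ FlatMor.FlatLemmas.flat_ker (C.dB n) (C.dB_surjective n)

variable (hX : ∀ n, Module.Flat B (C.X n)) {r : ℕ}
  (hr : ∀ (M : Type u) [AddCommGroup M] [Module B M] (n : ℕ), r ≤ n → Subsingleton (C.H M n))

include hX hr in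
theorem flat_B₀_of_vanish {m : ℕ} (hz : ∀ n, m ≤ n → Subsingleton (C.H₀ (n + 1))) :
    ∀ n, m ≤ n → Module.Flat B (C.B₀ (n + 1)) := by
  suffices key : ∀ k n, r ≤ n + k → m ≤ n → Module.Flat B (C.B₀ (n + 1)) from
    fun n hn => key r n (Nat.le_add_left _ _) hn
  intro k
  induction k with
  | zero =>
    intro n hn _
    haveI := hX (n + 1)
    exact C.flat_B₀_succ (r := n) fun M _ _ n' h => hr M n' (le_trans (by simpa using hn) h)
  | succ k ih =>
    intro n hn hm
    haveI := ih (n + 1) (by omega) (by omega)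
    rw [← le_antisymm (Z₀_le_B₀_of_subsingleton C (hz n hm)) (C.B₀_le (n + 1))]
    exact flat_Z₀_of_flat_B₀ C hX (n + 1)

variable (M : Type u) [AddCommGroup M] [Module B M]

omit hX hr

theorem exact_subtype_dB (n : ℕ) : Exact (C.Z₀ n).subtype (C.dB n) := fun x =>
  ⟨fun hx => ⟨⟨x, congrArg Subtype.val hx⟩, rfl⟩, by rintro ⟨z, rfl⟩; exact Subtype.ext z.2⟩

theorem injective_Z₀_rTensor (n : ℕ) [Module.Flat B (C.B₀ (n + 1))] :
    Injective ((C.Z₀ n).subtype.rTensor M) := by
  rw [← lTensor_inj_iff_rTensor_inj]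
  exact LinearMap.lTensor_injective_of_exact_of_flat (C.dB n) (C.dB_surjective n) _
    (C.Z₀ n).injective_subtype (exact_subtype_dB C n) M

theorem injective_B₀_rTensor (n : ℕ) (h : Subsingleton (C.H₀ (n + 1)))
    [Module.Flat B (C.B₀ (n + 2))] : Injective ((C.B₀ (n + 1)).subtype.rTensor M) := by
  rw [show C.B₀ (n + 1) = C.Z₀ (n + 1) from
    le_antisymm (C.B₀_le (n + 1)) (Z₀_le_B₀_of_subsingleton C h)]
  exact injective_Z₀_rTensor C M (n + 1)

theorem exists_rTensor_eq_of_mem_Z (n : ℕ) (hinj : Injective ((C.B₀ (n + 1)).subtype.rTensor M))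
    (z : C.X n ⊗[B] M) (hz : z ∈ C.Z M n) : ∃ w, (C.Z₀ n).subtype.rTensor M w = z := by
  have h : (C.d n).rTensor M z = 0 := hz
  rw [← C.subtype_dB n, rTensor_comp, LinearMap.comp_apply] at h
  exact ((rTensor_exact M (exact_subtype_dB C n) (C.dB_surjective n)) z).1
    ((map_eq_zero_iff _ hinj).1 h)

/-- Cycles of degree zero, as classes. -/
def h0e : C.H B 0 ≃ₗ[B] C.Z₀ 0 :=
  C.hA 0 ≪≫ₗ Submodule.quotEquivOfEqBot _ (by
    ext z
    rw [Submodule.mem_comap, Submodule.mem_bot]
    exact ⟨fun h => Subtype.ext h, fun h => by rw [h]; exact zero_mem _⟩)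

theorem rTensor_subtype_mem_Z (n : ℕ) (w : C.Z₀ n ⊗[B] M) :
    (C.Z₀ n).subtype.rTensor M w ∈ C.Z M n := by
  show (C.d n).rTensor M _ = 0
  rw [← LinearMap.comp_apply, ← rTensor_comp,
    show C.d n ∘ₗ (C.Z₀ n).subtype = 0 from LinearMap.ext fun z => z.2, rTensor_zero,
    LinearMap.zero_apply]

theorem Φ_zero_eq (w : M ⊗[B] C.H B 0) :
    C.Φ 0 M w = Submodule.Quotient.mk ⟨(C.Z₀ 0).subtype.rTensor M
      (TensorProduct.comm B _ _ ((h0e C).toLinearMap.lTensor M w)),
        rTensor_subtype_mem_Z C M 0 _⟩ := by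
  induction w using TensorProduct.induction_on with
  | zero =>
    rw [map_zero]
    refine ((Submodule.Quotient.mk_eq_zero _).2 ?_).symm
    rw [Submodule.mem_comap]
    simp
  | tmul m x =>
    obtain ⟨z, rfl⟩ := Submodule.Quotient.mk_surjective _ x
    rw [SCx.Φ_tmul, SCx.Hmap_mk]
    refine congrArg Submodule.Quotient.mk (Subtype.ext ?_)
    show (LinearMap.toSpanSingleton B M m).lTensor (C.X 0) z.1 =
      TensorProduct.rid B (C.X 0) z.1 ⊗ₜ[B] m
    conv_lhs => rw [← (TensorProduct.rid B (C.X 0)).symm_apply_apply z.1]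
    rw [TensorProduct.rid_symm_apply, LinearMap.lTensor_tmul, LinearMap.toSpanSingleton_apply,
      one_smul]
  | add a b ha hb =>
    rw [map_add, ha, hb, ← Submodule.Quotient.mk_add]
    exact congrArg Submodule.Quotient.mk (Subtype.ext (by simp))

theorem Φ_zero_bijective_iff : Bijective (C.Φ 0 M) ↔
    Injective ((C.Z₀ 0).subtype.rTensor M) ∧
      ∀ z ∈ C.Z M 0, ∃ w, (C.Z₀ 0).subtype.rTensor M w = z := by
  let e : M ⊗[B] C.H B 0 ≃ₗ[B] C.Z₀ 0 ⊗[B] M :=
    TensorProduct.congr (LinearEquiv.refl B M) (h0e C) ≪≫ₗ TensorProduct.comm B _ _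
  have hmk : ∀ a b : C.Z M 0, (Submodule.Quotient.mk a : C.H M 0) = Submodule.Quotient.mk b → a = b :=
    fun a b h => by
      rw [Submodule.Quotient.eq, Submodule.mem_comap] at h
      exact Subtype.ext (sub_eq_zero.1 h)
  have he : ∀ w, C.Φ 0 M w = Submodule.Quotient.mk ⟨(C.Z₀ 0).subtype.rTensor M (e w),
      rTensor_subtype_mem_Z C M 0 _⟩ := fun w => Φ_zero_eq C M w
  refine ⟨fun h => ⟨fun a b hab => e.symm.injective (h.1 ?_), fun z hz => ?_⟩,
    fun h => ⟨fun a b hab => ?_, fun x => ?_⟩⟩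
  · rw [he, he]
    exact congrArg Submodule.Quotient.mk (Subtype.ext (by simpa using hab))
  · obtain ⟨w, hw⟩ := h.2 (Submodule.Quotient.mk ⟨z, hz⟩)
    rw [he] at hw
    exact ⟨e w, congrArg Subtype.val (hmk _ _ hw)⟩
  · rw [he, he] at hab
    exact e.injective (h.1 (congrArg Subtype.val (hmk _ _ hab)))
  · obtain ⟨z, rfl⟩ := Submodule.Quotient.mk_surjective _ x
    obtain ⟨w, hw⟩ := h.2 z.1 z.2
    refine ⟨e.symm w, ?_⟩
    rw [he]
    exact congrArg Submodule.Quotient.mk (Subtype.ext (by simpa using hw))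

include hX hr in
/-- A flat complex that is exact in positive degrees stays so with any coefficients. -/
theorem vanish_of_exact (h0 : ∀ n, Subsingleton (C.H₀ (n + 1))) :
    (∀ i, Subsingleton (C.H M (i + 1))) ∧ Bijective (C.Φ 0 M) := by
  have hfl := flat_B₀_of_vanish C hX hr (m := 0) fun n _ => h0 n
  have hinj : ∀ n, Injective ((C.B₀ (n + 1)).subtype.rTensor M) := fun n =>
    haveI := hfl (n + 1) (Nat.zero_le _)
    injective_B₀_rTensor C M n (h0 n)
  refine ⟨fun i => subsingleton_of_forall_eq 0 fun x => ?_, ?_⟩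
  · obtain ⟨z, rfl⟩ := Submodule.Quotient.mk_surjective _ x
    rw [Submodule.Quotient.mk_eq_zero, Submodule.mem_comap]
    obtain ⟨w, hw⟩ := exists_rTensor_eq_of_mem_Z C M (i + 1) (hinj (i + 1)) z.1 z.2
    have hs : Surjective (LinearMap.codRestrict (C.Z₀ (i + 1)) (C.d i) (C.d_d i)) := fun y => by
      obtain ⟨x, hx⟩ := Z₀_le_B₀_of_subsingleton C (h0 i) y.2
      exact ⟨x, Subtype.ext hx⟩
    obtain ⟨y, rfl⟩ := LinearMap.rTensor_surjective M hs w
    refine ⟨y, ?_⟩
    rw [← LinearMap.comp_apply, ← rTensor_comp] at hw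
    exact hw
  · haveI := hfl 0 le_rfl
    exact (Φ_zero_bijective_iff C M).2
      ⟨injective_Z₀_rTensor C M 0, exists_rTensor_eq_of_mem_Z C M 0 (hinj 0)⟩

include hX hr in
/-- Vanishing over all closed points gives exactness in positive degrees. -/
theorem vanish_of_residue (hfin : ∀ n, Module.Finite B (C.H₀ n))
    (h : ∀ q : Ideal B, q.IsMaximal → ∀ i, Subsingleton (C.H (B ⧸ q) (i + 1))) :
    ∀ n, Subsingleton (C.H₀ (n + 1)) := by
  suffices key : ∀ k n, r ≤ n + 1 + k → Subsingleton (C.H₀ (n + 1)) from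
    fun n => key r n (Nat.le_add_left _ _)
  intro k
  induction k with
  | zero =>
    intro n hn
    haveI := hr B (n + 1) (by simpa using hn)
    exact (C.hA (n + 1)).symm.toEquiv.subsingleton
  | succ k ih =>
    intro n hn
    haveI := flat_B₀_of_vanish C hX hr (m := n + 1) (fun j hj => ih j (by omega)) (n + 1) le_rfl
    haveI := hfin (n + 1)
    refine subsingleton_of_forall_le_smul (B := B) _ fun q hq x _ => ?_
    obtain ⟨z, rfl⟩ := Submodule.Quotient.mk_surjective _ x
    have := h q hq n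
    have hz : (z.1 ⊗ₜ[B] (Ideal.Quotient.mk q 1)) ∈ C.Z (B ⧸ q) (n + 1) := by
      show (C.d (n + 1)).rTensor (B ⧸ q) _ = 0
      rw [LinearMap.rTensor_tmul, show C.d (n + 1) z.1 = 0 from z.2, zero_tmul]
    have h0 : (Submodule.Quotient.mk ⟨_, hz⟩ : C.H (B ⧸ q) (n + 1)) = 0 := Subsingleton.elim _ _
    rw [Submodule.Quotient.mk_eq_zero, Submodule.mem_comap] at h0
    obtain ⟨y, hy⟩ := h0
    obtain ⟨y₀, rfl⟩ := FlatCx.exists_eq_tmul_mk q y
    have hd : C.d n y₀ ∈ C.Z₀ (n + 1) := C.d_d n y₀
    have h1 : (z - ⟨_, hd⟩ : C.Z₀ (n + 1)) ⊗ₜ[B] (Ideal.Quotient.mk q 1) = 0 := by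
      refine injective_Z₀_rTensor C (B ⧸ q) (n + 1) ?_
      rw [map_zero, LinearMap.rTensor_tmul, map_sub, sub_tmul, sub_eq_zero]
      exact hy.symm
    have h2 := (FlatCx.tmul_mk_eq_zero_iff q _).1 h1
    rw [show (Submodule.Quotient.mk z : C.H₀ (n + 1)) = Submodule.Quotient.mk (z - ⟨_, hd⟩) from
      (Submodule.Quotient.eq _).2 (by
        rw [sub_sub_cancel]
        exact ⟨y₀, rfl⟩)]
    have h3 := Submodule.mem_map_of_mem (f := Submodule.mkQ ((C.B₀ (n + 1)).comap (C.Z₀ (n + 1)).subtype)) h2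
    rw [Submodule.map_smul'', Submodule.map_top, Submodule.range_mkQ] at h3
    exact h3

end Flat

section Good

variable {A : Type u} [CommRing A] (K : SCx A)

/-- Coefficients `M` see cohomology in degree zero only, computed by base change. -/
def Good (M : Type u) [AddCommGroup M] [Module A M] : Prop :=
  (∀ i, Subsingleton (K.H M (i + 1))) ∧ Bijective (K.Φ 0 M)

theorem good_iff_kerBC (k : Type u) [CommRing k] [Algebra A k] :
    Bijective (K.Φ 0 k) ↔ Bijective (kerBC (K.d 0) k) := by
  have hval : ∀ w : k ⊗[A] K.Z₀ 0,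
      (kerBC (K.d 0) k w).1 = TensorProduct.comm A _ _ ((K.Z₀ 0).subtype.rTensor k
        (TensorProduct.comm A _ _ w)) := fun w => by
    induction w using TensorProduct.induction_on with
    | zero => simp
    | tmul b z => rw [kerBC_val]; simp
    | add a b ha hb => simp only [map_add, Submodule.coe_add, ha, hb]
  have hker : ∀ z : K.X 0 ⊗[A] k,
      z ∈ K.Z k 0 ↔ TensorProduct.comm A _ _ z ∈ LinearMap.ker ((K.d 0).baseChange k) := fun z => by
    rw [LinearMap.mem_ker]
    have : (K.d 0).baseChange k (TensorProduct.comm A _ _ z) =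
        TensorProduct.comm A _ _ ((K.d 0).rTensor k z) := by
      induction z using TensorProduct.induction_on with
      | zero => simp
      | tmul x b => simp
      | add a b ha hb => simp only [map_add, ha, hb]
    rw [this, LinearEquiv.map_eq_zero_iff]
    rfl
  rw [Φ_zero_bijective_iff]
  constructor
  · rintro ⟨hi, hs⟩
    refine ⟨fun a b hab => ?_, fun x => ?_⟩
    · have := congrArg Subtype.val hab
      rw [hval, hval] at this
      exact (TensorProduct.comm A _ _).injective (hi ((TensorProduct.comm A _ _).injective this))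
    · obtain ⟨w, hw⟩ := hs ((TensorProduct.comm A _ _).symm x.1)
        ((hker _).2 (by rw [LinearEquiv.apply_symm_apply]; exact x.2))
      refine ⟨(TensorProduct.comm A _ _).symm w, Subtype.ext ?_⟩
      rw [hval, LinearEquiv.apply_symm_apply, hw, LinearEquiv.apply_symm_apply]
  · rintro ⟨hi, hs⟩
    refine ⟨fun a b hab => ?_, fun z hz => ?_⟩
    · refine (TensorProduct.comm A _ _).symm.injective (hi (Subtype.ext ?_))
      rw [hval, hval, LinearEquiv.apply_symm_apply, LinearEquiv.apply_symm_apply, hab]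
    · obtain ⟨w, hw⟩ := hs ⟨_, (hker z).1 hz⟩
      refine ⟨TensorProduct.comm A _ _ w, (TensorProduct.comm A _ _).injective ?_⟩
      rw [← hval, hw]

variable (B : Type u) [CommRing B] [Algebra A B]

/-- Exactness of a flat base change gives all coefficients over it. -/
theorem good_of_bc (hX : ∀ n, Module.Flat B ((K.bc B).X n)) {r : ℕ}
    (hr : ∀ (M : Type u) [AddCommGroup M] [Module A M] (n : ℕ), r ≤ n → Subsingleton (K.H M n))
    (hg : Good K B) (M : Type u) [AddCommGroup M] [Module A M] [Module B M] [IsScalarTower A B M] :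
    Good K M := by
  have hr' : ∀ (M : Type u) [AddCommGroup M] [Module B M] (n : ℕ), r ≤ n →
      Subsingleton ((K.bc B).H M n) := fun M _ _ n hn => by
    letI : Module A M := Module.compHom M (algebraMap A B)
    haveI : IsScalarTower A B M := IsScalarTower.of_algebraMap_smul fun _ _ => rfl
    haveI := hr M n hn
    exact (K.hBC B M n).toEquiv.subsingleton
  have h0 : ∀ n, Subsingleton ((K.bc B).H₀ (n + 1)) := fun n => by
    haveI := hg.1 n
    haveI := (K.hBC B B (n + 1)).toEquiv.subsingleton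
    exact ((K.bc B).hA (n + 1)).symm.toEquiv.subsingleton
  obtain ⟨hv, hb⟩ := vanish_of_exact (K.bc B) hX hr' M h0
  refine ⟨fun i => ?_, ?_⟩
  · haveI := hv i
    exact (K.hBC B M (i + 1)).symm.toEquiv.subsingleton
  · have key : ∀ (b : M) (x : K.H A 0), K.Φ 0 M (b ⊗ₜ x) =
        K.Hmap ((LinearMap.toSpanSingleton B M b).restrictScalars A) 0 (K.Φ 0 B (1 ⊗ₜ x)) := by
      intro b x
      rw [SCx.Φ_tmul, SCx.Φ_tmul, Hmap_comp]
      refine congrArg (fun φ => K.Hmap φ 0 x) (LinearMap.ext fun a => ?_)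
      simp
    let θ : M ⊗[A] K.H A 0 ≃ₗ[A] M ⊗[B] (B ⊗[A] K.H A 0) :=
      ((TensorProduct.AlgebraTensorModule.cancelBaseChange A B B M (K.H A 0)).symm).restrictScalars A
    have hlin : ∀ (c : B) y, K.Φ 0 B (c • y) =
        K.Hmap (LinearMap.mulLeft A c) 0 (K.Φ 0 B y) := fun c y => by
      rw [Φ_natural]
      refine congrArg (K.Φ 0 B) ?_
      induction y using TensorProduct.induction_on with
      | zero => simp
      | tmul a b => rfl
      | add a b ha hb => simp only [smul_add, map_add, ha, hb]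
    have hB : ∀ (c : B) (x : (K.bc B).H B 0),
        K.hBC B B 0 (c • x) = K.Hmap (LinearMap.mulLeft A c) 0 (K.hBC B B 0 x) := fun c x => by
      rw [← SCx.smul_id_Hmap (K.bc B) B 0 c, SCx.hBC_natural]
      refine congrArg (fun φ => K.Hmap φ 0 _) (LinearMap.ext fun a => ?_)
      simp
    let ψ : B ⊗[A] K.H A 0 ≃ₗ[B] (K.bc B).H B 0 :=
      { (LinearEquiv.ofBijective _ hg.2).trans (K.hBC B B 0).symm with
        map_smul' := fun c y => by
          apply (K.hBC B B 0).injective
          change K.hBC B B 0 ((K.hBC B B 0).symm _) = K.hBC B B 0 (c • (K.hBC B B 0).symm _)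
          rw [LinearEquiv.apply_symm_apply, hB, LinearEquiv.apply_symm_apply]
          exact hlin c y }
    have he : ∀ z, K.Φ 0 M z = K.hBC B M 0 ((K.bc B).Φ 0 M (ψ.toLinearMap.lTensor M (θ z))) := by
      intro z
      induction z using TensorProduct.induction_on with
      | zero => simp
      | tmul b x =>
        rw [key]
        have : θ (b ⊗ₜ x) = b ⊗ₜ (1 ⊗ₜ x) := by
          rw [← LinearEquiv.eq_symm_apply]
          simp [θ]
        rw [this, LinearMap.lTensor_tmul, SCx.Φ_tmul]
        refine Eq.trans ?_ (SCx.hBC_natural K B B (LinearMap.toSpanSingleton B M b) 0 _).symm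
        exact congrArg _ ((K.hBC B B 0).apply_symm_apply _).symm
      | add a b ha hb => simp only [map_add, ha, hb]
    rw [show ⇑(K.Φ 0 M) = K.hBC B M 0 ∘ ((K.bc B).Φ 0 M) ∘ (ψ.toLinearMap.lTensor M) ∘ θ from
      funext he]
    exact (K.hBC B M 0).bijective.comp (hb.comp
      (((TensorProduct.congr (LinearEquiv.refl B M) ψ).bijective).comp θ.bijective))

/-- The degree-zero cycles become projective after a base change making the complex flat, if every
closed point of the new base sees only degree zero. -/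
theorem projective_of_good [IsNoetherianRing B] (hX : ∀ n, Module.Flat B ((K.bc B).X n)) {r : ℕ}
    (hr : ∀ (M : Type u) [AddCommGroup M] [Module A M] (n : ℕ), r ≤ n → Subsingleton (K.H M n))
    (hfin : ∀ n, Module.Finite B ((K.bc B).H₀ n)) [Module.Finite A (K.Z₀ 0)]
    (hg : ∀ q : Ideal B, q.IsMaximal → Good K (B ⧸ q)) :
    Module.Projective B (B ⊗[A] K.Z₀ 0) := by
  let C := K.bc B
  have hr' : ∀ (M : Type u) [AddCommGroup M] [Module B M] (n : ℕ), r ≤ n →
      Subsingleton (C.H M n) := fun M _ _ n hn => by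
    letI : Module A M := Module.compHom M (algebraMap A B)
    haveI : IsScalarTower A B M := IsScalarTower.of_algebraMap_smul fun _ _ => rfl
    haveI := hr M n hn
    exact (K.hBC B M n).toEquiv.subsingleton
  have h0 := vanish_of_residue C hX hr' hfin fun q hq i => by
    haveI := (hg q hq).1 i
    exact (K.hBC B (B ⧸ q) (i + 1)).toEquiv.subsingleton
  haveI := flat_B₀_of_vanish C hX hr' (m := 0) (fun n _ => h0 n) 0 le_rfl
  let P : Submodule B (C.X 0) := C.Z₀ 0
  haveI : Module.Flat B P := flat_Z₀_of_flat_B₀ C hX 0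
  haveI : Module.Finite B (C.H₀ 0) := hfin 0
  haveI : Module.Finite B P := Module.Finite.equiv (Submodule.quotEquivOfEqBot
    ((C.B₀ 0).comap (C.Z₀ 0).subtype) (by
      ext z
      rw [Submodule.mem_comap, Submodule.mem_bot]
      exact ⟨fun h => Subtype.ext h, fun h => by rw [h]; exact zero_mem _⟩) :
        C.H₀ 0 ≃ₗ[B] C.Z₀ 0)
  haveI : Module.Projective B P :=
    haveI := Module.finitePresentation_of_finite B P
    Module.Flat.projective_of_finitePresentation (R := B) (M := P)
  let θ : B ⊗[A] K.Z₀ 0 →ₗ[B] P := kerBC (K.d 0) B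
  -- reduction modulo `q`
  let red : ∀ (q : Ideal B) (X : Type u) [AddCommGroup X] [Module A X],
      B ⊗[A] X →ₗ[A] (B ⧸ q) ⊗[A] X := fun q X _ _ =>
    (Ideal.Quotient.mkₐ A q).toLinearMap.rTensor X
  have hred : ∀ (q : Ideal B) (X : Type u) [AddCommGroup X] [Module A X] (y : B ⊗[A] X),
      red q X y = 0 ↔ y ⊗ₜ[B] Ideal.Quotient.mk q 1 = 0 := by
    intro q X _ _ y
    let e := TensorProduct.comm B (B ⊗[A] X) (B ⧸ q) ≪≫ₗ
      TensorProduct.AlgebraTensorModule.cancelBaseChange A B B (B ⧸ q) X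
    have he : red q X y = e (y ⊗ₜ[B] Ideal.Quotient.mk q 1) := by
      induction y using TensorProduct.induction_on with
      | zero => simp
      | tmul b x =>
        simp only [e, red, LinearEquiv.trans_apply, TensorProduct.comm_tmul,
          TensorProduct.AlgebraTensorModule.cancelBaseChange_tmul, LinearMap.rTensor_tmul]
        refine congrArg (fun t => t ⊗ₜ[A] x) ?_
        simp [Algebra.smul_def]
      | add a b ha hb => simp only [map_add, add_tmul, ha, hb]
    rw [he, LinearEquiv.map_eq_zero_iff]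
  have hθval : ∀ (q : Ideal B) (w : B ⊗[A] K.Z₀ 0),
      red q (K.X 0) (θ w).1 = (kerBC (K.d 0) (B ⧸ q) (red q _ w)).1 := fun q w => by
    induction w using TensorProduct.induction_on with
    | zero => simp
    | tmul b z =>
      show red q _ (b ⊗ₜ[A] z.1) = (Ideal.Quotient.mkₐ A q b) ⊗ₜ[A] z.1
      simp [red]
    | add a b ha hb => simp only [map_add, Submodule.coe_add, ha, hb]
  have hsurj : Surjective θ := by
    suffices hr : LinearMap.range θ = ⊤ from fun y => hr.ge (Submodule.mem_top : y ∈ (⊤ : Submodule B P))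
    refine (Submodule.Quotient.subsingleton_iff (p := LinearMap.range θ)).1 ?_
    refine subsingleton_of_forall_le_smul (B := B) _ fun q hq x _ => ?_
    obtain ⟨p, rfl⟩ := Submodule.Quotient.mk_surjective _ x
    have hbc := (good_iff_kerBC K (B ⧸ q)).1 (hg q hq).2
    have hp : red q (K.X 0) p.1 ∈ LinearMap.ker ((K.d 0).baseChange (B ⧸ q)) := by
      rw [LinearMap.mem_ker]
      have hcomm : ∀ y : B ⊗[A] K.X 0,
          (K.d 0).baseChange (B ⧸ q) (red q _ y) = red q _ ((K.d 0).baseChange B y) := fun y => by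
        induction y using TensorProduct.induction_on with
        | zero => simp
        | tmul b x => simp [red]
        | add a b ha hb => simp only [map_add, ha, hb]
      rw [hcomm, show (K.d 0).baseChange B p.1 = 0 from p.2, map_zero]
    obtain ⟨w, hw⟩ := hbc.2 ⟨_, hp⟩
    obtain ⟨w', rfl⟩ := LinearMap.rTensor_surjective (K.Z₀ 0)
      (show Surjective (Ideal.Quotient.mkₐ A q).toLinearMap from Ideal.Quotient.mk_surjective) w
    have h1 : red q (K.X 0) (p - θ w').1 = 0 := by
      rw [Submodule.coe_sub, map_sub, hθval, sub_eq_zero]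
      exact (congrArg Subtype.val hw).symm
    have h2 : (p - θ w') ⊗ₜ[B] Ideal.Quotient.mk q 1 = 0 := by
      refine injective_Z₀_rTensor C (B ⧸ q) 0 ?_
      rw [map_zero, LinearMap.rTensor_tmul]
      exact (hred q _ _).1 h1
    have h3 := Submodule.mem_map_of_mem (f := Submodule.mkQ (LinearMap.range θ))
      ((FlatCx.tmul_mk_eq_zero_iff q _).1 h2)
    rw [Submodule.map_smul'', Submodule.map_top, Submodule.range_mkQ] at h3
    rw [show (Submodule.Quotient.mk p : P ⧸ LinearMap.range θ) = Submodule.Quotient.mk (p - θ w') from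
      (Submodule.Quotient.eq _).2 (by rw [sub_sub_cancel]; exact ⟨w', rfl⟩)]
    exact h3
  have hinj : Injective θ := by
    obtain ⟨s, hs⟩ := Module.projective_lifting_property θ LinearMap.id hsurj
    let R : B ⊗[A] K.Z₀ 0 →ₗ[B] LinearMap.ker θ :=
      LinearMap.codRestrict _ (LinearMap.id - s ∘ₗ θ) fun w => by
        rw [LinearMap.mem_ker, LinearMap.sub_apply, map_sub, LinearMap.id_apply,
          LinearMap.comp_apply, show θ (s (θ w)) = θ w from LinearMap.congr_fun hs (θ w), sub_self]
    haveI := isNoetherian_of_isNoetherianRing_of_finite B (B ⊗[A] K.Z₀ 0)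
    suffices hk : LinearMap.ker θ = ⊥ from fun a b hab => sub_eq_zero.1 ((Submodule.mem_bot B).1
      (hk.le (show θ (a - b) = 0 by rw [map_sub, hab, sub_self])))
    refine (Submodule.subsingleton_iff_eq_bot (p := LinearMap.ker θ)).1 ?_
    refine subsingleton_of_forall_le_smul (B := B) _ fun q hq x _ => ?_
    have hbc := (good_iff_kerBC K (B ⧸ q)).1 (hg q hq).2
    have h1 : red q _ x.1 = 0 := hbc.1 (Subtype.ext (by
      rw [map_zero, ← hθval, show θ x.1 = 0 from x.2]
      simp))
    have h2 := Submodule.mem_map_of_mem (f := R)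
      ((FlatCx.tmul_mk_eq_zero_iff q _).1 ((hred q _ _).1 h1))
    rw [Submodule.map_smul''] at h2
    have hx : R x.1 = x := Subtype.ext (by
      show x.1 - s (θ x.1) = x.1
      rw [show θ x.1 = 0 from x.2, map_zero, sub_zero])
    rw [hx] at h2
    exact Submodule.smul_mono le_rfl le_top h2
  exact Module.Projective.of_equiv (LinearEquiv.ofBijective θ ⟨hinj, hsurj⟩).symm

end Good

end Groth.Agent.TwistFlat
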