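import Groth.Agent.TwistFlat.Core
import Mathlib.RingTheory.TensorProduct.DirectLimitFG

/-!
Flatness of a base change from factorizations of finite submodules.
-/

set_option autoImplicit false
set_option linter.style.haveILetI false

universe u

open CategoryTheory CategoryTheory.Limits AlgebraicGeometry TopologicalSpace Opposite TensorProduct

noncomputable section

namespace Groth.Agent.TwistFlat

open Groth.Agent.QCoh Groth.Agent.Props.GenLocus

theorem comm_lTensor {A : Type u} [CommRing A] (B : Type u) [AddCommGroup B] [Module A B] {M N : Type u}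
    [AddCommGroup M] [Module A M] [AddCommGroup N] [Module A N] (f : M →ₗ[A] N) (z : B ⊗[A] M) :
    TensorProduct.comm A B N (f.lTensor B z) = f.rTensor B (TensorProduct.comm A B M z) := by
  induction z using TensorProduct.induction_on with
  | zero => simp
  | tmul b m => simp
  | add a b ha hb => simp only [map_add, ha, hb]

/-- `B ⊗ M` is flat if every finite submodule of `M` factors through some `W` with `B ⊗ W` flat. -/
theorem flat_tensor_of_factor {A : Type u} [CommRing A] (B : Type u) [CommRing B] [Algebra A B]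
    {M : Type u} [AddCommGroup M] [Module A M]
    (h : ∀ Q : Submodule A M, Q.FG → ∃ (W : Type u) (_ : AddCommGroup W) (_ : Module A W)
      (_ : Module.Flat B (B ⊗[A] W)) (g : W →ₗ[A] M) (s : Q →ₗ[A] W), g ∘ₗ s = Q.subtype) :
    Module.Flat B (B ⊗[A] M) := by
  classical
  refine flat_of_lift_relation fun {l} b x hbx => ?_
  obtain ⟨P, hP, hxP⟩ : ∃ P : Submodule A M, P.FG ∧
      ∀ j, ∃ p : B ⊗[A] P, P.subtype.baseChange B p = x j := by
    choose P hP hp using fun j => TensorProduct.exists_of_fg (TensorProduct.comm A B M (x j))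
    refine ⟨⨆ j, P j, Submodule.fg_iSup _ hP, fun j => ?_⟩
    obtain ⟨t, ht⟩ := hp j
    refine ⟨(Submodule.inclusion (le_iSup P j)).lTensor B (TensorProduct.comm A _ B t), ?_⟩
    show (⨆ j, P j).subtype.lTensor B _ = x j
    rw [← LinearMap.comp_apply, ← LinearMap.lTensor_comp, Submodule.subtype_comp_inclusion]
    apply (TensorProduct.comm A B M).injective
    rw [comm_lTensor]
    simpa using ht
  choose p hp using hxP
  have h0 : P.subtype.lTensor B (∑ j, b j • p j) = 0 := by
    show P.subtype.baseChange B (∑ j, b j • p j) = 0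
    simp only [map_sum, map_smul, hp, hbx]
  obtain ⟨Q, hPQ, hQ, hQ0⟩ := TensorProduct.eq_zero_of_fg_of_subtype_eq_zero hP
    (t := TensorProduct.comm A B P (∑ j, b j • p j)) (by
      rw [← comm_lTensor, h0, map_zero])
  obtain ⟨W, _, _, hW, g, s, hgs⟩ := h Q hQ
  refine ⟨B ⊗[A] W, inferInstance, inferInstance, hW, g.baseChange B,
    fun j => (s ∘ₗ Submodule.inclusion hPQ).baseChange B (p j), ?_, fun j => ?_⟩
  · simp only [← map_smul, ← map_sum]
    show (s ∘ₗ Submodule.inclusion hPQ).lTensor B (∑ j, b j • p j) = 0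
    rw [LinearMap.lTensor_comp, LinearMap.comp_apply]
    have : (Submodule.inclusion hPQ).lTensor B (∑ j, b j • p j) = 0 := by
      apply (TensorProduct.comm A B Q).injective
      rw [comm_lTensor, hQ0, map_zero]
    rw [this, map_zero]
  · rw [← LinearMap.comp_apply, ← LinearMap.baseChange_comp, ← LinearMap.comp_assoc, hgs]
    exact hp j

variable {X Y : Scheme.{u}} (f : X ⟶ Y) {V : Y.Opens} {L : X.Modules}
variable [CompactSpace X] [QuasiSeparatedSpace X] (hL : PicF.IsInvertible L)
  (s : Coh.structureModule X ⟶ L) (hV : V = ⊤)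

include hL hV in
/-- Finite submodules of the sections over `X_s` factor through global sections of large twists. -/
theorem exists_factor_genLocus (F : X.Modules) [F.IsQuasicoherent] [IsNoetherianRing Γ(Y, V)]
    (N : ℕ) (e : CohB1.genLocus L s ≤ f ⁻¹ᵁ V) :
    letI : Module Γ(Y, V) Γ(F, CohB1.genLocus L s) :=
      Module.compHom _ (f.appLE V (CohB1.genLocus L s) e).hom
    ∀ Q : Submodule Γ(Y, V) Γ(F, CohB1.genLocus L s), Q.FG →
    ∃ (k : ℕ) (_ : N ≤ k)
      (g : Γ((Coh.push f).obj (CohB1.tensorMod F (CohB1.tensorPow L k)), V) →ₗ[Γ(Y, V)]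
        Γ(F, CohB1.genLocus L s))
      (σ : Q →ₗ[Γ(Y, V)] Γ((Coh.push f).obj (CohB1.tensorMod F (CohB1.tensorPow L k)), V)),
      g ∘ₗ σ = Q.subtype := by
  letI : Module Γ(Y, V) Γ(F, CohB1.genLocus L s) :=
    Module.compHom _ (f.appLE V (CohB1.genLocus L s) e).hom
  intro Q hQ
  haveI : Module.Finite Γ(Y, V) Q := Module.Finite.iff_fg.2 hQ
  obtain ⟨l, G, hG⟩ := Module.Finite.exists_fin' Γ(Y, V) Q
  obtain ⟨c, a, ha⟩ := Submodule.fg_iff_exists_fin_generating_family.1
    (IsNoetherian.noetherian (LinearMap.ker G))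
  let t : Fin l → Γ(F, CohB1.genLocus L s) := fun j => (G (Pi.single j 1)).1
  have hGt : ∀ v : Fin l → Γ(Y, V), (G v).1 = ∑ j, v j • t j := fun v => by
    conv_lhs => rw [pi_eq_sum_univ' v]
    simp only [map_sum, map_smul, Submodule.coe_sum, Submodule.coe_smul, t]
  obtain ⟨k, hk, g, q, hq, hg⟩ := exists_lift_relations f hL s hV F N e a t fun i => by
    rw [← hGt, show G (a i) = 0 from LinearMap.mem_ker.1 (ha ▸ Submodule.subset_span ⟨i, rfl⟩)]
    rfl
  have hle : LinearMap.ker G ≤ LinearMap.ker (Fintype.linearCombination Γ(Y, V) q) := by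
    rw [← ha, Submodule.span_le]
    rintro _ ⟨i, rfl⟩
    refine LinearMap.mem_ker.2 ?_
    rw [Fintype.linearCombination_apply]
    exact hq i
  let σ : Q →ₗ[Γ(Y, V)] Γ((Coh.push f).obj (CohB1.tensorMod F (CohB1.tensorPow L k)), V) :=
    (LinearMap.ker G).liftQ _ hle ∘ₗ (G.quotKerEquivOfSurjective hG).symm.toLinearMap
  have hσ : ∀ v, σ (G v) = Fintype.linearCombination Γ(Y, V) q v := fun v => by
    show (LinearMap.ker G).liftQ _ hle ((G.quotKerEquivOfSurjective hG).symm (G v)) = _
    rw [show (G.quotKerEquivOfSurjective hG).symm (G v) = Submodule.Quotient.mk v from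
      (LinearEquiv.symm_apply_eq _).2 rfl]
    rfl
  refine ⟨k, hk, g, σ, LinearMap.ext fun x => ?_⟩
  obtain ⟨v, rfl⟩ := hG x
  rw [LinearMap.comp_apply, hσ, Fintype.linearCombination_apply, map_sum, Submodule.coe_subtype,
    hGt]
  simp only [map_smul, hg]

end Groth.Agent.TwistFlat
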