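import Groth.Agent.TwistFlat.Core
import Groth.Agent.TwistFlat.FibEuler
import Groth.Agent.FlatCx.Fib
import Groth.Agent.ProperFin.Descend
import Groth.Agent.S0002
import Mathlib.RingTheory.LocalProperties.Reduced

/-!
Flatness over the base and direct images of twists for a relatively ample module.
-/

set_option autoImplicit false
set_option linter.style.haveILetI false

universe u

open CategoryTheory CategoryTheory.Limits AlgebraicGeometry TopologicalSpace Opposite Function
open scoped TensorProduct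

noncomputable section

namespace Groth.Agent.TwistFlat

open Groth.Agent.CBC Groth.Agent.ProjTwist

section Algebra

variable {A : Type u} [CommRing A]

theorem fib_localized (M : Type u) [AddCommGroup M] [Module A M] (p : Ideal A) [p.IsPrime]
    (q : PrimeSpectrum (Localization.AtPrime p)) :
    FlatCx.fib (A := Localization.AtPrime p) (LocalizedModule p.primeCompl M) q =
      FlatCx.fib M (PrimeSpectrum.comap (algebraMap A (Localization.AtPrime p)) q) := by
  set x := PrimeSpectrum.comap (algebraMap A (Localization.AtPrime p)) q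
  let K := x.asIdeal.ResidueField
  let L := q.asIdeal.ResidueField
  letI : Algebra K L := (Ideal.ResidueField.map x.asIdeal q.asIdeal
    (algebraMap A (Localization.AtPrime p)) rfl).toAlgebra
  haveI : IsScalarTower A K L := .of_algebraMap_eq fun a => by
    rw [RingHom.algebraMap_toAlgebra, Ideal.ResidueField.map_algebraMap,
      ← IsScalarTower.algebraMap_apply]
  rw [← FlatCx.fib_eq_finrank (L := L) M x,
    FlatCx.fib_congr _ (LocalizedModule.equivTensorProduct p.primeCompl M)]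
  exact (TensorProduct.AlgebraTensorModule.cancelBaseChange A (Localization.AtPrime p) L L M).finrank_eq

/-- Equal fibre dimensions at a prime and the minimal primes below it give flat localization. -/
theorem flat_localized_of_fib [IsReduced A] (M : Type u) [AddCommGroup M] [Module A M]
    [Module.Finite A M] (p : PrimeSpectrum A)
    (h : ∀ m : PrimeSpectrum A, m.asIdeal ∈ minimalPrimes A → m.asIdeal ≤ p.asIdeal →
      FlatCx.fib M m = FlatCx.fib M p) :
    Module.Flat A (LocalizedModule p.asIdeal.primeCompl M) := by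
  let Ap := Localization.AtPrime p.asIdeal
  haveI : IsReduced Ap := inferInstance
  haveI : Module.Finite Ap (LocalizedModule p.asIdeal.primeCompl M) :=
    Module.Finite.equiv (LocalizedModule.equivTensorProduct p.asIdeal.primeCompl M).symm
  haveI := FlatCx.free_of_fib_eq_minimalPrimes (A := Ap) (LocalizedModule p.asIdeal.primeCompl M)
    fun q hq => by
    rw [fib_localized, fib_localized]
    have hle : ∀ q : PrimeSpectrum Ap, (q.asIdeal.comap (algebraMap A Ap)) ≤ p.asIdeal := fun q =>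
      le_trans (Ideal.comap_mono (IsLocalRing.le_maximalIdeal q.2.ne_top))
        (IsLocalization.AtPrime.comap_maximalIdeal Ap p.asIdeal).le
    have hp : PrimeSpectrum.comap (algebraMap A Ap) (IsLocalRing.closedPoint Ap) = p :=
      PrimeSpectrum.ext (IsLocalization.AtPrime.comap_maximalIdeal Ap p.asIdeal)
    rw [hp]
    refine h _ ⟨⟨(PrimeSpectrum.comap (algebraMap A Ap) q).2, bot_le⟩, fun r hr hrq => ?_⟩ (hle q)
    have hdisj : Disjoint (p.asIdeal.primeCompl : Set A) r :=
      Set.disjoint_left.2 fun a ha har => ha (hle q (hrq har))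
    have hrp := IsLocalization.isPrime_of_isPrime_disjoint p.asIdeal.primeCompl Ap r hr.1 hdisj
    have hle' : r.map (algebraMap A Ap) ≤ q.asIdeal := Ideal.map_le_iff_le_comap.2 hrq
    have := hq.2 ⟨hrp, bot_le⟩ hle'
    exact (Ideal.comap_mono this).trans
      (IsLocalization.comap_map_of_isPrime_disjoint p.asIdeal.primeCompl Ap hr.1 hdisj).le
  haveI : Module.Flat A Ap := IsLocalization.flat Ap p.asIdeal.primeCompl
  exact Module.Flat.trans A Ap (LocalizedModule p.asIdeal.primeCompl M)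

variable {C : Type u} [CommRing C] [Algebra A C] {M : Type u} [AddCommGroup M] [Module C M]
  [Module A M] [IsScalarTower A C M]

/-- A flat localization at a submonoid below gives flat localization at a prime. -/
theorem flat_localizedModule_of_localized (S : Submonoid A) (Q : Ideal C) [Q.IsPrime]
    (hS : ∀ s ∈ S, algebraMap A C s ∉ Q) [Module.Flat A (LocalizedModule S M)] :
    Module.Flat A (LocalizedModule Q.primeCompl M) := by
  refine flat_of_lift_relation fun {l} a x hax => ?_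
  let ι := LocalizedModule.mkLinearMap Q.primeCompl M
  let ιS := LocalizedModule.mkLinearMap S M
  obtain ⟨s₀, hs₀⟩ := IsLocalizedModule.exist_integer_multiples Q.primeCompl ι Finset.univ x
  choose t ht using fun j => hs₀ j (Finset.mem_univ j)
  obtain ⟨c, hc⟩ : ∃ c : Q.primeCompl, c • ∑ j, a j • t j = c • (0 : M) := by
    refine (IsLocalizedModule.eq_iff_exists Q.primeCompl ι).1 ?_
    rw [map_sum, map_zero]
    simp only [LinearMap.map_smul_of_tower, ht, smul_comm (a _) (s₀ : C)]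
    rw [← Finset.smul_sum, hax, smul_zero]
  have hu : ∀ s : S, IsUnit (algebraMap A (Module.End A (LocalizedModule Q.primeCompl M)) s) := fun s => by
    rw [Module.End.isUnit_iff]
    have := (Module.End.isUnit_iff _).1 (IsLocalizedModule.map_units ι (⟨algebraMap A C s, hS s s.2⟩ : Q.primeCompl))
    convert this using 1
    funext z
    exact (algebraMap_smul C (s : A) z).symm
  let φ : LocalizedModule S M →ₗ[A] LocalizedModule Q.primeCompl M :=
    IsLocalizedModule.lift S ιS (ι.restrictScalars A) hu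
  obtain ⟨u, hu'⟩ := (IsLocalizedModule.map_units ι (c * s₀)).exists_left_inv
  refine ⟨LocalizedModule S M, inferInstance, inferInstance, inferInstance,
    (u.restrictScalars A) ∘ₗ φ, fun j => ιS ((c : C) • t j), ?_, fun j => ?_⟩
  · simp only [← map_smul, ← map_sum, smul_comm (a _) (c : C)]
    rw [← Finset.smul_sum]
    refine (congrArg ιS ?_).trans (map_zero ιS)
    simpa [Submonoid.smul_def] using hc
  · show u (φ (ιS ((c : C) • t j))) = x j
    rw [show φ (ιS ((c : C) • t j)) = ι ((c : C) • t j) from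
      IsLocalizedModule.lift_apply S ιS (ι.restrictScalars A) hu _, map_smul, ht]
    have := LinearMap.congr_fun hu' (x j)
    rw [← mul_smul]
    exact this

end Algebra

variable {X S : Scheme.{u}}

theorem finrank_evalAlg_eq_fib {W : S.Opens} (hW : IsAffineOpen W) (y : S) (hy : y ∈ W)
    (M : Type u) [AddCommGroup M] [Module Γ(S, W) M] :
    letI := evalAlg y hy
    Module.finrank (S.residueField y) (S.residueField y ⊗[Γ(S, W)] M) =
      FlatCx.fib M (hW.primeIdealOf ⟨y, hy⟩) := by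
  letI := evalAlg y hy
  obtain ⟨ψ, hψ⟩ := exists_residueAlgebra (A := Γ(S, W)) (hW.primeIdealOf ⟨y, hy⟩)
    (K := S.residueField y) (ker_eval hW y hy)
  letI := ψ.toAlgebra
  haveI : IsScalarTower Γ(S, W) (hW.primeIdealOf ⟨y, hy⟩).asIdeal.ResidueField (S.residueField y) :=
    .of_algebraMap_eq' hψ.symm
  exact FlatCx.fib_eq_finrank (L := S.residueField y) M _

theorem nonempty_restrict_twist_pow {Z : Scheme.{u}} (j : Z ⟶ X) [IsOpenImmersion j]
    (F L : X.Modules) (hL : PicF.IsInvertible L) (n : ℕ) :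
    Nonempty (CohB1.tensorMod (F.restrict j) (CohB1.tensorPow (L.restrict j) n) ≅
      (CohB1.tensorMod F (CohB1.tensorPow L n)).restrict j) :=
  ⟨tensCongr ((Scheme.Modules.restrictFunctorIsoPullback j).app F)
      (AmpleLib.tensorPowIso ((Scheme.Modules.restrictFunctorIsoPullback j).app L) n ≪≫
        (AmpleLib.exists_iso_pullback_tensorPow j hL n).some.symm) ≪≫
    (KFlat.PullTensor.pullTensorIso j F (CohB1.tensorPow L n)).symm ≪≫
    ((Scheme.Modules.restrictFunctorIsoPullback j).app _).symm⟩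

variable (f : X ⟶ S) (L F : X.Modules) (V : S.Opens)

/-- Sections over the open of the direct image of a twist, through the restriction. -/
theorem exists_twistPushEquiv (hL : PicF.IsInvertible L) (n : ℕ) :
    ∃ ε : Γ((Coh.push (f ∣_ V)).obj
        (CohB1.tensorMod (F.restrict (f ⁻¹ᵁ V).ι) (CohB1.tensorPow (L.restrict (f ⁻¹ᵁ V).ι) n)), ⊤) ≃+
      Γ((Coh.push f).obj (CohB1.tensorMod F (CohB1.tensorPow L n)), V.ι ''ᵁ ⊤),
      ∀ (a : Γ((V : Scheme.{u}), ⊤)) m, ε (a • m) = (show Γ(S, V.ι ''ᵁ ⊤) from a) • ε m := by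
  obtain ⟨e⟩ := nonempty_restrict_twist_pow (f ⁻¹ᵁ V).ι F L hL n
  obtain ⟨ε, hε⟩ := exists_pushEquiv (isPullback_morphismRestrict f V)
    (CohB1.tensorMod F (CohB1.tensorPow L n))
  refine ⟨(isoSec (f ∣_ V) (V := ⊤) e).toAddEquiv.trans ε, fun a m => ?_⟩
  refine (congrArg ε (map_smul (isoSec (f ∣_ V) (V := ⊤) e) a m)).trans ((hε a _).trans ?_)
  rw [Scheme.Opens.ι_appIso]
  rfl

variable [IsProper f] [IsLocallyNoetherian S]

theorem finite_and_flat_aux (hL : RelAmple.IsRelAmple f L) (hF : Coh.IsCoh F) (hV : IsAffineOpen V) :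
    (∀ n, Module.Finite Γ(S, V.ι ''ᵁ ⊤)
      Γ((Coh.push f).obj (CohB1.tensorMod F (CohB1.tensorPow L n)), V.ι ''ᵁ ⊤)) ∧
    (FlatMod.IsFlatOver f F → ∃ N : ℕ, ∀ n, N ≤ n → Module.Flat Γ(S, V.ι ''ᵁ ⊤)
      Γ((Coh.push f).obj (CohB1.tensorMod F (CohB1.tensorPow L n)), V.ι ''ᵁ ⊤)) := by
  haveI : IsAffine (V : Scheme.{u}) := hV
  have hW : IsAffineOpen (V.ι ''ᵁ ⊤) := (isAffineOpen_top _).image_of_isOpenImmersion V.ι
  have hLi := AmpleLib.isInvertible_of_isRelAmple hL
  let q := f ∣_ V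
  let pr := (f ⁻¹ᵁ V).ι
  have H : IsPullback q pr V.ι f := isPullback_morphismRestrict f V
  letI : (f ⁻¹ᵁ V : Scheme.{u}).Over (Spec (CommRingCat.of Γ((V : Scheme.{u}), ⊤))) :=
    ⟨q ≫ (V : Scheme.{u}).isoSpec.hom⟩
  haveI : IsProper ((f ⁻¹ᵁ V : Scheme.{u}) ↘ Spec (CommRingCat.of Γ((V : Scheme.{u}), ⊤))) := by
    show IsProper (q ≫ (V : Scheme.{u}).isoSpec.hom)
    infer_instance
  haveI : IsNoetherianRing Γ((V : Scheme.{u}), ⊤) := IsLocallyNoetherian.component_noetherian ⟨_, hW⟩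
  have hφ : ∀ a, (Coh.toGlobal ((f ⁻¹ᵁ V : Scheme.{u}) ↘ Spec (CommRingCat.of Γ((V : Scheme.{u}), ⊤)))) a =
      q.app ⊤ a := fun a => by
    show ((q ≫ (V : Scheme.{u}).isoSpec.hom).appTop) ((Scheme.ΓSpecIso (CommRingCat.of Γ((V : Scheme.{u}), ⊤))).inv a) = _
    rw [Scheme.Hom.comp_appTop, CommRingCat.comp_apply]
    refine congrArg (fun t => q.app ⊤ t) ?_
    rw [Scheme.isoSpec, asIso_hom, Scheme.toSpecΓ_appTop]
    exact Iso.inv_hom_id_apply (Scheme.ΓSpecIso Γ((V : Scheme.{u}), ⊤)) a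
  have hF' : Coh.IsCoh (F.restrict pr) := CohDev.isCoh_of_iso
    ((Scheme.Modules.restrictFunctorIsoPullback pr).app F).symm
    (ZClosLib.CohDescent.isCoh_pullback pr F hF)
  have hL' : CohB1.IsAmple (L.restrict pr) := hL.2 ⟨V, hV⟩
  haveI : IsLocallyNoetherian (f ⁻¹ᵁ V : Scheme.{u}) := LocallyOfFiniteType.isLocallyNoetherian q
  haveI : CompactSpace (f ⁻¹ᵁ V : Scheme.{u}) := QuasiCompact.compactSpace_of_compactSpace q
  haveI : IsNoetherian (f ⁻¹ᵁ V : Scheme.{u}) := {}
  have hG : ∀ n, Coh.IsCoh (CohB1.tensorMod (F.restrict pr) (CohB1.tensorPow (L.restrict pr) n)) :=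
    fun n => ProjTwist.isCoh_tensor (AmpleLib.isInvertible_tensorPow hL'.1 n) hF'
  let σV : Γ((V : Scheme.{u}), ⊤) ≃+* Γ(S, V.ι ''ᵁ ⊤) := RingEquiv.refl _
  refine ⟨fun n => ?_, fun hfl => ?_⟩
  · let G := CohB1.tensorMod (F.restrict pr) (CohB1.tensorPow (L.restrict pr) n)
    haveI := Groth.Agent.S0002.result Γ((V : Scheme.{u}), ⊤) (f ⁻¹ᵁ V : Scheme.{u}) _ (hG n) 0
    obtain ⟨ε, hε⟩ := exists_twistPushEquiv f L F V hLi n
    let ψ : Coh.HH (f ⁻¹ᵁ V : Scheme.{u}) G 0 →ₛₗ[RingHom.id Γ((V : Scheme.{u}), ⊤)]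
        Γ((Coh.push q).obj G, ⊤) :=
      { toFun := fun x => ProperFin.h0Sec G x
        map_add' := fun a b => map_add (ProperFin.h0Sec G) a b
        map_smul' := fun a x => by
          have h1 := ProperFin.h0Sec_smul G (Coh.toGlobal
            ((f ⁻¹ᵁ V : Scheme.{u}) ↘ Spec (CommRingCat.of Γ((V : Scheme.{u}), ⊤))) a) x
          refine h1.trans ?_
          refine congrArg (fun t : Γ((f ⁻¹ᵁ V : Scheme.{u}), ⊤) => t • ProperFin.h0Sec G x) ?_
          exact hφ a }
    have := Module.Finite.of_surjective ψ (ProperFin.h0Sec G).surjective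
    exact ((flat_and_finite_iff σV ε hε).2.1 this : _)
  · obtain ⟨N, hN⟩ := AmpCrit.SerreVan.serre_vanishing
      ((f ⁻¹ᵁ V : Scheme.{u}) ↘ Spec (CommRingCat.of Γ((V : Scheme.{u}), ⊤))) hL' _ hF'
    refine ⟨N, fun n hn => ?_⟩
    obtain ⟨ε, hε⟩ := exists_twistPushEquiv f L F V hLi n
    haveI := hF.1
    haveI := hF'.1
    haveI := (hG n).1
    obtain ⟨D⟩ := CBC.nonempty_model q (isAffineOpen_top _)
    have hfl' := isFlatOver_tensor q (F.restrict pr) (AmpleLib.isInvertible_tensorPow hL'.1 n)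
      ((isFlatOver_restrict_iff H F).2 fun x => hfl _)
    have hflat := flat_push_of_vanishing q (isAffineOpen_top _) D _ hfl' fun m => by
      haveI := hN n hn (m + 1) m.succ_pos
      exact (CBC.hTop_bijective (q.app ⊤).hom (top_le_iff.mp D.cov) _ D.aff (m + 1)).1.subsingleton
    exact ((flat_and_finite_iff σV ε hε).1.1 hflat : _)

/-- Direct images of twists have finite sections, and flat ones for large twists of a flat module. -/
theorem finite_and_flat_push (hL : RelAmple.IsRelAmple f L) (hF : Coh.IsCoh F) (hV : IsAffineOpen V) :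
    (∀ n, Module.Finite Γ(S, V) Γ((Coh.push f).obj (CohB1.tensorMod F (CohB1.tensorPow L n)), V)) ∧
    (FlatMod.IsFlatOver f F → ∃ N : ℕ, ∀ n, N ≤ n →
      Module.Flat Γ(S, V) Γ((Coh.push f).obj (CohB1.tensorMod F (CohB1.tensorPow L n)), V)) := by
  have := finite_and_flat_aux f L F V hL hF hV
  rwa [Scheme.Opens.ι_image_top] at this

/-- Flat localized direct images of large twists give flatness above the point. -/
theorem isFlatOverAt_of_flat_localized (hL : RelAmple.IsRelAmple f L) (hF : Coh.IsCoh F)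
    (hV : IsAffineOpen V) (hW : IsAffineOpen (V.ι ''ᵁ ⊤)) (x : X) (hy : f x ∈ V.ι ''ᵁ ⊤) {N : ℕ}
    (h : ∀ k, N ≤ k → Module.Flat Γ(S, V.ι ''ᵁ ⊤)
      (LocalizedModule (hW.primeIdealOf ⟨f x, hy⟩).asIdeal.primeCompl
        Γ((Coh.push f).obj (CohB1.tensorMod F (CohB1.tensorPow L k)), V.ι ''ᵁ ⊤))) :
    FlatMod.IsFlatOverAt f F x := by
  haveI : IsAffine (V : Scheme.{u}) := hV
  haveI := hF.1
  have hLi := AmpleLib.isInvertible_of_isRelAmple hL
  let q := f ∣_ V
  let pr := (f ⁻¹ᵁ V).ι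
  have H : IsPullback q pr V.ι f := isPullback_morphismRestrict f V
  have hxV : f x ∈ V := (Scheme.Opens.ι_image_top V).le hy
  let x' : (f ⁻¹ᵁ V : Scheme.{u}) := ⟨x, hxV⟩
  have hL' : CohB1.IsAmple (L.restrict pr) := hL.2 ⟨V, hV⟩
  haveI : (F.restrict pr).IsQuasicoherent :=
    (SheafOfModules.isQuasicoherent (f ⁻¹ᵁ V : Scheme.{u}).ringCatSheaf).prop_of_iso
      ((Scheme.Modules.restrictFunctorIsoPullback pr).app F).symm (QCoh.isQuasicoherent_pullback pr F)
  haveI : CompactSpace (f ⁻¹ᵁ V : Scheme.{u}) := hL'.2.1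
  haveI : QuasiSeparatedSpace (f ⁻¹ᵁ V : Scheme.{u}) := quasiSeparatedSpace_of_quasiSeparated q
  obtain ⟨n, s, hxs, hU⟩ := hL'.2.2 x'
  set U := CohB1.genLocus (CohB1.tensorPow (L.restrict pr) (n + 1)) s with hUdef
  have hUX : IsAffineOpen (pr ''ᵁ U) := hU.image_of_isOpenImmersion pr
  have e : pr ''ᵁ U ≤ f ⁻¹ᵁ (V.ι ''ᵁ ⊤) :=
    (pr.image_mono (le_top : U ≤ q ⁻¹ᵁ ⊤)).trans
      (AlgebraicGeometry.IsOpenImmersion.image_preimage_eq_preimage_image_of_isPullback H ⊤).le
  have hx : x ∈ pr ''ᵁ U := ⟨x', hxs, rfl⟩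
  letI := (f.appLE (V.ι ''ᵁ ⊤) (pr ''ᵁ U) e).hom.toAlgebra
  letI : Module Γ(S, V.ι ''ᵁ ⊤) Γ(F, pr ''ᵁ U) :=
    Module.compHom _ (f.appLE (V.ι ''ᵁ ⊤) (pr ''ᵁ U) e).hom
  haveI : IsScalarTower Γ(S, V.ι ''ᵁ ⊤) Γ(X, pr ''ᵁ U) Γ(F, pr ''ᵁ U) :=
    IsScalarTower.of_algebraMap_smul fun _ _ => rfl
  refine (FlatOpen.Scheme.isFlatOverAt_iff f hW hUX e x hx F).2 ?_
  let p := (hW.primeIdealOf ⟨f x, hy⟩).asIdeal
  haveI : Module.Flat Γ(S, V.ι ''ᵁ ⊤) (LocalizedModule p.primeCompl Γ(F, pr ''ᵁ U)) := by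
    refine flat_localized_of_lift_relation p.primeCompl fun {l} a t hat => ?_
    have hsm : ∀ (r : Γ((V : Scheme.{u}), ⊤)) (m : Γ(F, pr ''ᵁ U)),
        (pr.appIso U).inv (q.appLE ⊤ U le_top r) • m = (show Γ(S, V.ι ''ᵁ ⊤) from r) • m := fun r m => by
      refine congrArg (fun c : Γ(X, pr ''ᵁ U) => c • m) ?_
      refine ((appLE_image H.w U le_top e r).symm).trans ?_
      rw [Scheme.Opens.ι_appIso]
      rfl
    letI : Module Γ((V : Scheme.{u}), ⊤) Γ(F.restrict pr, U) :=
      Module.compHom _ (q.appLE ⊤ U le_top).hom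
    obtain ⟨k, hk, g, qs, hq, hg⟩ := exists_lift_relation q
      (AmpleLib.isInvertible_tensorPow hL'.1 (n + 1)) s rfl (F.restrict pr) N le_top
      (fun j => (show Γ((V : Scheme.{u}), ⊤) from a j)) (fun j => (show Γ(F.restrict pr, U) from t j))
      (by
        refine Eq.trans (Finset.sum_congr rfl fun j _ => ?_) hat
        exact hsm (a j) (t j))
    obtain ⟨φ, -⟩ := AmpleLib.exists_iso_tensorPow_mul hL'.1 (n + 1) k
    obtain ⟨ε, hε⟩ := exists_twistPushEquiv f L F V hLi ((n + 1) * k)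
    let E := isoSec q (V := ⊤) (tensCongr (Iso.refl (F.restrict pr)) φ)
    let ε' := E.toAddEquiv.trans ε
    have hε' : ∀ (r : Γ((V : Scheme.{u}), ⊤)) m, ε' (r • m) = (show Γ(S, V.ι ''ᵁ ⊤) from r) • ε' m :=
      fun r m => (congrArg ε (map_smul E r m)).trans (hε r _)
    let g' : Γ((Coh.push f).obj (CohB1.tensorMod F (CohB1.tensorPow L ((n + 1) * k))), V.ι ''ᵁ ⊤)
        →ₗ[Γ(S, V.ι ''ᵁ ⊤)] Γ(F, pr ''ᵁ U) :=
      { toFun := fun z => g (ε'.symm z)
        map_add' := fun z w => (congrArg g (map_add ε'.symm z w)).trans (map_add g _ _)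
        map_smul' := fun r z => by
          have h1 : ε'.symm (r • z) = (show Γ((V : Scheme.{u}), ⊤) from r) • ε'.symm z :=
            ε'.injective (by rw [ε'.apply_symm_apply, hε', ε'.apply_symm_apply])
          rw [h1, map_smul]
          exact hsm r _ }
    refine ⟨_, inferInstance, inferInstance, h _ (hk.trans (Nat.le_mul_of_pos_left k n.succ_pos)),
      g', fun j => ε' (qs j), ?_, fun j => ?_⟩
    · have h2 := congrArg ε' hq
      rw [map_sum, map_zero] at h2
      exact (Finset.sum_congr rfl fun j _ => (hε' (a j) (qs j)).symm).trans h2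
    · show g (ε'.symm (ε' (qs j))) = t j
      rw [ε'.symm_apply_apply]
      exact hg j
  refine flat_localizedModule_of_localized p.primeCompl _ fun r hr => ?_
  rw [← Ideal.mem_comap]
  exact fun hc => hr ((congrArg PrimeSpectrum.asIdeal
    (IsAffineOpen.comap_primeIdealOf_appLE _ hW _ hUX (f := f) e hx)).le hc)

end Groth.Agent.TwistFlat
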