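import Groth.Agent.TwistFlat.Uniform
import Groth.Agent.RankLocus.Basic
import Groth.Agent.PinchLib.Modules

/-!
Flatness after an arbitrary base change through the pullbacks of direct images of large twists.
-/

set_option autoImplicit false
set_option linter.style.haveILetI false

universe u

open CategoryTheory CategoryTheory.Limits AlgebraicGeometry TopologicalSpace Opposite Function
  TensorProduct

noncomputable section

namespace Groth.Agent.TwistFlat

open Groth.Agent.CBC Groth.Agent.Props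

/-- The fibre rank through the sections on an affine open. -/
theorem fibreRank_eq_fib {S : Scheme.{u}} (M : S.Modules) [M.IsQuasicoherent] {W : S.Opens}
    (hW : IsAffineOpen W) (y : S) (hy : y ∈ W) :
    QRank.fibreRank M y = FlatCx.fib Γ(M, W) (hW.primeIdealOf ⟨y, hy⟩) := by
  letI := evalAlg y hy
  rw [← finrank_evalAlg_eq_fib hW y hy Γ(M, W)]
  letI := S.presheaf.algebra_section_stalk ⟨y, hy⟩
  letI := QStalk.moduleSections M hy
  haveI : IsScalarTower Γ(S, W) (S.presheaf.stalk y) (M.presheaf.stalk y) :=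
    IsScalarTower.of_algebraMap_smul fun _ _ => rfl
  haveI : IsLocalization.AtPrime (S.presheaf.stalk y) (hW.primeIdealOf ⟨y, hy⟩).asIdeal :=
    hW.isLocalization_stalk ⟨y, hy⟩
  haveI := QStalk.isLocalizedModule_germLin M hy hW
  have hbc : IsBaseChange (S.presheaf.stalk y) (QStalk.germLin M hy) :=
    IsLocalizedModule.isBaseChange (hW.primeIdealOf ⟨y, hy⟩).asIdeal.primeCompl _ _
  letI : Algebra (S.presheaf.stalk y) (S.residueField y) := (S.residue y).hom.toAlgebra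
  haveI : IsScalarTower Γ(S, W) (S.presheaf.stalk y) (S.residueField y) :=
    IsScalarTower.of_algebraMap_eq fun a => rfl
  exact (TensorProduct.AlgebraTensorModule.congr (LinearEquiv.refl (S.residueField y) (S.residueField y))
    hbc.equiv.symm ≪≫ₗ TensorProduct.AlgebraTensorModule.cancelBaseChange Γ(S, W) (S.presheaf.stalk y)
      (S.residueField y) (S.residueField y) Γ(M, W)).finrank_eq

variable {X S : Scheme.{u}} [IsNoetherian S] {f : X ⟶ S} [IsProper f]
  {L F : X.Modules} (hL : RelAmple.IsRelAmple f L) (hF : Coh.IsCoh F)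

include hL hF in
theorem isQCoh_push_tw (n : ℕ) :
    ((Coh.push f).obj (tw L F n)).IsQuasicoherent := by
  haveI := hF.1
  haveI : (tw L F n).IsQuasicoherent := isQCoh_twist F L (AmpleLib.isInvertible_of_isRelAmple hL) n
  exact QCoh.isQuasicoherent_pushforward _ _

/-- Sections over the image of an open subscheme as a module over its global functions. -/
@[reducible] def imgModule {S : Scheme.{u}} (V : S.Opens) (M : S.Modules) :
    Module Γ((V : Scheme.{u}), ⊤) Γ(M, V.ι ''ᵁ ⊤) :=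
  (inferInstance : Module Γ(S, V.ι ''ᵁ ⊤) Γ(M, V.ι ''ᵁ ⊤))

/-- The conclusion over one affine open of the base. -/
def CritOn (f : X ⟶ S) (L F : X.Modules) (V : S.Opens) (N : ℕ) (P : Set S) : Prop :=
  (∀ s ∈ V, ∃ s' ∈ P, ∀ n, N ≤ n →
    QRank.fibreRank ((Coh.push f).obj (tw L F n)) s =
      QRank.fibreRank ((Coh.push f).obj (tw L F n)) s') ∧
  ∀ (T X' : Scheme.{u}) [IsLocallyNoetherian T] (φ : T ⟶ S) (p : X' ⟶ X) (q : X' ⟶ T)
    (_ : IsPullback p q f φ) (W : T.Opens), IsAffineOpen W → W ≤ φ ⁻¹ᵁ V → ∀ N', N ≤ N' →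
    ((∀ x, q x ∈ W → FlatMod.IsFlatOverAt q ((Scheme.Modules.pullback p).obj F) x) ↔
      ∀ n, N' ≤ n → Module.Projective Γ(T, W)
        Γ((Scheme.Modules.pullback φ).obj ((Coh.push f).obj (tw L F n)), W))

include hL hF in
theorem exists_critOn_aux {V₀ : S.Opens} (hV₀ : IsAffineOpen V₀) :
    ∃ (N : ℕ) (P : Set S), P.Finite ∧ CritOn f L F (V₀.ι ''ᵁ ⊤) N P := by
  haveI := hF.1
  have hLi := AmpleLib.isInvertible_of_isRelAmple hL
  haveI : IsAffine (V₀ : Scheme.{u}) := hV₀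
  haveI : AlgebraicGeometry.IsNoetherian (V₀ : Scheme.{u}) := {}
  let fV := f ∣_ V₀
  let pr := (f ⁻¹ᵁ V₀).ι
  let LV := L.restrict pr
  let FV := F.restrict pr
  have hLV : CohB1.IsAmple LV := hL.2 ⟨V₀, hV₀⟩
  have hFV : Coh.IsCoh FV := CohDev.isCoh_of_iso
    ((Scheme.Modules.restrictFunctorIsoPullback pr).app F).symm
    (ZClosLib.CohDescent.isCoh_pullback pr F hF)
  haveI := hFV.1
  have hV : IsAffineOpen (V₀.ι ''ᵁ ⊤) := (isAffineOpen_top _).image_of_isOpenImmersion V₀.ι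
  obtain ⟨D⟩ := nonempty_model fV (isAffineOpen_top _)
  obtain ⟨N, P, hP, hgood, hfib⟩ := exists_uniform hLV hFV D
  -- the sections of the direct images
  letI : ∀ n, Module Γ((V₀ : Scheme.{u}), ⊤) Γ((Coh.push f).obj (tw L F n), V₀.ι ''ᵁ ⊤) := fun n =>
    imgModule V₀ _
  have hε : ∀ n, Nonempty (Γ((Coh.push fV).obj (tw LV FV n), ⊤) ≃ₗ[Γ((V₀ : Scheme.{u}), ⊤)]
      Γ((Coh.push f).obj (tw L F n), V₀.ι ''ᵁ ⊤)) := fun n => by
    obtain ⟨ε, hε⟩ := exists_twistPushEquiv f L F V₀ hLi n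
    exact ⟨{ ε with map_smul' := fun a m => hε a m }⟩
  let ε := fun n => (hε n).some
  refine ⟨N, (fun s : PrimeSpectrum Γ((V₀ : Scheme.{u}), ⊤) => hV.fromSpec s) '' P, hP.image _, fun s hs => ?_, ?_⟩
  · obtain ⟨s', hs', he⟩ := hfib (hV.primeIdealOf ⟨s, hs⟩) bot_le
    refine ⟨_, ⟨s', hs', rfl⟩, fun n hn => ?_⟩
    haveI := isQCoh_push_tw hL hF n
    haveI := (isCoh_tw' fV LV FV hLV hFV n).1
    have hmem : hV.fromSpec s' ∈ V₀.ι ''ᵁ ⊤ := hV.range_fromSpec.le ⟨s', rfl⟩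
    rw [fibreRank_eq_fib _ hV s hs, fibreRank_eq_fib _ hV (hV.fromSpec s') hmem,
      show hV.primeIdealOf ⟨hV.fromSpec s', hmem⟩ = s' from
        hV.fromSpec.isOpenEmbedding.injective (hV.fromSpec_primeIdealOf ⟨_, hmem⟩)]
    have e := z0Equiv fV (tw LV FV n) D ≪≫ₗ ε n
    exact (FlatCx.fib_congr _ e.symm).symm ▸ (FlatCx.fib_congr _ e.symm).symm ▸ he n hn
  intro T X' _ φ p q H W hW hWV N' hN'
  haveI : IsAffine (W : Scheme.{u}) := hW
  let W₁ := W.ι ''ᵁ (⊤ : (W : Scheme.{u}).Opens)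
  have hW₁ : W₁ = W := Scheme.Opens.ι_image_top W
  have hrange : Set.range (W.ι ≫ φ) ⊆ Set.range V₀.ι := by
    rintro _ ⟨w, rfl⟩
    obtain ⟨z, -, hz⟩ := (hWV w.2 : φ w.1 ∈ V₀.ι ''ᵁ ⊤)
    exact ⟨z, hz⟩
  let g := IsOpenImmersion.lift V₀.ι (W.ι ≫ φ) hrange
  have hg : g ≫ V₀.ι = W.ι ≫ φ := IsOpenImmersion.lift_fac _ _ _
  let qW := q ∣_ W
  let ι' := (q ⁻¹ᵁ W).ι
  have HW : IsPullback qW ι' W.ι q := isPullback_morphismRestrict q W
  have HV : IsPullback fV pr V₀.ι f := isPullback_morphismRestrict f V₀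
  have w : (qW ≫ g) ≫ V₀.ι = (ι' ≫ p) ≫ f := by
    rw [Category.assoc, hg, ← Category.assoc, HW.w, Category.assoc, Category.assoc, H.w]
  let pW := HV.lift (qW ≫ g) (ι' ≫ p) w
  have hpW : pW ≫ pr = ι' ≫ p := HV.lift_snd _ _ w
  have H' : IsPullback pW qW fV g := by
    refine IsPullback.of_right ?_ (HV.lift_fst _ _ w) HV.flip
    rw [hpW, hg]
    exact HW.flip.paste_horiz H
  have hle₁ : W₁ ≤ φ ⁻¹ᵁ (V₀.ι ''ᵁ ⊤) := hW₁.le.trans hWV
  letI : Algebra Γ((V₀ : Scheme.{u}), ⊤) Γ((W : Scheme.{u}), ⊤) :=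
    ((φ.appLE (V₀.ι ''ᵁ ⊤) W₁ hle₁).hom : Γ((V₀ : Scheme.{u}), ⊤) →+* Γ((W : Scheme.{u}), ⊤)).toAlgebra
  have halg : algebraMap Γ((V₀ : Scheme.{u}), ⊤) Γ((W : Scheme.{u}), ⊤) = (g.appLE ⊤ ⊤ le_top).hom :=
    RingHom.ext fun a => by
      have := appLE_image (π := φ) (h := W.ι) (j := V₀.ι) hg ⊤ le_top hle₁ a
      rw [Scheme.Opens.ι_appIso, Scheme.Opens.ι_appIso] at this
      exact this
  have hflat : FlatMod.IsFlatOver qW ((Scheme.Modules.pullback pW).obj FV) ↔
      ∀ x, q x ∈ W → FlatMod.IsFlatOverAt q ((Scheme.Modules.pullback p).obj F) x := by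
    haveI := QCoh.isQuasicoherent_pullback p F
    haveI : (((Scheme.Modules.pullback p).obj F).restrict ι').IsQuasicoherent :=
      (SheafOfModules.isQuasicoherent (q ⁻¹ᵁ W : Scheme.{u}).ringCatSheaf).prop_of_iso
        ((Scheme.Modules.restrictFunctorIsoPullback ι').app _).symm
        (QCoh.isQuasicoherent_pullback ι' _)
    let e : (Scheme.Modules.pullback pW).obj FV ≅ ((Scheme.Modules.pullback p).obj F).restrict ι' :=
      (Scheme.Modules.pullback pW).mapIso ((Scheme.Modules.restrictFunctorIsoPullback pr).app F) ≪≫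
        (Scheme.Modules.pullbackComp pW pr).app F ≪≫ (Scheme.Modules.pullbackCongr hpW).app F ≪≫
        ((Scheme.Modules.pullbackComp ι' p).app F).symm ≪≫
        ((Scheme.Modules.restrictFunctorIsoPullback ι').app _).symm
    refine Iff.trans ⟨fun h x => Groth.Agent.S17417.isFlatOverAt_of_iso qW e x (h x),
      fun h x => Groth.Agent.S17417.isFlatOverAt_of_iso qW e.symm x (h x)⟩
      ((isFlatOver_restrict_iff HW _).trans ⟨fun h x hx => h ⟨x, hx⟩, fun h x => h x.1 x.2⟩)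
  have hproj : ∀ n,
      Module.Projective Γ((W : Scheme.{u}), ⊤)
          (Γ((W : Scheme.{u}), ⊤) ⊗[Γ((V₀ : Scheme.{u}), ⊤)] Γ((Coh.push fV).obj (tw LV FV n), ⊤)) ↔
        Module.Projective Γ(T, W)
          Γ((Scheme.Modules.pullback φ).obj ((Coh.push f).obj (tw L F n)), W) := fun n => by
    refine Iff.trans ?_ (show Module.Projective Γ(T, W₁) Γ((Scheme.Modules.pullback φ).obj
      ((Coh.push f).obj (tw L F n)), W₁) ↔ _ by rw [hW₁])
    have h : W₁ ≤ φ ⁻¹ᵁ (V₀.ι ''ᵁ ⊤) := hW₁.le.trans hWV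
    haveI := isQCoh_push_tw hL hF n
    let M := (Coh.push f).obj (tw L F n)
    letI : Algebra Γ(S, V₀.ι ''ᵁ ⊤) Γ(T, W₁) := (φ.appLE (V₀.ι ''ᵁ ⊤) W₁ h).hom.toAlgebra
    letI := LimTop.secModule φ M h
    haveI : IsScalarTower Γ(S, V₀.ι ''ᵁ ⊤) Γ(T, W₁) Γ((Scheme.Modules.pullback φ).obj M, W₁) :=
      IsScalarTower.of_algebraMap_smul fun _ _ => rfl
    have hbc := LimTop.isBaseChange_unitSec φ M h hV (hW₁.symm ▸ hW)
    have key : Γ((W : Scheme.{u}), ⊤) ⊗[Γ((V₀ : Scheme.{u}), ⊤)] Γ((Coh.push fV).obj (tw LV FV n), ⊤)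
        ≃ₗ[Γ((W : Scheme.{u}), ⊤)]
        Γ((W : Scheme.{u}), ⊤) ⊗[Γ((V₀ : Scheme.{u}), ⊤)] Γ(M, V₀.ι ''ᵁ ⊤) :=
      TensorProduct.AlgebraTensorModule.congr (LinearEquiv.refl _ _) (ε n)
    have h1 : Module.Projective Γ((W : Scheme.{u}), ⊤)
          (Γ((W : Scheme.{u}), ⊤) ⊗[Γ((V₀ : Scheme.{u}), ⊤)] Γ((Coh.push fV).obj (tw LV FV n), ⊤)) ↔
        Module.Projective Γ((W : Scheme.{u}), ⊤)
          (Γ((W : Scheme.{u}), ⊤) ⊗[Γ((V₀ : Scheme.{u}), ⊤)] Γ(M, V₀.ι ''ᵁ ⊤)) :=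
      ⟨fun h => haveI := h; Module.Projective.of_equiv key,
        fun h => haveI := h; Module.Projective.of_equiv key.symm⟩
    have h2 : Module.Projective Γ(T, W₁) (Γ(T, W₁) ⊗[Γ(S, V₀.ι ''ᵁ ⊤)] Γ(M, V₀.ι ''ᵁ ⊤)) ↔
        Module.Projective Γ(T, W₁) Γ((Scheme.Modules.pullback φ).obj M, W₁) :=
      ⟨fun h => haveI := h; Module.Projective.of_equiv hbc.equiv,
        fun h => haveI := h; Module.Projective.of_equiv hbc.equiv.symm⟩
    exact h1.trans h2
  rw [← hflat]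
  haveI : IsLocallyNoetherian (W : Scheme.{u}) := inferInstance
  refine ⟨fun hfl n hn => (hproj n).1 ?_, fun h => ?_⟩
  · exact projective_of_flat hLV hFV D _ _ g pW qW H' halg (fun m hm k _ _ => hgood m hm k bot_le) hfl n
      (hN'.trans hn)
  · refine flat_of_projective hLV hFV _ _ g pW qW H' halg (N := N') fun n hn => ?_
    haveI := (hproj n).2 (h n hn)
    exact Module.Flat.of_projective

include hL hF in
theorem exists_critOn {V : S.Opens} (hV : IsAffineOpen V) :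
    ∃ (N : ℕ) (P : Set S), P.Finite ∧ CritOn f L F V N P := by
  have := exists_critOn_aux hL hF hV
  rwa [Scheme.Opens.ι_image_top] at this

include hL hF in
/-- Uniformly in the base change, flatness is finite local freeness of the pullbacks of the direct
images of large twists; and only finitely many rank sequences occur. -/
theorem exists_uniform_crit :
    ∃ (N : ℕ) (P : Set S), P.Finite ∧
      (∀ s : S, ∃ s' ∈ P, ∀ n, N ≤ n →
        QRank.fibreRank ((Coh.push f).obj (tw L F n)) s =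
          QRank.fibreRank ((Coh.push f).obj (tw L F n)) s') ∧
      ∀ (T X' : Scheme.{u}) [IsLocallyNoetherian T] (φ : T ⟶ S) (p : X' ⟶ X) (q : X' ⟶ T)
        (_ : IsPullback p q f φ), ∀ N', N ≤ N' →
        (FlatMod.IsFlatOver q ((Scheme.Modules.pullback p).obj F) ↔
          ∀ n, N' ≤ n → FlatMod.IsFinLocFree
            ((Scheme.Modules.pullback φ).obj ((Coh.push f).obj (tw L F n)))) := by
  classical
  choose N P hP hrk hcrit using fun V : S.affineOpens => exists_critOn hL hF V.2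
  obtain ⟨t, ht⟩ := isCompact_univ.elim_finite_subcover (fun V : S.affineOpens => (V.1 : Set S))
    (fun V => V.1.2) fun y _ => by
      obtain ⟨V, hV, hy, -⟩ := exists_isAffineOpen_mem_and_subset (U := (⊤ : S.Opens)) (x := y) trivial
      exact Set.mem_iUnion.2 ⟨⟨V, hV⟩, hy⟩
  refine ⟨t.sup N, ⋃ V ∈ t, P V, t.finite_toSet.biUnion fun V _ => hP V, fun s => ?_,
    fun T X' _ φ p q H N' hN' => ?_⟩
  · obtain ⟨V, hVt, hsV⟩ := Set.mem_iUnion₂.mp (ht (Set.mem_univ s))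
    obtain ⟨s', hs', he⟩ := hrk V s hsV
    exact ⟨s', Set.mem_biUnion hVt hs', fun n hn => he n ((Finset.le_sup hVt).trans hn)⟩
  have cov : ∀ t' : T, ∃ V ∈ t, ∃ W : T.Opens, IsAffineOpen W ∧ t' ∈ W ∧ W ≤ φ ⁻¹ᵁ V.1 := fun t' => by
    obtain ⟨V, hVt, hV⟩ := Set.mem_iUnion₂.mp (ht (Set.mem_univ (φ t')))
    obtain ⟨W, hW, hmem, hle⟩ := exists_isAffineOpen_mem_and_subset (U := φ ⁻¹ᵁ V.1) (x := t') hV
    exact ⟨V, hVt, W, hW, hmem, hle⟩
  constructor
  · intro hfl n hn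
    haveI := isQCoh_push_tw hL hF n
    haveI := QCoh.isQuasicoherent_pullback φ ((Coh.push f).obj (tw L F n))
    refine PinchLib.isFinLocFree_of_sections fun t' => ?_
    obtain ⟨V, hVt, W, hW, hmem, hle⟩ := cov t'
    haveI := (hcrit V T X' φ p q H W hW hle N' ((Finset.le_sup hVt).trans hN')).1 (fun x _ => hfl x) n hn
    refine ⟨W, hW, hmem, ?_, inferInstance⟩
    haveI : IsNoetherianRing Γ(T, W) := IsLocallyNoetherian.component_noetherian ⟨W, hW⟩
    haveI : IsNoetherianRing Γ(S, V.1) := IsLocallyNoetherian.component_noetherian V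
    letI := (φ.appLE V.1 W hle).hom.toAlgebra
    letI := LimTop.secModule φ ((Coh.push f).obj (tw L F n)) hle
    haveI : IsScalarTower Γ(S, V.1) Γ(T, W)
        Γ((Scheme.Modules.pullback φ).obj ((Coh.push f).obj (tw L F n)), W) :=
      IsScalarTower.of_algebraMap_smul fun _ _ => rfl
    haveI := (finite_and_flat_push f L F V.1 hL hF V.2).1 n
    haveI : Module.Finite Γ(T, W)
        Γ((Scheme.Modules.pullback φ).obj ((Coh.push f).obj (tw L F n)), W) :=
      Module.Finite.equiv (LimTop.isBaseChange_unitSec φ _ hle V.2 hW).equiv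
    exact Module.finitePresentation_of_finite _ _
  · intro h x
    obtain ⟨V, hVt, W, hW, hmem, hle⟩ := cov (q x)
    refine (hcrit V T X' φ p q H W hW hle N' ((Finset.le_sup hVt).trans hN')).2 (fun n hn => ?_) x hmem
    haveI := isQCoh_push_tw hL hF n
    haveI := QCoh.isQuasicoherent_pullback φ ((Coh.push f).obj (tw L F n))
    exact QProj.projective_sections _ (h n hn) hW

end Groth.Agent.TwistFlat
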