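import Groth.Agent.TwistFlat.FibAlg
import Groth.Agent.CBC.TensorCx
import Groth.Agent.AmpCrit.SerreVan
import Groth.Agent.ProjTwist.Pn.Coh
import Groth.Agent.ZClosLib.H0Spec
import Groth.Agent.ZClosLib.CohDescent

/-!
`H^i(X, F ⊗ L^n ⊗ M) = 0` and base change in degree zero for `n` large.
-/

set_option autoImplicit false
set_option linter.style.haveILetI false

universe u

open CategoryTheory CategoryTheory.Limits AlgebraicGeometry TopologicalSpace Opposite Function

noncomputable section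

namespace Groth.Agent.TwistFlat

open Groth.Agent.CBC Groth.Agent.ProjTwist

variable {A : Type u} [CommRing A] {X : Scheme.{u}} [X.Over (Spec (CommRingCat.of A))]
  (F : X.Modules) (L : X.Modules)

/-- twisting -/
abbrev twL (n : ℕ) : X.Modules ⥤ X.Modules :=
  (DCoh.tensorBi (X := X)).flip.obj (CohB1.tensorPow L n)

/-- `(F ⊗ M) ⊗ L^n ≅ (F ⊗ L^n) ⊗ M` -/
def twTA (n : ℕ) (M : ModuleCat.{u} A) :
    (twL L n).obj (tA (X := X) F M) ≅ tA (CohB1.tensorMod F (CohB1.tensorPow L n)) M :=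
  tensAssoc (pullTilde (X := X) M) F (CohB1.tensorPow L n)

theorem twTA_natural (n : ℕ) {M M' : ModuleCat.{u} A} (f : M ⟶ M') :
    (twL L n).map (tAMap F f) ≫ (twTA F L n M').hom =
      (twTA F L n M).hom ≫ tAMap (CohB1.tensorMod F (CohB1.tensorPow L n)) f := by
  have h := congrArg (fun φ => (φ.app F).app (CohB1.tensorPow L n))
    ((ModFlat.tensorBiAssoc X.sheaf).hom.naturality
      ((Scheme.Modules.pullback (X ↘ Spec (CommRingCat.of A))).map
        (tilde.map (R := CommRingCat.of A) f)))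
  exact h

theorem isCoh_tA [IsNoetherianRing A] (hF : Coh.IsCoh F) (M : ModuleCat.{u} A)
    [Module.Finite A M] : Coh.IsCoh (tA (X := X) F M) := by
  have h := ZClosLib.CohDescent.isCoh_pullback (X ↘ Spec (CommRingCat.of A))
    (tilde (R := CommRingCat.of A) M) (ZClosLib.H0Spec.isCoh_tilde A M)
  have := h.1
  have := h.2
  have := hF.1
  have := hF.2
  exact ⟨LimTop.TensorQC.isQuasicoherent_tensM _ F, LimTop.TensorQC.isFT_tensM _ F⟩

theorem isQCoh_twist [F.IsQuasicoherent] (hL : PicF.IsInvertible L) (n : ℕ) :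
    (CohB1.tensorMod F (CohB1.tensorPow L n)).IsQuasicoherent := by
  haveI : (CohB1.tensorPow L n).IsQuasicoherent :=
    ProjTwist.isQCoh_of_isInvertible (AmpleLib.isInvertible_tensorPow hL n)
  exact LimTop.TensorQC.isQuasicoherent_tensM F (CohB1.tensorPow L n)

theorem twL_obj (n : ℕ) (M : X.Modules) :
    (twL L n).obj M = CohB1.tensorMod M (CohB1.tensorPow L n) := rfl

theorem subsingleton_twL {n p : ℕ} {M : X.Modules}
    (h : Subsingleton (Coh.HH X (CohB1.tensorMod M (CohB1.tensorPow L n)) p)) :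
    Subsingleton (Coh.HH X ((twL L n).obj M) p) := by
  rw [twL_obj]
  exact h

theorem exists_hMap_g_eq' (W : X.Modules ⥤ X.Modules) [W.Additive] {P Q R : X.Modules}
    {a : P ⟶ Q} {b : Q ⟶ R} {w : a ≫ b = 0}
    (h : ((ShortComplex.mk a b w).map W).ShortExact) (hs : Subsingleton (Coh.HH X (W.obj P) 1)) :
    Surjective (CohLin.hMap (W.map b) 0) :=
  fun v => CohLin.exists_hMap_g_eq h v (hs.elim _ _)

theorem exists_hMap_f_eq' (W : X.Modules ⥤ X.Modules) [W.Additive] {P Q R : X.Modules}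
    {a : P ⟶ Q} {b : Q ⟶ R} {w : a ≫ b = 0}
    (h : ((ShortComplex.mk a b w).map W).ShortExact) (v : Coh.HH X (W.obj Q) 0)
    (hv : CohLin.hMap (W.map b) 0 v = 0) : ∃ y, CohLin.hMap (W.map a) 0 y = v :=
  CohLin.exists_hMap_f_eq h v hv

/-- Global sections of large twists of a right exact sequence stay right exact. -/
theorem exists_forall_sections_exact [IsNoetherianRing A] [IsLocallyNoetherian X]
    [IsProper (X ↘ Spec (CommRingCat.of A))] (hL : CohB1.IsAmple L) {S : ShortComplex X.Modules}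
    (hS : S.Exact) (hg : Epi S.g) (h1 : Coh.IsCoh S.X₁) (h2 : Coh.IsCoh S.X₂)
    (h3 : Coh.IsCoh S.X₃) :
    ∃ N : ℕ, ∀ n, N ≤ n →
      (∀ i, Subsingleton (Coh.HH X ((twL L n).obj S.X₃) (i + 1))) ∧
      Surjective (CohLin.hMap ((twL L n).map S.g) 0) ∧
      ∀ v, CohLin.hMap ((twL L n).map S.g) 0 v = 0 →
        ∃ w, CohLin.hMap ((twL L n).map S.f) 0 w = v := by
  let l := kernel.lift S.g S.f S.zero
  haveI : Epi l := S.exact_iff_epi_kernel_lift.1 hS
  haveI := hg
  have S1 := ProjTwist.Pn.shortExact_kernel S.g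
  have S2 := ProjTwist.Pn.shortExact_kernel l
  have hK1 : Coh.IsCoh (kernel S.g) := ProjTwist.Pn.isCoh_kernel _ h2 h3.1
  have hK2 : Coh.IsCoh (kernel l) := ProjTwist.Pn.isCoh_kernel _ h1 hK1.1
  obtain ⟨n1, e1⟩ := AmpCrit.SerreVan.serre_vanishing (X ↘ Spec (CommRingCat.of A)) hL _ hK1
  obtain ⟨n2, e2⟩ := AmpCrit.SerreVan.serre_vanishing (X ↘ Spec (CommRingCat.of A)) hL _ hK2
  obtain ⟨n3, e3⟩ := AmpCrit.SerreVan.serre_vanishing (X ↘ Spec (CommRingCat.of A)) hL _ h3
  refine ⟨max n1 (max n2 n3), fun n hn => ?_⟩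
  simp only [max_le_iff] at hn
  have E1 := ProjTwist.shortExact_tensor (AmpleLib.isInvertible_tensorPow hL.1 n) S1
  have E2 := ProjTwist.shortExact_tensor (AmpleLib.isInvertible_tensorPow hL.1 n) S2
  refine ⟨fun i => subsingleton_twL L (e3 n hn.2.2 (i + 1) i.succ_pos),
    exists_hMap_g_eq' (twL L n) E1 (subsingleton_twL L (e1 n hn.1 1 one_pos)), fun v hv => ?_⟩
  obtain ⟨w₁, hw₁⟩ := exists_hMap_f_eq' (twL L n) E1 v hv
  obtain ⟨w₂, hw₂⟩ := exists_hMap_g_eq' (twL L n) E2 (subsingleton_twL L (e2 n hn.2.1 1 one_pos)) w₁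
  refine ⟨w₂, ?_⟩
  rw [← hw₁, ← hw₂]
  refine Eq.trans ?_ (CohLin.hMap_comp _ _ 0 w₂)
  exact congrArg (fun φ => CohLin.hMap φ 0 w₂)
    (((twL L n).congr_map (kernel.lift_ι S.g S.f S.zero).symm).trans (Functor.map_comp _ _ _))

theorem preservesFiniteColimits_tensorA :
    PreservesFiniteColimits (CohIII.tensorAFunctor A (X := X) F) := by
  haveI : (tilde.functor (CommRingCat.of A)).IsLeftAdjoint :=
    (tilde.adjunction (R := CommRingCat.of A)).isLeftAdjoint
  haveI : PreservesColimitsOfSize.{u, u} (DCoh.tensorRightMod F) :=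
    KFlat.preservesColimitsOfSize_tensorBi_flip_obj (O := X.sheaf) F
  unfold CohIII.tensorAFunctor
  infer_instance

variable [IsNoetherianRing A] [IsLocallyNoetherian X] [IsProper (X ↘ Spec (CommRingCat.of A))]
  {ι : Type u} [Finite ι] (U : ι → X.Opens) (hcov : ⨆ i, U i = ⊤)
  (haff : ∀ {n : ℕ} (x : Fin (n + 1) → ι),
    IsAffineOpen (CohAff.inter (X := X.toPresheafedSpace.carrier) U x))

include hcov haff in
theorem exists_forall_quot_bijective (hF : Coh.IsCoh F) (hL : CohB1.IsAmple L) (I : Ideal A) :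
    ∃ N : ℕ, ∀ n, N ≤ n →
      (∀ i, Subsingleton
        ((KA (A := A) (CohB1.tensorMod F (CohB1.tensorPow L n)) U).H (A ⧸ I) (i + 1))) ∧
      Bijective ((KA (A := A) (CohB1.tensorMod F (CohB1.tensorPow L n)) U).Φ 0 (A ⧸ I)) := by
  obtain ⟨q, a, ha⟩ := Submodule.fg_iff_exists_fin_generating_family.1 (IsNoetherian.noetherian I)
  let fl : (Fin q → A) →ₗ[A] A :=
    ∑ i, (LinearMap.proj i : (Fin q → A) →ₗ[A] A).smulRight (a i)
  have hrange : LinearMap.range fl = I := by
    rw [← ha]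
    refine le_antisymm ?_ (Submodule.span_le.2 ?_)
    · rintro _ ⟨v, rfl⟩
      simp only [fl, LinearMap.sum_apply, LinearMap.smulRight_apply]
      exact Submodule.sum_mem _ fun i _ => Submodule.smul_mem _ _ (Submodule.subset_span ⟨i, rfl⟩)
    · rintro _ ⟨i, rfl⟩
      refine ⟨Pi.single i 1, ?_⟩
      simp [fl, Pi.single_apply]
  let fM : ModuleCat.of A (Fin q → A) ⟶ ModuleCat.of A A := ModuleCat.ofHom fl
  let gM : ModuleCat.of A A ⟶ ModuleCat.of A (A ⧸ I) := ModuleCat.ofHom (Submodule.mkQ I)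
  haveI : Epi gM := (ModuleCat.epi_iff_surjective _).2 (Submodule.mkQ_surjective I)
  have w : fM ≫ gM = 0 := by
    ext v
    refine (Submodule.Quotient.mk_eq_zero I).2 ?_
    exact hrange.le ⟨_, rfl⟩
  have hex : (ShortComplex.mk fM gM w).Exact := by
    rw [ShortComplex.moduleCat_exact_iff]
    intro x hx
    obtain ⟨v, hv⟩ := hrange.ge ((Submodule.Quotient.mk_eq_zero I).1 hx)
    exact ⟨v, hv⟩
  haveI := preservesFiniteColimits_tensorA (A := A) F
  obtain ⟨N, hN⟩ := exists_forall_sections_exact (A := A) (L := L) hL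
    (hex.map_of_epi_of_preservesCokernel (CohIII.tensorAFunctor A (X := X) F) inferInstance inferInstance)
    (inferInstanceAs (Epi ((CohIII.tensorAFunctor A (X := X) F).map gM)))
    (isCoh_tA F hF _) (isCoh_tA F hF _) (isCoh_tA F hF _)
  refine ⟨N, fun n hn => ?_⟩
  obtain ⟨hv, hsurj, hker⟩ := hN n hn
  let Fn := CohB1.tensorMod F (CohB1.tensorPow L n)
  haveI := hF.1
  haveI : Fn.IsQuasicoherent := isQCoh_twist F L hL.1 n
  have natg : ∀ (p : ℕ) x, CohLin.hMap (tAMap Fn gM) p (CohLin.hMap (twTA F L n _).hom p x) =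
      CohLin.hMap (twTA F L n _).hom p (CohLin.hMap ((twL L n).map (tAMap F gM)) p x) := fun p x => by
    refine (CohLin.hMap_comp _ _ p x).symm.trans (Eq.trans ?_ (CohLin.hMap_comp _ _ p x))
    exact congrArg (fun φ => CohLin.hMap φ p x) (twTA_natural F L n gM).symm
  have natf : ∀ (p : ℕ) x, CohLin.hMap (tAMap Fn fM) p (CohLin.hMap (twTA F L n _).hom p x) =
      CohLin.hMap (twTA F L n _).hom p (CohLin.hMap ((twL L n).map (tAMap F fM)) p x) := fun p x => by
    refine (CohLin.hMap_comp _ _ p x).symm.trans (Eq.trans ?_ (CohLin.hMap_comp _ _ p x))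
    exact congrArg (fun φ => CohLin.hMap φ p x) (twTA_natural F L n fM).symm
  refine ⟨fun i => ?_, Φ_quot_bijective _ a (Submodule.mkQ I) (Submodule.mkQ_surjective I)
    (fun i => (Submodule.Quotient.mk_eq_zero I).2 (ha.le (Submodule.subset_span ⟨i, rfl⟩))) ?_ ?_⟩
  · haveI : Subsingleton (Coh.HH X ((twL L n).obj (tA (X := X) F (ModuleCat.of A (A ⧸ I)))) (i + 1)) :=
      hv i
    haveI := (CohLin.hIso (twTA F L n (ModuleCat.of A (A ⧸ I))) (i + 1)).symm.toEquiv.subsingleton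
    exact (tH_bijective Fn U hcov haff (ModuleCat.of A (A ⧸ I)) (i + 1)).1.subsingleton
  · intro y
    obtain ⟨v, hv⟩ := (CohLin.hIso (twTA F L n (ModuleCat.of A (A ⧸ I))) 0).surjective
      (tH Fn U hcov haff (ModuleCat.of A (A ⧸ I)) 0 y)
    obtain ⟨x, hx⟩ := hsurj v
    obtain ⟨z, hz⟩ := (tH_bijective Fn U hcov haff (ModuleCat.of A A) 0).2
      (CohLin.hMap (twTA F L n (ModuleCat.of A A)).hom 0 x)
    refine ⟨z, (tH_bijective Fn U hcov haff (ModuleCat.of A (A ⧸ I)) 0).1 ?_⟩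
    refine (tH_natural Fn U hcov haff gM 0 z).trans ?_
    rw [hz, ← hv]
    exact (natg 0 x).trans (congrArg _ hx)
  · intro x hx
    obtain ⟨v, hv⟩ := (CohLin.hIso (twTA F L n (ModuleCat.of A A)) 0).surjective
      (tH Fn U hcov haff (ModuleCat.of A A) 0 x)
    have hv0 : CohLin.hMap ((twL L n).map (tAMap F gM)) 0 v = 0 := by
      refine (CohLin.hIso (twTA F L n (ModuleCat.of A (A ⧸ I))) 0).injective ?_
      rw [map_zero]
      refine (natg 0 v).symm.trans ?_
      refine (congrArg (CohLin.hMap (tAMap Fn gM) 0) hv).trans ?_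
      exact (tH_natural Fn U hcov haff gM 0 x).symm.trans ((congrArg _ hx).trans (map_zero _))
    obtain ⟨w, hw⟩ := hker v hv0
    obtain ⟨z, hz⟩ := (tH_bijective Fn U hcov haff (ModuleCat.of A (Fin q → A)) 0).2
      (CohLin.hMap (twTA F L n (ModuleCat.of A (Fin q → A))).hom 0 w)
    refine ⟨z, (tH_bijective Fn U hcov haff (ModuleCat.of A A) 0).1 ?_⟩
    refine (tH_natural Fn U hcov haff fM 0 z).trans ?_
    rw [hz, ← hv]
    exact (natf 0 w).trans (congrArg _ hw)

end Groth.Agent.TwistFlat
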