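import Groth.Agent.TwistFlat.FlatBC
import Groth.Agent.TwistFlat.FlatTensor
import Groth.Agent.TwistFlat.Vanish
import Groth.Agent.TwistFlat.Rel
import Groth.Agent.FlatMor.Strat.Global
import Groth.Agent.HomShQC.Basic
import Groth.Agent.GRLocus.Basic
import Groth.Agent.S17417
import Groth.Agent.FlatCx.Semicont

/-!
Uniform vanishing and base change for large twists over an affine Noetherian base, and the criterion
for flatness after an affine base change.
-/

set_option autoImplicit false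
set_option linter.style.haveILetI false

universe u

open CategoryTheory CategoryTheory.Limits AlgebraicGeometry TopologicalSpace Opposite Function
  TensorProduct

noncomputable section

namespace Groth.Agent.TwistFlat

open Groth.Agent.CBC

variable {X S : Scheme.{u}} [IsAffine S] [IsNoetherian S] (f : X ⟶ S) [IsProper f]
  (L F : X.Modules) (hL : CohB1.IsAmple L) (hF : Coh.IsCoh F)

/-- The twist. -/
abbrev tw (m : ℕ) : X.Modules := CohB1.tensorMod F (CohB1.tensorPow L m)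

include f hL hF in
theorem isCoh_tw' (m : ℕ) : Coh.IsCoh (tw L F m) :=
  haveI : IsLocallyNoetherian X := LocallyOfFiniteType.isLocallyNoetherian f
  haveI : CompactSpace X := hL.2.1
  haveI : AlgebraicGeometry.IsNoetherian X := {}
  ProjTwist.isCoh_tensor (AmpleLib.isInvertible_tensorPow hL.1 m) hF

instance : IsNoetherianRing Γ(S, ⊤) :=
  IsLocallyNoetherian.component_noetherian ⟨⊤, isAffineOpen_top S⟩

variable (D : Model f ⊤)

theorem subsingleton_H_top [F.IsQuasicoherent] (M : Type u) [AddCommGroup M] [Module Γ(S, ⊤) M]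
    (n : ℕ) (hn : Nat.card D.ι ≤ n) : Subsingleton ((D.K F).H M n) :=
  CBC.subsingleton_H (isAffineOpen_top S) D F M n hn

/-- Degree zero cycles are the global sections. -/
def z0Equiv [F.IsQuasicoherent] : (D.K F).Z₀ 0 ≃ₗ[Γ(S, ⊤)] Γ((Coh.push f).obj F, ⊤) :=
  (Submodule.quotEquivOfEqBot (((D.K F).B₀ 0).comap ((D.K F).Z₀ 0).subtype) (by
    ext z
    rw [Submodule.mem_comap, Submodule.mem_bot]
    exact ⟨fun h => Subtype.ext h, fun h => by rw [h]; exact zero_mem _⟩)).symm ≪≫ₗ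
    CBC.zeroEquiv D F

include hF in
theorem finite_Z₀ : Module.Finite Γ(S, ⊤) ((D.K F).Z₀ 0) :=
  haveI := hF.1
  haveI := CBC.finite_H₀ (isAffineOpen_top S) D F hF
    (fun A _ _ Z _ _ M hM n => Groth.Agent.S0002.result A Z M hM n) 0
  Module.Finite.equiv (Submodule.quotEquivOfEqBot (((D.K F).B₀ 0).comap ((D.K F).Z₀ 0).subtype) (by
    ext z
    rw [Submodule.mem_comap, Submodule.mem_bot]
    exact ⟨fun h => Subtype.ext h, fun h => by rw [h]; exact zero_mem _⟩))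

include hL hF in
theorem exists_forall_good_quot (I : Ideal Γ(S, ⊤)) :
    ∃ N : ℕ, ∀ n, N ≤ n → Good (D.K (tw L F n)) (Γ(S, ⊤) ⧸ I) := by
  letI : X.Over (Spec (CommRingCat.of Γ(S, ⊤))) := ⟨f ≫ S.isoSpec.hom⟩
  haveI : IsProper (X ↘ Spec (CommRingCat.of Γ(S, ⊤))) := by
    show IsProper (f ≫ S.isoSpec.hom)
    infer_instance
  haveI : IsLocallyNoetherian X := LocallyOfFiniteType.isLocallyNoetherian f
  haveI : CompactSpace X := hL.2.1
  have hφ : (φA (A := Γ(S, ⊤)) : Γ(S, ⊤) →+* Γ(X, ⊤)) = (f.app ⊤).hom := by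
    refine RingHom.ext fun a => ?_
    show ((f ≫ S.isoSpec.hom).appTop) ((Scheme.ΓSpecIso (CommRingCat.of Γ(S, ⊤))).inv a) = _
    rw [Scheme.Hom.comp_appTop, CommRingCat.comp_apply]
    refine congrArg (fun t => f.app ⊤ t) ?_
    rw [Scheme.isoSpec, asIso_hom, Scheme.toSpecΓ_appTop]
    exact Iso.inv_hom_id_apply (Scheme.ΓSpecIso Γ(S, ⊤)) a
  obtain ⟨N, hN⟩ := exists_forall_quot_bijective (A := Γ(S, ⊤)) F L D.U
    (top_le_iff.mp D.cov) D.aff hF hL I
  refine ⟨N, fun n hn => ?_⟩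
  have hK : KA (A := Γ(S, ⊤)) (tw L F n) D.U = D.K (tw L F n) := by
    show cx (φA (A := Γ(S, ⊤))) D.U (fun _ => le_top) (tw L F n) =
      cx (f.app ⊤).hom D.U D.hU (tw L F n)
    rw [hφ]
    rfl
  have := hN n hn
  rw [hK] at this
  exact this

theorem good_congr {A : Type u} [CommRing A] (K : SCx A) {M N : Type u} [AddCommGroup M]
    [Module A M] [AddCommGroup N] [Module A N] (e : M ≃ₗ[A] N) (h : Good K M) : Good K N := by
  have hi : ∀ p, Bijective (K.Hmap e.toLinearMap p) := fun p =>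
    ⟨LeftInverse.injective (g := K.Hmap e.symm.toLinearMap p) fun x => by
        rw [Hmap_comp, show e.symm.toLinearMap ∘ₗ e.toLinearMap = LinearMap.id from
          LinearMap.ext e.symm_apply_apply, Hmap_id],
      RightInverse.surjective (g := K.Hmap e.symm.toLinearMap p) fun x => by
        rw [Hmap_comp, show e.toLinearMap ∘ₗ e.symm.toLinearMap = LinearMap.id from
          LinearMap.ext e.apply_symm_apply, Hmap_id]⟩
  refine ⟨fun i => ?_, ?_⟩
  · haveI := h.1 i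
    exact (Equiv.ofBijective _ (hi (i + 1))).symm.subsingleton
  · have h1 : ⇑(K.Φ 0 N) ∘ ⇑(e.toLinearMap.rTensor (K.H A 0)) =
        ⇑(K.Hmap e.toLinearMap 0) ∘ ⇑(K.Φ 0 M) := funext fun z => (Φ_natural K e.toLinearMap 0 z).symm
    have h2 : Bijective (e.toLinearMap.rTensor (K.H A 0)) :=
      (TensorProduct.congr e (LinearEquiv.refl A _)).bijective
    refine (Bijective.of_comp_iff _ h2).1 ?_
    rw [h1]
    exact (hi 0).comp h.2

section BaseChange

variable {T X' : Scheme.{u}} [IsAffine T] (g : T ⟶ S) (p : X' ⟶ X) (q : X' ⟶ T)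
  (H : IsPullback p q f g) [Algebra Γ(S, ⊤) Γ(T, ⊤)]
  (halg : algebraMap Γ(S, ⊤) Γ(T, ⊤) = (g.appLE ⊤ ⊤ le_top).hom)

include H halg in
omit [AlgebraicGeometry.IsNoetherian S] [IsProper f] in
/-- Flatness of the pullback from flatness of base changed sections on a covering. -/
theorem isFlatOver_pullback_of_flat_tensor [F.IsQuasicoherent]
    (h : ∀ x : X, ∃ U : X.Opens, x ∈ U ∧ IsAffineOpen U ∧
      Module.Flat Γ(T, ⊤) (Γ(T, ⊤) ⊗[Γ(S, ⊤)] Sec (f.app ⊤).hom F (le_top : U ≤ f ⁻¹ᵁ ⊤))) :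
    FlatMod.IsFlatOver q ((Scheme.Modules.pullback p).obj F) := by
  intro x
  obtain ⟨U, hxU, hU, hflat⟩ := h (p x)
  haveI : ((Scheme.Modules.pullback p).obj F).IsQuasicoherent := QCoh.isQuasicoherent_pullback p F
  let V' : X'.Opens := LFDesc.over p q ⊤ U
  have hp : V' ≤ p ⁻¹ᵁ U := fun z hz => by
    have : z ∈ LFDesc.over p q (⊤ : T.Opens) U := hz
    simp only [LFDesc.over] at this
    exact this.1
  have hV'q : V' ≤ q ⁻¹ᵁ ⊤ := le_top
  have hb := kBC_bijective f g p q (le_top : ⊤ ≤ g ⁻¹ᵁ ⊤) halg F H.w (le_top : U ≤ f ⁻¹ᵁ ⊤) hp hV'q H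
    (isAffineOpen_top S) (isAffineOpen_top T) hU rfl
  haveI : Module.Flat Γ(T, ⊤) (Sec (q.app ⊤).hom ((Scheme.Modules.pullback p).obj F) hV'q) :=
    Module.Flat.of_linearEquiv (LinearEquiv.ofBijective _ hb).symm
  haveI : IsAffine _ := isAffineOpen_top S
  haveI : IsAffine _ := isAffineOpen_top T
  haveI : IsAffine _ := hU
  have hV' : IsAffineOpen V' :=
    .of_isIso (Scheme.Hom.isPullback_resLE H (US := ⊤) (UT := ⊤) (UX := U) (fun _ _ => trivial) (fun _ _ => trivial)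
      rfl).isoPullback.hom
  refine FlatSect.isFlatOverAt_of_flat_sections q (isAffineOpen_top T) hV' hV'q _ ‹_› x ?_
  show x ∈ LFDesc.over p q (⊤ : T.Opens) U
  simp only [LFDesc.over]
  exact ⟨hxU, trivial⟩

include H halg in
omit [AlgebraicGeometry.IsNoetherian S] in
/-- Flatness of the pullback makes the base changed Čech complexes flat. -/
theorem flat_bc_K [F.IsQuasicoherent] (hfl : FlatMod.IsFlatOver q ((Scheme.Modules.pullback p).obj F))
    (n : ℕ) : Module.Flat Γ(T, ⊤) (((D.K F).bc Γ(T, ⊤)).X n) := by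
  haveI : ((Scheme.Modules.pullback p).obj F).IsQuasicoherent := QCoh.isQuasicoherent_pullback p F
  have hflat := flat_cx (q.app ⊤).hom (bcCov p q (UT := ⊤) D.U) (bcCov_le p q D.U)
    ((Scheme.Modules.pullback p).obj F) (fun _ x => flat_sec q (isAffineOpen_top T) _
      (isAffineOpen_inter_bcCov f g p q (le_top : ⊤ ≤ g ⁻¹ᵁ ⊤) D.U D.hU H (isAffineOpen_top S)
        (isAffineOpen_top T) D.aff x) _ fun y _ => hfl y) n
  haveI := hflat
  exact Module.Flat.of_linearEquiv (LinearEquiv.ofBijective _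
    (cxBC_bijective f g p q (le_top : ⊤ ≤ g ⁻¹ᵁ ⊤) halg F D.U D.hU H.w H (isAffineOpen_top S)
      (isAffineOpen_top T) D.aff n))

include H halg hF in
omit [AlgebraicGeometry.IsNoetherian S] in
theorem finite_bc_H₀ [IsLocallyNoetherian T] (n : ℕ) :
    Module.Finite Γ(T, ⊤) (((D.K F).bc Γ(T, ⊤)).H₀ n) := by
  haveI := hF.1
  haveI : IsProper q := MorphismProperty.of_isPullback H inferInstance
  haveI : IsNoetherianRing Γ(T, ⊤) := IsLocallyNoetherian.component_noetherian ⟨⊤, isAffineOpen_top T⟩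
  let D' : Model q ⊤ :=
    { ι := D.ι
      fin := D.fin
      U := bcCov p q (UT := ⊤) D.U
      hU := bcCov_le p q D.U
      cov := fun x _ => (iSup_bcCov g p q D H le_top).ge trivial
      aff := isAffineOpen_inter_bcCov f g p q le_top D.U D.hU H (isAffineOpen_top S)
        (isAffineOpen_top T) D.aff }
  haveI := CBC.finite_H₀ (isAffineOpen_top T) D' ((Scheme.Modules.pullback p).obj F)
    (ZClosLib.CohDescent.isCoh_pullback p F hF)
    (fun A _ _ Z _ _ M hM n => Groth.Agent.S0002.result A Z M hM n) n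
  exact Module.Finite.equiv (LinearEquiv.ofBijective
    ((cxBC f g p q (le_top : ⊤ ≤ g ⁻¹ᵁ ⊤) halg F D.U D.hU H.w).h₀ n)
    (SCx.Hom.h₀_bijective _ (cxBC_bijective f g p q (le_top : ⊤ ≤ g ⁻¹ᵁ ⊤) halg F D.U D.hU H.w H
      (isAffineOpen_top S) (isAffineOpen_top T) D.aff) n)).symm

include H hL in
omit [IsAffine S] [AlgebraicGeometry.IsNoetherian S] [IsProper f] [IsAffine T] [Algebra Γ(S, ⊤) Γ(T, ⊤)] in
theorem isFlatOver_pullback_tw [F.IsQuasicoherent]
    (hfl : FlatMod.IsFlatOver q ((Scheme.Modules.pullback p).obj F)) (m : ℕ) :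
    FlatMod.IsFlatOver q ((Scheme.Modules.pullback p).obj (tw L F m)) := by
  have hi := AmpleLib.isInvertible_tensorPow hL.1 m
  haveI : ((Scheme.Modules.pullback p).obj F).IsQuasicoherent := QCoh.isQuasicoherent_pullback p F
  have := isFlatOver_tensor q ((Scheme.Modules.pullback p).obj F)
    (PicCl.isInvertible_pullback p hi) hfl
  exact fun x => Groth.Agent.S17417.isFlatOverAt_of_iso q
    (KFlat.PullTensor.pullTensorIso p F (CohB1.tensorPow L m)).symm x (this x)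

end BaseChange

variable {f L F}

/-- What is proved by induction along a stratification. -/
def Uniform (D : Model f ⊤) (L F : X.Modules) (I : Ideal Γ(S, ⊤)) : Prop :=
  ∃ (N : ℕ) (P : Set (PrimeSpectrum Γ(S, ⊤))), P.Finite ∧
    (∀ n, N ≤ n → ∀ (k : Type u) [Field k] [Algebra Γ(S, ⊤) k],
      I ≤ RingHom.ker (algebraMap Γ(S, ⊤) k) → Good (D.K (tw L F n)) k) ∧
    ∀ s : PrimeSpectrum Γ(S, ⊤), I ≤ s.asIdeal → ∃ s' ∈ P, ∀ n, N ≤ n →
      FlatCx.fib ((D.K (tw L F n)).Z₀ 0) s = FlatCx.fib ((D.K (tw L F n)).Z₀ 0) s'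

include hL hF in
/-- The stratum `V(I) ∩ D(a)` when `F` becomes flat over it. -/
theorem uniform_stratum (I I' : Ideal Γ(S, ⊤)) (a : Γ(S, ⊤)) (ha : a ∈ I')
    (hflat : ∀ i, FlatMor.Strat.FlatBtw I I' (Sec (f.app ⊤).hom F (le_top : D.U i ≤ f ⁻¹ᵁ ⊤))) :
    ∃ (N : ℕ) (P : Set (PrimeSpectrum Γ(S, ⊤))), P.Finite ∧
    (∀ n, N ≤ n → ∀ (k : Type u) [Field k] [Algebra Γ(S, ⊤) k],
      I ≤ RingHom.ker (algebraMap Γ(S, ⊤) k) → algebraMap Γ(S, ⊤) k a ≠ 0 →
        Good (D.K (tw L F n)) k) ∧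
    ∀ s : PrimeSpectrum Γ(S, ⊤), I ≤ s.asIdeal → a ∉ s.asIdeal → ∃ s' ∈ P, ∀ n, N ≤ n →
      FlatCx.fib ((D.K (tw L F n)).Z₀ 0) s = FlatCx.fib ((D.K (tw L F n)).Z₀ 0) s' := by
  haveI := hF.1
  obtain ⟨N, hN⟩ := exists_forall_good_quot f L F hL hF D I
  let B := Localization (Algebra.algebraMapSubmonoid (Γ(S, ⊤) ⧸ I) (Submonoid.powers a))
  let T := Spec (CommRingCat.of B)
  let g : T ⟶ S := Spec.map (CommRingCat.ofHom (algebraMap Γ(S, ⊤) B)) ≫ S.isoSpec.inv
  let B' := Γ(T, ⊤)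
  letI : Algebra Γ(S, ⊤) B' := (g.appLE ⊤ ⊤ le_top).hom.toAlgebra
  have halg : algebraMap Γ(S, ⊤) B' = (g.appLE ⊤ ⊤ le_top).hom := rfl
  have hcomm : ∀ c : Γ(S, ⊤), algebraMap Γ(S, ⊤) B' c =
      (Scheme.ΓSpecIso (CommRingCat.of B)).inv (algebraMap Γ(S, ⊤) B c) := fun c => by
    rw [halg, show g.appLE ⊤ ⊤ le_top = g.appTop from (Scheme.Hom.app_eq_appLE g).symm,
      Scheme.Hom.comp_appTop, CommRingCat.comp_apply]
    have h1 : S.isoSpec.inv.appTop c = (Scheme.ΓSpecIso Γ(S, ⊤)).inv c := by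
      apply (Scheme.ΓSpecIso Γ(S, ⊤)).commRingCatIsoToRingEquiv.injective
      show (Scheme.ΓSpecIso Γ(S, ⊤)).hom (S.isoSpec.inv.appTop c) = _
      rw [← Scheme.toSpecΓ_appTop]
      refine Eq.trans ?_ (Iso.inv_hom_id_apply (Scheme.ΓSpecIso Γ(S, ⊤)) c).symm
      show (S.isoSpec.inv.appTop ≫ S.isoSpec.hom.appTop) c = c
      rw [← Scheme.Hom.comp_appTop, Iso.hom_inv_id, Scheme.Hom.id_appTop]
      rfl
    rw [h1]
    exact congr($(Scheme.ΓSpecIso_inv_naturality (CommRingCat.ofHom (algebraMap Γ(S, ⊤) B))) c).symm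
  let ψ : B ≃ₐ[Γ(S, ⊤)] B' :=
    AlgEquiv.ofRingEquiv (f := (Scheme.ΓSpecIso (CommRingCat.of B)).commRingCatIsoToRingEquiv.symm)
      fun c => (hcomm c).symm
  have hI0 : I.map (algebraMap Γ(S, ⊤) B') = ⊥ := by
    refine le_bot_iff.1 (Ideal.map_le_iff_le_comap.2 fun c hc => ?_)
    rw [Ideal.mem_comap, Submodule.mem_bot, hcomm]
    rw [IsScalarTower.algebraMap_apply Γ(S, ⊤) (Γ(S, ⊤) ⧸ I) B,
      show algebraMap Γ(S, ⊤) (Γ(S, ⊤) ⧸ I) c = 0 from Ideal.Quotient.eq_zero_iff_mem.2 hc,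
      map_zero, map_zero]
  have hau : IsUnit (algebraMap Γ(S, ⊤) B a) := by
    rw [IsScalarTower.algebraMap_apply Γ(S, ⊤) (Γ(S, ⊤) ⧸ I) B]
    exact IsLocalization.map_units B
      (⟨_, Algebra.mem_algebraMapSubmonoid_of_mem (⟨a, 1, pow_one a⟩ : Submonoid.powers a)⟩ :
        Algebra.algebraMapSubmonoid (Γ(S, ⊤) ⧸ I) (Submonoid.powers a))
  have hI1 : I'.map (algebraMap Γ(S, ⊤) B') = ⊤ := by
    refine Ideal.eq_top_of_isUnit_mem _ (Ideal.mem_map_of_mem _ ha) ?_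
    rw [hcomm]
    exact hau.map _
  have H := IsPullback.of_hasPullback f g
  have hflT : FlatMod.IsFlatOver (pullback.snd f g) ((Scheme.Modules.pullback (pullback.fst f g)).obj F) :=
    isFlatOver_pullback_of_flat_tensor f F g _ _ H halg fun x => by
      obtain ⟨i, hi⟩ := Opens.mem_iSup.1 (D.cov (show x ∈ f ⁻¹ᵁ ⊤ from trivial))
      refine ⟨D.U i, hi, ?_, hflat i B' hI0 hI1⟩
      have := D.aff (n := 0) fun _ => i
      rwa [show CohAff.inter (X := X.toPresheafedSpace.carrier) D.U (fun _ : Fin 1 => i) = D.U i from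
        le_antisymm (CohAff.inter_le _ _ 0) (CohAff.le_inter fun _ => le_rfl)] at this
  -- coefficients in `B'`
  have hgoodB : ∀ n, N ≤ n → Good (D.K (tw L F n)) B' := fun n hn => by
    refine good_congr _ ψ.toLinearEquiv ?_
    have hloc : IsLocalizedModule (Submonoid.powers a)
        ((IsScalarTower.toAlgHom Γ(S, ⊤) (Γ(S, ⊤) ⧸ I) B).toLinearMap) :=
      isLocalizedModule_iff_isLocalization.2 inferInstance
    exact localized_coeff (D.K (tw L F n)) (Submonoid.powers a)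
      (IsScalarTower.toAlgHom Γ(S, ⊤) (Γ(S, ⊤) ⧸ I) B).toLinearMap (hN n hn).1 (hN n hn).2
  have hX : ∀ n j, Module.Flat B' (((D.K (tw L F n)).bc B').X j) := fun n j =>
    haveI := (isCoh_tw' f L F hL hF n).1
    flat_bc_K f _ D g _ _ H halg (isFlatOver_pullback_tw f L F hL g _ _ H hflT n) j
  have hr : ∀ n (M : Type u) [AddCommGroup M] [Module Γ(S, ⊤) M] (j : ℕ), Nat.card D.ι ≤ j →
      Subsingleton ((D.K (tw L F n)).H M j) := fun n M _ _ j hj =>
    haveI := (isCoh_tw' f L F hL hF n).1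
    subsingleton_H_top f _ D M j hj
  haveI : IsNoetherianRing B :=
    IsLocalization.isNoetherianRing (Algebra.algebraMapSubmonoid (Γ(S, ⊤) ⧸ I) (Submonoid.powers a))
      B inferInstance
  haveI : IsNoetherianRing B' := isNoetherianRing_of_ringEquiv B ψ.toRingEquiv
  haveI : IsLocallyNoetherian T := inferInstanceAs (IsLocallyNoetherian (Spec (CommRingCat.of B)))
  have hproj : ∀ n, N ≤ n → Module.Projective B' (B' ⊗[Γ(S, ⊤)] (D.K (tw L F n)).Z₀ 0) :=
    fun n hn => by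
      haveI := finite_Z₀ f _ (isCoh_tw' f L F hL hF n) D
      exact projective_of_good (D.K (tw L F n)) B' (hX n) (hr n)
        (finite_bc_H₀ f _ (isCoh_tw' f L F hL hF n) D g _ _ H halg)
        fun q _ => good_of_bc _ B' (hX n) (hr n) (hgoodB n hn) (B' ⧸ q)
  refine ⟨N, PrimeSpectrum.comap (algebraMap Γ(S, ⊤) B') '' {m | m.asIdeal ∈ minimalPrimes B'},
    ((minimalPrimes.finite_of_isNoetherianRing B').preimage
      (fun _ _ _ _ h => PrimeSpectrum.ext h)).image _, fun n hn k _ _ hIk hak => ?_,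
    fun s hIs has => ?_⟩
  · -- the algebra structure on `k`
    let φ₁ : Γ(S, ⊤) ⧸ I →ₐ[Γ(S, ⊤)] k := Ideal.Quotient.liftₐ I (Algebra.ofId Γ(S, ⊤) k) fun c hc => hIk hc
    let φ₂ : B →ₐ[Γ(S, ⊤)] k := IsLocalization.liftAlgHom
      (M := Algebra.algebraMapSubmonoid (Γ(S, ⊤) ⧸ I) (Submonoid.powers a)) (S := B) (f := φ₁) (by
        rintro ⟨_, _, ⟨e, rfl⟩, rfl⟩
        rw [AlgHom.commutes]
        show IsUnit (algebraMap Γ(S, ⊤) k (a ^ e))
        rw [map_pow]
        exact (isUnit_iff_ne_zero.2 hak).pow e)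
    letI : Algebra B' k := (φ₂.comp ψ.symm.toAlgHom).toRingHom.toAlgebra
    haveI : IsScalarTower Γ(S, ⊤) B' k :=
      IsScalarTower.of_algebraMap_eq fun c => ((φ₂.comp ψ.symm.toAlgHom).commutes c).symm
    exact good_of_bc _ B' (hX n) (hr n) (hgoodB n hn) k
  · obtain ⟨y, rfl⟩ : ∃ y : PrimeSpectrum B', PrimeSpectrum.comap (algebraMap Γ(S, ⊤) B') y = s := by
      haveI := s.isPrime
      let κ := s.asIdeal.ResidueField
      have hker : RingHom.ker (algebraMap Γ(S, ⊤) κ) = s.asIdeal := Ideal.ker_algebraMap_residueField _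
      let φ₁ : Γ(S, ⊤) ⧸ I →ₐ[Γ(S, ⊤)] κ :=
        Ideal.Quotient.liftₐ I (Algebra.ofId Γ(S, ⊤) κ) fun c hc => hker.ge (hIs hc)
      let φ₂ : B →ₐ[Γ(S, ⊤)] κ := IsLocalization.liftAlgHom
        (M := Algebra.algebraMapSubmonoid (Γ(S, ⊤) ⧸ I) (Submonoid.powers a)) (S := B) (f := φ₁) (by
          rintro ⟨_, _, ⟨e, rfl⟩, rfl⟩
          rw [AlgHom.commutes]
          show IsUnit (algebraMap Γ(S, ⊤) κ (a ^ e))
          rw [map_pow]
          exact (isUnit_iff_ne_zero.2 fun h0 => has (hker.le h0)).pow e)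
      let φ := φ₂.comp ψ.symm.toAlgHom
      haveI : (RingHom.ker φ.toRingHom).IsPrime := RingHom.ker_isPrime _
      refine ⟨⟨RingHom.ker φ.toRingHom, inferInstance⟩, PrimeSpectrum.ext ?_⟩
      refine Eq.trans ?_ hker
      ext c
      show φ (algebraMap Γ(S, ⊤) B' c) = 0 ↔ algebraMap Γ(S, ⊤) κ c = 0
      rw [φ.commutes]
    obtain ⟨m, hm, hmy⟩ := Ideal.exists_minimalPrimes_le (I := (⊥ : Ideal B')) (J := y.asIdeal) bot_le
    refine ⟨_, ⟨⟨m, hm.1.1⟩, hm, rfl⟩, fun n hn => ?_⟩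
    haveI := finite_Z₀ f _ (isCoh_tw' f L F hL hF n) D
    haveI := hproj n hn
    haveI : Module.FinitePresentation B' (B' ⊗[Γ(S, ⊤)] (D.K (tw L F n)).Z₀ 0) :=
      Module.finitePresentation_of_finite _ _
    rw [← FlatCx.fib_bc, ← FlatCx.fib_bc]
    have hsp : (⟨m, hm.1.1⟩ : PrimeSpectrum B') ⤳ y :=
      (PrimeSpectrum.le_iff_specializes _ _).1 hmy
    exact ((hsp.map (FlatCx.isLocallyConstant_fib (A := B')
      (B' ⊗[Γ(S, ⊤)] (D.K (tw L F n)).Z₀ 0)).continuous).eq).symm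

include hL hF in
theorem exists_uniform : Uniform D L F ⊥ := by
  classical
  haveI := hF.1
  haveI : IsLocallyNoetherian X := LocallyOfFiniteType.isLocallyNoetherian f
  haveI : LocallyOfFinitePresentation f := GRLocus.locallyOfFinitePresentation_of_lft f
  obtain ⟨J', -, hJ', -, hchain⟩ := FlatMor.Strat.exists_chain
    (fun i : D.ι => Sec (f.app ⊤).hom F (le_top : D.U i ≤ f ⁻¹ᵁ ⊤)) (fun i => by
      have h1 := D.aff (n := 0) fun _ => i
      rw [show CohAff.inter (X := X.toPresheafedSpace.carrier) D.U (fun _ : Fin 1 => i) = D.U i from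
        le_antisymm (CohAff.inter_le _ _ 0) (CohAff.le_inter fun _ => le_rfl)] at h1
      exact FlatMor.Strat.exists_presentation f F (HomShQC.isFP_of_isCoh F hF) (isAffineOpen_top S) h1
        le_top) ⊥ Submodule.fg_bot
  suffices key : Uniform D L F J' by
    obtain ⟨N, P, hP, h1, h2⟩ := key
    refine ⟨N, P, hP, fun n hn k _ _ _ => h1 n hn k fun c hc => ?_,
      fun s _ => h2 s fun c hc => ?_⟩
    · obtain ⟨e, he⟩ := hJ' hc
      rw [RingHom.mem_ker]
      refine eq_zero_of_pow_eq_zero (n := e) ?_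
      rw [← map_pow, (Submodule.mem_bot _).1 he, map_zero]
    · obtain ⟨e, he⟩ := hJ' hc
      exact s.isPrime.mem_of_pow_mem e (((Submodule.mem_bot _).1 he).symm ▸ zero_mem _)
  clear hJ'
  induction hchain using Relation.ReflTransGen.head_induction_on with
  | refl =>
    exact ⟨0, ∅, Set.finite_empty,
      fun n _ k _ _ hk => absurd (hk (Submodule.mem_top : (1 : Γ(S, ⊤)) ∈ ⊤)) (by simp),
      fun s hs => absurd (top_le_iff.1 hs) s.isPrime.ne_top⟩
  | @head I I' hstep _ ih =>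
    obtain ⟨-, hfg, hflat⟩ := hstep
    obtain ⟨G, hG⟩ := hfg
    obtain ⟨N₀, P₀, hP₀, hg₀, hf₀⟩ := ih
    choose N P hP hg hf using fun a : G => uniform_stratum hL hF D I I' a.1
      (hG ▸ Submodule.subset_span a.2) hflat
    refine ⟨max N₀ (Finset.univ.sup N), P₀ ∪ ⋃ a, P a, hP₀.union (Set.finite_iUnion hP),
      fun n hn k _ _ hk => ?_, fun s hs => ?_⟩
    · by_cases h : ∀ a ∈ G, algebraMap Γ(S, ⊤) k a = 0
      · refine hg₀ n ((le_max_left _ _).trans hn) k ?_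
        rw [← hG]
        exact Submodule.span_le.2 fun a ha => RingHom.mem_ker.2 (h a ha)
      · push_neg at h
        obtain ⟨a, ha, ha0⟩ := h
        exact hg ⟨a, ha⟩ n (((Finset.le_sup (Finset.mem_univ _)).trans (le_max_right _ _)).trans hn) k
          hk ha0
    · by_cases h : ∀ a ∈ G, a ∈ s.asIdeal
      · obtain ⟨s', hs', he⟩ := hf₀ s (by rw [← hG]; exact Submodule.span_le.2 h)
        exact ⟨s', Or.inl hs', fun n hn => he n ((le_max_left _ _).trans hn)⟩
      · push_neg at h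
        obtain ⟨a, ha, ha0⟩ := h
        obtain ⟨s', hs', he⟩ := hf ⟨a, ha⟩ s hs ha0
        exact ⟨s', Or.inr (Set.mem_iUnion.2 ⟨_, hs'⟩), fun n hn =>
          he n (((Finset.le_sup (Finset.mem_univ _)).trans (le_max_right _ _)).trans hn)⟩

section Crit

variable (T X' : Scheme.{u}) [IsAffine T] (g : T ⟶ S) (p : X' ⟶ X) (q : X' ⟶ T)
  (H : IsPullback p q f g) [Algebra Γ(S, ⊤) Γ(T, ⊤)]
  (halg : algebraMap Γ(S, ⊤) Γ(T, ⊤) = (g.appLE ⊤ ⊤ le_top).hom)

include hL hF H halg in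
/-- Flatness makes the base changed direct images of large twists projective. -/
theorem projective_of_flat [IsLocallyNoetherian T] {N : ℕ}
    (hN : ∀ n, N ≤ n → ∀ (k : Type u) [Field k] [Algebra Γ(S, ⊤) k], Good (D.K (tw L F n)) k)
    (hfl : FlatMod.IsFlatOver q ((Scheme.Modules.pullback p).obj F)) (n : ℕ) (hn : N ≤ n) :
    Module.Projective Γ(T, ⊤) (Γ(T, ⊤) ⊗[Γ(S, ⊤)] Γ((Coh.push f).obj (tw L F n), ⊤)) := by
  haveI := hF.1
  haveI := (isCoh_tw' f L F hL hF n).1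
  haveI : IsNoetherianRing Γ(T, ⊤) := IsLocallyNoetherian.component_noetherian ⟨⊤, isAffineOpen_top T⟩
  haveI := finite_Z₀ f _ (isCoh_tw' f L F hL hF n) D
  haveI := projective_of_good (D.K (tw L F n)) Γ(T, ⊤)
    (flat_bc_K f _ D g p q H halg (isFlatOver_pullback_tw f L F hL g p q H hfl n))
    (fun M _ _ j hj => subsingleton_H_top f _ D M j hj)
    (finite_bc_H₀ f _ (isCoh_tw' f L F hL hF n) D g p q H halg) fun I hI =>
      letI := Ideal.Quotient.field I
      hN n hn (Γ(T, ⊤) ⧸ I)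
  exact Module.Projective.of_equiv
    (TensorProduct.AlgebraTensorModule.congr (LinearEquiv.refl Γ(T, ⊤) Γ(T, ⊤)) (z0Equiv f (tw L F n) D))

include hL hF H halg in
/-- Projectivity of the base changed direct images of large twists gives flatness. -/
theorem flat_of_projective {N : ℕ} (h : ∀ n, N ≤ n →
      Module.Flat Γ(T, ⊤) (Γ(T, ⊤) ⊗[Γ(S, ⊤)] Γ((Coh.push f).obj (tw L F n), ⊤))) :
    FlatMod.IsFlatOver q ((Scheme.Modules.pullback p).obj F) := by
  haveI := hF.1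
  refine isFlatOver_pullback_of_flat_tensor f F g p q H halg fun x => ?_
  haveI : CompactSpace X := hL.2.1
  haveI : QuasiSeparatedSpace X := quasiSeparatedSpace_of_quasiSeparated f
  obtain ⟨d, s, hxs, hU⟩ := hL.2.2 x
  refine ⟨_, hxs, hU, ?_⟩
  change Module.Flat Γ(T, ⊤) (Γ(T, ⊤) ⊗[Γ(S, ⊤)]
    Sec (f.app ⊤).hom F (le_top : CohB1.genLocus (CohB1.tensorPow L (d + 1)) s ≤ f ⁻¹ᵁ ⊤))
  letI : Module Γ(S, ⊤) Γ(F, CohB1.genLocus (CohB1.tensorPow L (d + 1)) s) :=
    Module.compHom _ (f.appLE ⊤ (CohB1.genLocus (CohB1.tensorPow L (d + 1)) s) le_top).hom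
  refine flat_tensor_of_factor Γ(T, ⊤) fun Q hQ => ?_
  obtain ⟨k, hk, g', σ, hσ⟩ := exists_factor_genLocus f (AmpleLib.isInvertible_tensorPow hL.1 (d + 1))
    s rfl F N le_top Q hQ
  obtain ⟨φ, -⟩ := AmpleLib.exists_iso_tensorPow_mul hL.1 (d + 1) k
  let E := isoSec f (V := ⊤) (ProjTwist.tensCongr (Iso.refl F) φ)
  refine ⟨_, inferInstance, inferInstance,
    h ((d + 1) * k) (hk.trans (Nat.le_mul_of_pos_left k d.succ_pos)),
    g' ∘ₗ E.symm.toLinearMap, E.toLinearMap ∘ₗ σ, LinearMap.ext fun x => ?_⟩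
  simp only [LinearMap.comp_apply, LinearEquiv.coe_coe, LinearEquiv.symm_apply_apply]
  exact LinearMap.congr_fun hσ x

end Crit

end Groth.Agent.TwistFlat
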